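import Groth.Agent.Lib.Helper5.RDerShift

/-!
# Right derived functors of a composite `E ⋙ G` with `E` exact sending injectives to `G`-acyclics

`AcyclicComp.nonempty_iso`: if `E : A ⥤ B` is exact, `G : B ⥤ D` is left exact and
`R^{k+1}G (E I) = 0` for all injective `I`, then `R^n(E ⋙ G)(X) ≅ R^nG(E X)`.
-/

universe v u v' u' v'' u''

namespace Groth.Agent.Lib.Helper83.AcyclicComp

open CategoryTheory Limits Groth.Agent.Lib.Helper83 Groth.Agent.Lib.Helper5

section shift

variable {C : Type u} [Category.{v} C] [Abelian C] [HasInjectiveResolutions C]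
  {D : Type u'} [Category.{v'} D] [Abelian D] (Φ : C ⥤ D) [Φ.Additive]
  {S : ShortComplex C} (hS : S.ShortExact)

include hS

lemma isIso_δ_of_isZero (n : ℕ) (h1 : IsZero ((Φ.rightDerived (n + 1)).obj S.X₂))
    (h2 : IsZero ((Φ.rightDerived (n + 2)).obj S.X₂)) :
    IsIso ((derivedLES Φ).δ S hS (n + 1) (n + 2) rfl) := by
  have he : Epi ((derivedLES Φ).δ S hS (n + 1) (n + 2) rfl) :=
    ((derivedLES Φ).exact₁ S hS (n + 1) (n + 2) rfl).epi_f (h2.eq_of_tgt _ _)
  have hm : Mono ((derivedLES Φ).δ S hS (n + 1) (n + 2) rfl) :=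
    ((derivedLES Φ).exact₃ S hS (n + 1) (n + 2) rfl).mono_g (h1.eq_of_src _ _)
  exact isIso_of_mono_of_epi _

variable [PreservesFiniteLimits Φ]

lemma exact_and_epi_of_isZero (h1 : IsZero ((Φ.rightDerived 1).obj S.X₂)) :
    ∃ (π : Φ.obj S.X₃ ⟶ (Φ.rightDerived 1).obj S.X₁) (w : Φ.map S.g ≫ π = 0),
      (ShortComplex.mk (Φ.map S.g) π w).Exact ∧ Epi π := by
  let e := Φ.rightDerivedZeroIsoSelf
  let δ := (derivedLES Φ).δ S hS 0 1 rfl
  have hex := (derivedLES Φ).exact₃ S hS 0 1 rfl
  have hδ : Epi δ := ((derivedLES Φ).exact₁ S hS 0 1 rfl).epi_f (h1.eq_of_tgt _ _)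
  have w : Φ.map S.g ≫ (e.inv.app S.X₃ ≫ δ) = 0 := by
    rw [← Category.assoc, e.inv.naturality, Category.assoc]
    have := (derivedLES Φ).comp_δ S hS 0 1 rfl
    change e.inv.app S.X₂ ≫ (Φ.rightDerived 0).map S.g ≫ (derivedLES Φ).δ S hS 0 1 rfl = 0
    rw [this, comp_zero]
  refine ⟨e.inv.app S.X₃ ≫ δ, w, ?_, epi_comp _ _⟩
  let S₁ : ShortComplex D := ShortComplex.mk ((Φ.rightDerived 0).map S.g) δ
    ((derivedLES Φ).comp_δ S hS 0 1 rfl)
  let S₂ : ShortComplex D := ShortComplex.mk (Φ.map S.g) (e.inv.app S.X₃ ≫ δ) w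
  have iso : S₁ ≅ S₂ := ShortComplex.isoMk (e.app S.X₂) (e.app S.X₃) (Iso.refl _)
    (e.hom.naturality S.g).symm (by
      dsimp [S₁, S₂]
      rw [Category.comp_id, Iso.hom_inv_id_app_assoc])
  exact ShortComplex.exact_of_iso iso hex

end shift

section main

variable {A : Type u} [Category.{v} A] [Abelian A] [HasInjectiveResolutions A]
  {B : Type u'} [Category.{v'} B] [Abelian B] [HasInjectiveResolutions B]
  {D : Type u''} [Category.{v''} D] [Abelian D]
  (E : A ⥤ B) [E.Additive] [PreservesFiniteLimits E] [PreservesFiniteColimits E]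
  (G : B ⥤ D) [G.Additive] [PreservesFiniteLimits G]

set_option backward.isDefEq.respectTransparency false in
omit [HasInjectiveResolutions B] in
lemma enoughInjectives : EnoughInjectives A :=
  ⟨fun X => ⟨{ J := (injectiveResolution X).cocomplex.X 0
               injective := (injectiveResolution X).injective 0
               f := (injectiveResolution X).ι.f 0
               mono := inferInstance }⟩⟩

/-- the standard short exact sequence `0 ⟶ Y ⟶ I ⟶ Q ⟶ 0` with `I` injective -/
noncomputable abbrev sesInj [EnoughInjectives A] (Y : A) : ShortComplex A :=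
  ShortComplex.mk (Injective.ι Y) (cokernel.π (Injective.ι Y)) (cokernel.condition _)

omit [HasInjectiveResolutions A] in
lemma sesInj_shortExact [EnoughInjectives A] (Y : A) : (sesInj Y).ShortExact where
  exact := ShortComplex.exact_of_g_is_cokernel _ (cokernelIsCokernel _)
  mono_f := inferInstanceAs (Mono (Injective.ι Y))
  epi_g := inferInstanceAs (Epi (cokernel.π (Injective.ι Y)))

/-- **Acyclic composition**: if the exact functor `E` sends injectives to `G`-acyclic objects, the
derived functors of `E ⋙ G` are `E ⋙ R^nG` (objectwise). -/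
theorem nonempty_iso
    (hE : ∀ I : A, Injective I → ∀ k : ℕ, IsZero ((G.rightDerived (k + 1)).obj (E.obj I)))
    (n : ℕ) : ∀ X : A,
    Nonempty (((E ⋙ G).rightDerived n).obj X ≅ (G.rightDerived n).obj (E.obj X)) := by
  have : EnoughInjectives A := enoughInjectives
  have : PreservesFiniteLimits (E ⋙ G) := comp_preservesFiniteLimits E G
  have hSE : ∀ X : A, ((sesInj X).map E).ShortExact := fun X => (sesInj_shortExact X).map_of_exact E
  induction n using Nat.twoStepInduction with
  | zero =>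
    intro X
    exact ⟨(E ⋙ G).rightDerivedZeroIsoSelf.app X ≪≫ (G.rightDerivedZeroIsoSelf.app (E.obj X)).symm⟩
  | one =>
    intro X
    have hS := sesInj_shortExact X
    obtain ⟨π₁, w₁, hex₁, hπ₁⟩ := exact_and_epi_of_isZero (E ⋙ G) hS
      ((E ⋙ G).isZero_rightDerived_obj_injective_succ 0 _)
    obtain ⟨π₂, w₂, hex₂, hπ₂⟩ := exact_and_epi_of_isZero G (hSE X)
      (hE _ inferInstance 0)
    have c₁ := hex₁.gIsCokernel
    have c₂ := hex₂.gIsCokernel
    exact ⟨IsColimit.coconePointUniqueUpToIso c₁ c₂⟩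
  | more n _ ih =>
    intro X
    have hS := sesInj_shortExact X
    obtain ⟨e⟩ := ih (sesInj X).X₃
    have i₁ := isIso_δ_of_isZero (E ⋙ G) hS n
      ((E ⋙ G).isZero_rightDerived_obj_injective_succ n _)
      ((E ⋙ G).isZero_rightDerived_obj_injective_succ (n + 1) _)
    have i₂ : IsIso ((derivedLES G).δ _ (hSE X) (n + 1) (n + 2) rfl) :=
      isIso_δ_of_isZero G (hSE X) n (hE _ inferInstance n) (hE _ inferInstance (n + 1))
    exact ⟨(asIso ((derivedLES (E ⋙ G)).δ _ hS (n + 1) (n + 2) rfl)).symm ≪≫ e ≪≫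
      @asIso _ _ _ _ ((derivedLES G).δ _ (hSE X) (n + 1) (n + 2) rfl) i₂⟩

end main

end Groth.Agent.Lib.Helper83.AcyclicComp
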