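import Groth.Agent.Lib.Helper83.ModAcyclic
import Groth.Agent.Lib.Helper83.AcyclicComp
import Groth.Agent.Lib.Helper33.ExtRightDerived
import Groth.Agent.Lib.Helper30.ModEpi
import Groth.Agent.S0485

/-!
# Cohomology of sheaves of modules vs. cohomology of the underlying abelian sheaves

* `ModCoh.nonempty_ext_addEquiv`: `Ext^n_R(L N, M) ≃+ Ext^n_ℤ(ℤ[N]^#, M_ab)` for a presheaf of sets `N`
  for which injective modules are acyclic (`L N` = free sheaf of modules on `N`).
* `ModCoh.unitIso : L(pt) ≅ unit R`, `ModCoh.constIso : ℤ[pt]^# ≅ constant sheaf ℤ`.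
* `ModCoh.nonempty_ext_unit_addEquiv_H`: `Ext^n_R(R, M) ≃+ H^n(C, M_ab)` (= S0491).
* `toSheaf R` is exact (`PreservesFiniteColimits` instance); `EnoughInjectives (SheafOfModules R)`.
-/

set_option autoImplicit false
universe u
open CategoryTheory Limits Opposite Abelian

namespace Groth.Agent.Lib.Helper83.ModCoh

open Groth.Agent.Lib.Helper83.ModCech

variable {C : Type u} [SmallCategory C] {J : GrothendieckTopology C} (R : Sheaf J RingCat.{u})

instance : (SheafOfModules.toSheaf.{u} R).PreservesEpimorphisms where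
  preserves f _ := by
    have h1 : Sheaf.IsLocallySurjective ((SheafOfModules.toSheaf R).map f) :=
      Groth.Agent.Lib.Helper30.ModEpi.isLocallySurjective_of_epi f
    exact (Sheaf.isLocallySurjective_iff_epi' (φ := (SheafOfModules.toSheaf R).map f)).1 h1

instance : PreservesFiniteColimits (SheafOfModules.toSheaf.{u} R) :=
  Groth.Agent.Lib.Helper30.ModEpi.preservesFiniteColimits_of_preservesEpi _

instance : EnoughInjectives (SheafOfModules.{u} R) := Groth.Agent.S0485.result J R

/-- `phi` as an additive equivalence -/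
noncomputable def phiAdd (N : Cᵒᵖ ⥤ Type u) (M : SheafOfModules.{u} R) :
    ((L R).obj N ⟶ M) ≃+ ((LZ J).obj N ⟶ (SheafOfModules.toSheaf R).obj M) :=
  { toEquiv := phi R N M
    map_add' := fun g g' => by
      show phi R N M (g + g') = phi R N M g + phi R N M g'
      rw [phi_apply, phi_apply, phi_apply, Functor.map_add, Preadditive.comp_add] }

lemma phiAdd_apply {N : Cᵒᵖ ⥤ Type u} {M : SheafOfModules.{u} R} (g : (L R).obj N ⟶ M) :
    phiAdd R N M g = (c R).app N ≫ (SheafOfModules.toSheaf R).map g := phi_apply R g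

/-- `Hom(L N, -) ≅ toSheaf ⋙ Hom(LZ N, -)` -/
noncomputable def homIso (N : Cᵒᵖ ⥤ Type u) :
    preadditiveCoyoneda.obj (op ((L R).obj N)) ≅
    SheafOfModules.toSheaf R ⋙ preadditiveCoyoneda.obj (op ((LZ J).obj N)) :=
  NatIso.ofComponents (fun M => (phiAdd R N M).toAddCommGrpIso)
    (by
      intro M M' g
      ext x
      have key : ∀ y : (L R).obj N ⟶ M,
          phiAdd R N M' (y ≫ g) = phiAdd R N M y ≫ (SheafOfModules.toSheaf R).map g := fun y => by
        rw [phiAdd_apply, phiAdd_apply, Functor.map_comp, Category.assoc]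
      exact key x)

open Groth.Agent.Lib.Helper33.ExtRD in
/-- **Comparison of module and abelian cohomology** with respect to a presheaf of sets `N`
such that injective modules are acyclic for `N`. -/
theorem nonempty_ext_addEquiv [HasExt.{u} (SheafOfModules.{u} R)] (N : Cᵒᵖ ⥤ Type u)
    (hN : ∀ (I : SheafOfModules.{u} R), Injective I → ∀ k : ℕ,
      Subsingleton (Ext ((LZ J).obj N) ((SheafOfModules.toSheaf R).obj I) (k + 1)))
    (M : SheafOfModules.{u} R) (n : ℕ) :
    Nonempty (Ext ((L R).obj N) M n ≃+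
      Ext ((LZ J).obj N) ((SheafOfModules.toSheaf R).obj M) n) := by
  let T := SheafOfModules.toSheaf R
  let G : Sheaf J AddCommGrpCat.{u} ⥤ AddCommGrpCat.{u} :=
    preadditiveCoyoneda.obj (op ((LZ J).obj N))
  have hE : ∀ I : SheafOfModules.{u} R, Injective I → ∀ k : ℕ,
      IsZero ((G.rightDerived (k + 1)).obj (T.obj I)) := by
    intro I hI k
    obtain ⟨e⟩ := ext_iso_rightDerived ((LZ J).obj N) (T.obj I) (k + 1)
    have := hN I hI k
    exact IsZero.of_iso (AddCommGrpCat.isZero_of_subsingleton _) e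
  obtain ⟨e1⟩ := ext_iso_rightDerived_of_iso ((L R).obj N) (T ⋙ G) (homIso R N).symm M n
  obtain ⟨e2⟩ := AcyclicComp.nonempty_iso T G hE n M
  obtain ⟨e3⟩ := ext_iso_rightDerived ((LZ J).obj N) (T.obj M) n
  exact ⟨(e1.symm ≪≫ e2 ≪≫ e3).addCommGroupIsoToAddEquiv⟩

/-- the terminal presheaf of sets -/
abbrev N₁ (C : Type u) [SmallCategory C] : Cᵒᵖ ⥤ Type u := (Functor.const Cᵒᵖ).obj PUnit.{u+1}

/-- the section `1` of the structure sheaf, as a map from the terminal presheaf -/
noncomputable def s₁ : N₁ C ⟶ (Rt R).obj (SheafOfModules.unit R) :=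
  Functor.sectionsEquivHom ((Rt R).obj (SheafOfModules.unit R)) PUnit.{u+1}
    ((SheafOfModules.unit R).unitHomEquiv (𝟙 _))

/-- the canonical map from the free module on the terminal presheaf to the structure sheaf. -/
noncomputable def α : (L R).obj (N₁ C) ⟶ SheafOfModules.unit R :=
  ((adjL R).homEquiv _ _).symm (s₁ R)

lemma homEquiv_α_comp {M : SheafOfModules.{u} R} (g : SheafOfModules.unit R ⟶ M) :
    (adjL R).homEquiv _ _ (α R ≫ g) =
      Functor.sectionsEquivHom ((Rt R).obj M) PUnit.{u+1} (M.unitHomEquiv g) := by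
  rw [(adjL R).homEquiv_naturality_right]
  dsimp only [α]
  rw [Equiv.apply_symm_apply]
  rfl

instance : IsIso (α R) := by
  rw [isIso_iff_coyoneda_map_bijective]
  intro M
  have h : (fun g : SheafOfModules.unit R ⟶ M => α R ≫ g) =
      ((adjL R).homEquiv _ _).symm ∘ (Functor.sectionsEquivHom ((Rt R).obj M) PUnit.{u+1}) ∘
        M.unitHomEquiv := by
    funext g
    apply ((adjL R).homEquiv _ _).injective
    rw [homEquiv_α_comp]
    exact (Equiv.apply_symm_apply _ _).symm
  rw [h]
  exact ((adjL R).homEquiv _ _).symm.bijective.comp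
    ((Functor.sectionsEquivHom ((Rt R).obj M) PUnit.{u+1}).bijective.comp M.unitHomEquiv.bijective)

/-- the structure sheaf is the free module on the terminal presheaf -/
noncomputable def unitIso : (L R).obj (N₁ C) ≅ SheafOfModules.unit R := asIso (α R)

/-- the terminal sheaf of sets -/
def K₁ (J : GrothendieckTopology C) : Sheaf J (Type u) :=
  ⟨N₁ C, Presheaf.isSheaf_of_isTerminal J Types.isTerminalPUnit⟩

/-- the free abelian group on a point is `ℤ` -/
noncomputable def freePUnitIso :
    AddCommGrpCat.free.{u}.obj PUnit.{u+1} ≅ AddCommGrpCat.of (ULift.{u} ℤ) :=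
  ((FreeAbelianGroup.uniqueEquiv PUnit.{u+1}).trans AddEquiv.ulift.symm).toAddCommGrpIso

/-- the constant sheaf `ℤ` is the free abelian sheaf on the terminal presheaf -/
noncomputable def constIso (J : GrothendieckTopology C) : (LZ J).obj (N₁ C) ≅
    (constantSheaf J AddCommGrpCat.{u}).obj (AddCommGrpCat.of (ULift.{u} ℤ)) :=
  (presheafToSheaf J AddCommGrpCat.{u}).mapIso
    (NatIso.ofComponents (fun _ => freePUnitIso) (by
      intro X Y f
      have h : (((Functor.whiskeringRight Cᵒᵖ _ _).obj AddCommGrpCat.free.{u}).obj (N₁ C)).map f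
          = 𝟙 _ := AddCommGrpCat.free.{u}.map_id _
      rw [h]
      exact (Category.id_comp _).trans (Category.comp_id _).symm))

/-- transport of `Ext` along an isomorphism in the first variable -/
noncomputable def extAddEquivOfIsoLeft {A : Type*} [Category A] [Abelian A] [HasExt A]
    {X X' : A} (e : X ≅ X') (Y : A) (n : ℕ) : Ext X Y n ≃+ Ext X' Y n where
  toFun x := (Ext.mk₀ e.inv).comp x (zero_add n)
  invFun x := (Ext.mk₀ e.hom).comp x (zero_add n)
  left_inv x := by
    dsimp only
    rw [Ext.mk₀_comp_mk₀_assoc, e.hom_inv_id, Ext.mk₀_id_comp]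
  right_inv x := by
    dsimp only
    rw [Ext.mk₀_comp_mk₀_assoc, e.inv_hom_id, Ext.mk₀_id_comp]
  map_add' := fun x y => Ext.comp_add _ _ _ _


/-- **Module cohomology equals abelian cohomology** (global sections): `Ext^n_R(R, M) ≃+ H^n(C, M)`. -/
theorem nonempty_ext_unit_addEquiv_H [HasExt.{u} (SheafOfModules.{u} R)]
    (M : SheafOfModules.{u} R) (n : ℕ) :
    Nonempty (Ext (SheafOfModules.unit R) M n ≃+
      Sheaf.H.{u} ((SheafOfModules.toSheaf R).obj M) n) := by
  obtain ⟨e⟩ := nonempty_ext_addEquiv R (N₁ C)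
    (fun I _ k => ModAcyclic.isTotallyAcyclic_toSheaf_of_injective R I (K₁ J) k) M n
  exact ⟨(extAddEquivOfIsoLeft (unitIso R) M n).symm.trans
    (e.trans (extAddEquivOfIsoLeft (constIso J) _ n))⟩

end Groth.Agent.Lib.Helper83.ModCoh
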