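import Mathlib
import Groth.Prelude.Def_CohCx
import Groth.Agent.Lib.Helper58.WayOut

/-!
# The tower of truncations `τ_{≥ -n} E` and derived limits (helper83)

* `exists_isRlimVia`, `exists_lift`, `isRlimVia_of_isIso`: generalities on `CohCx.IsRlimVia`.
* `exact₂_shift`, `exact₃_shift`: exactness of `Hom(W, -⟦j⟧)` on a distinguished triangle.
* `exists_fiber_triangle`: distinguished triangle `H^a(E)[-a] ⟶ τ≥a E ⟶ τ≥(a+1) E ⟶`.
* `hom_single_shift_eq_zero`: `Hom(S[0], F[-a]⟦j⟧) = 0` if `Ext^{j-a}(S, F) = 0`.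
* `trans_injective`, `trans_surjective`: behaviour of `Hom(S[0], (τ≥a E)⟦j⟧) ⟶ Hom(S[0], (τ≥(a+1) E)⟦j⟧)`.
* `limOneIsZero_of_eventually_surjective`.
* `isRlimVia_truncTower`: criterion for `E` to be the derived limit of its truncations.
-/

set_option autoImplicit false
universe w w' v u

namespace Groth.Agent.Lib.Helper83.TruncTower

open CategoryTheory Limits Pretriangulated Opposite

section General

variable {T : Type*} [Category T] [Preadditive T] [HasZeroObject T] [HasShift T ℤ]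
  [∀ n : ℤ, (shiftFunctor T n).Additive] [Pretriangulated T]

/-- exactness at the middle of a shifted distinguished triangle, for maps out of `W` -/
lemma exact₂_shift (Tr : Triangle T) (hT : Tr ∈ distTriang T) (j : ℤ) {W : T}
    (x : W ⟶ (Tr.obj₂)⟦j⟧) (hx : x ≫ (Tr.mor₂)⟦j⟧' = 0) :
    ∃ y : W ⟶ (Tr.obj₁)⟦j⟧, y ≫ (Tr.mor₁)⟦j⟧' = x := by
  have h := (preadditiveCoyoneda.obj (op W)).homologySequence_exact₂ Tr hT j
  rw [ShortComplex.ab_exact_iff] at h
  obtain ⟨y, hy⟩ := h x hx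
  exact ⟨y, hy⟩

lemma exact₃_shift (Tr : Triangle T) (hT : Tr ∈ distTriang T) (j : ℤ) {W : T}
    (x : W ⟶ (Tr.obj₃)⟦j⟧) (hx : x ≫ (Tr.mor₃)⟦j⟧' = 0) :
    ∃ y : W ⟶ (Tr.obj₂)⟦j⟧, y ≫ (Tr.mor₂)⟦j⟧' = x := by
  have h := (preadditiveCoyoneda.obj (op W)).homologySequence_exact₃ Tr hT j (j + 1) rfl
  rw [ShortComplex.ab_exact_iff] at h
  have h0 : (preadditiveCoyoneda.obj (op W)).homologySequenceδ Tr j (j + 1) rfl x = 0 := by
    rw [preadditiveCoyoneda_homologySequenceδ_apply Tr j (j + 1) rfl (A := op W) x,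
      ← Category.assoc, hx, zero_comp]
    rfl
  obtain ⟨y, hy⟩ := h x h0
  exact ⟨y, hy⟩

lemma exists_isRlimVia (K : ℕ → T) (t : ∀ n, K (n + 1) ⟶ K n) [HasProduct K] :
    ∃ (L : T) (a : ∀ n, L ⟶ K n), CohCx.IsRlimVia K t L a := by
  obtain ⟨L, α, γ, h⟩ := Pretriangulated.distinguished_cocone_triangle₁
    (Pi.lift fun n => Pi.π K n - Pi.π K (n + 1) ≫ t n)
  refine ⟨L, fun n => α ≫ Pi.π K n, γ, ?_⟩
  have : Pi.lift (fun n => α ≫ Pi.π K n) = α := by
    apply Pi.hom_ext; intro n; simp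
  rw [this]; exact h

variable {K : ℕ → T} {t : ∀ n, K (n + 1) ⟶ K n} [HasProduct K]

lemma exists_lift {L : T} {a : ∀ n, L ⟶ K n} (hL : CohCx.IsRlimVia K t L a) {E : T}
    (p : ∀ n, E ⟶ K n) (hp : ∀ n, p (n + 1) ≫ t n = p n) :
    ∃ u : E ⟶ L, ∀ n, u ≫ a n = p n := by
  obtain ⟨c, hc⟩ := hL
  have h0 : Pi.lift p ≫ (Pi.lift fun n => Pi.π K n - Pi.π K (n + 1) ≫ t n) = 0 := by
    apply Pi.hom_ext; intro n
    simp [hp]
  obtain ⟨u, hu⟩ := Triangle.coyoneda_exact₂ _ hc (Pi.lift p) h0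
  have h1 : Pi.lift p = (u : E ⟶ L) ≫ Pi.lift a := hu
  refine ⟨u, fun n => ?_⟩
  have h2 : Pi.lift p ≫ Pi.π K n = (u ≫ Pi.lift a) ≫ Pi.π K n := by rw [h1]
  rw [Category.assoc, Pi.lift_π, Pi.lift_π] at h2
  exact h2.symm

lemma isRlimVia_of_isIso {L : T} {a : ∀ n, L ⟶ K n} (hL : CohCx.IsRlimVia K t L a) {E : T}
    (p : ∀ n, E ⟶ K n) (u : E ⟶ L) (hiso : IsIso u) (hu : ∀ n, u ≫ a n = p n) :
    CohCx.IsRlimVia K t E p := by
  obtain ⟨c, hc⟩ := hL
  have := hiso
  let eu : E ≅ L := asIso u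
  refine ⟨c ≫ (CategoryTheory.inv u)⟦(1 : ℤ)⟧', ?_⟩
  refine isomorphic_distinguished _ hc _ ?_
  refine Triangle.isoMk _ _ eu (Iso.refl _) (Iso.refl _) ?_ ?_ ?_
  · change Pi.lift p ≫ 𝟙 _ = u ≫ Pi.lift a
    rw [Category.comp_id]
    apply Pi.hom_ext; intro n
    simp [hu]
  · change _ ≫ 𝟙 _ = 𝟙 _ ≫ _
    rw [Category.comp_id, Category.id_comp]
    rfl
  · change (c ≫ (CategoryTheory.inv u)⟦(1 : ℤ)⟧') ≫ u⟦(1 : ℤ)⟧' = 𝟙 _ ≫ c
    rw [Category.id_comp, Category.assoc, ← Functor.map_comp, IsIso.inv_hom_id, CategoryTheory.Functor.map_id,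
      Category.comp_id]


omit [HasZeroObject T] [∀ (n : ℤ), (shiftFunctor T n).Additive] [Pretriangulated T] in
lemma transition_injective (K : ℕ → T) (t : ∀ n, K (n + 1) ⟶ K n) (W : T) (m : ℤ) (n : ℕ)
    (h : ∀ n', n ≤ n' → ∀ φ : W ⟶ (K (n' + 1))⟦m⟧, φ ≫ (t n')⟦m⟧' = 0 → φ = 0) (k : ℕ)
    (φ : W ⟶ (K (n + k))⟦m⟧) (hφ : φ ≫ (CohCx.transition K t n k)⟦m⟧' = 0) : φ = 0 := by
  induction k with
  | zero =>
    have h1 : (CohCx.transition K t n 0) = 𝟙 (K n) := rfl
    rw [h1] at hφ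
    erw [CategoryTheory.Functor.map_id, Category.comp_id] at hφ
    exact hφ
  | succ k ih =>
    have h1 : CohCx.transition K t n (k + 1) = t (n + k) ≫ CohCx.transition K t n k := rfl
    rw [h1, Functor.map_comp, ← Category.assoc] at hφ
    exact h (n + k) (by omega) φ (ih _ hφ)

end General

lemma limOneIsZero_of_surjective (A : ℕ → Type u) [∀ n, AddCommGroup (A n)]
    (t : ∀ n, A (n + 1) →+ A n) (h : ∀ n, Function.Surjective (t n)) :
    CohCx.LimOneIsZero A t := by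
  intro b
  choose s hs using h
  let a : ∀ n, A n := fun n => Nat.rec (motive := fun n => A n) 0 (fun n an => s n (an - b n)) n
  refine ⟨a, ?_⟩
  funext n
  change a n - t n (s n (a n - b n)) = b n
  rw [hs]
  abel

lemma limOneIsZero_of_eventually_surjective (N : ℕ) : ∀ (A : ℕ → Type u) [∀ n, AddCommGroup (A n)]
    (t : ∀ n, A (n + 1) →+ A n) (_ : ∀ n, N ≤ n → Function.Surjective (t n)),
    CohCx.LimOneIsZero A t := by
  induction N with
  | zero => intro A _ t h; exact limOneIsZero_of_surjective A t (fun n => h n (Nat.zero_le n))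
  | succ N ih =>
    intro A _ t h
    have h' := ih (fun n => A (n + 1)) (fun n => t (n + 1)) (fun n hn => h (n + 1) (by omega))
    intro b
    obtain ⟨a', ha'⟩ := h' (fun n => b (n + 1))
    let a : ∀ n, A n := fun n => Nat.casesOn (motive := fun n => A n) n (b 0 + t 0 (a' 0)) (fun n => a' n)
    refine ⟨a, ?_⟩
    funext n
    cases n with
    | zero =>
      change (b 0 + t 0 (a' 0)) - t 0 (a' 0) = b 0
      abel
    | succ n =>
      exact congrFun ha' n


section Derived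

variable {A : Type (u + 1)} [Category.{u} A] [Abelian A] [HasDerivedCategory.{w} A]

open DerivedCategory DerivedCategory.TStructure

lemma toTruncTower_comp (E : DerivedCategory A) (n : ℕ) :
    CohCx.toTruncTower E (n + 1) ≫ CohCx.truncTowerMap E n = CohCx.toTruncTower E n :=
  t.π_natTransTruncGEOfLE_app _ _ _ E

lemma isIso_homology_toTruncTower (E : DerivedCategory A) (n : ℕ) (m : ℤ) (h : -(n : ℤ) ≤ m) :
    IsIso ((homologyFunctor A m).map (CohCx.toTruncTower E n)) :=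
  Groth.Agent.Lib.Helper58.isIso_homology_truncGEπ E _ m h

/-- the key compatibility: `τ≥a E ⟶ τ≥b E ⟶ τ≥b τ≥a E` is `π_b` of `τ≥a E`. -/
lemma natTrans_comp_truncGE_map (E : DerivedCategory A) (a b : ℤ) (hab : a ≤ b) :
    (t.natTransTruncGEOfLE a b hab).app E ≫ (t.truncGE b).map ((t.truncGEπ a).app E) =
      (t.truncGEπ b).app ((t.truncGE a).obj E) := by
  have : t.IsGE ((t.truncGE b).obj ((t.truncGE a).obj E)) a := t.isGE_of_ge _ a b hab
  apply t.from_truncGE_obj_ext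
  rw [← Category.assoc, t.π_natTransTruncGEOfLE_app]
  exact ((t.truncGEπ b).naturality ((t.truncGEπ a).app E)).symm

lemma exists_fiber_triangle (E : DerivedCategory A) (a b : ℤ) (hab : a + 1 = b) :
    ∃ (i : (singleFunctor A a).obj ((homologyFunctor A a).obj E) ⟶ (t.truncGE a).obj E)
      (δ : (t.truncGE b).obj E ⟶
        ((singleFunctor A a).obj ((homologyFunctor A a).obj E))⟦(1 : ℤ)⟧),
      Triangle.mk i ((t.natTransTruncGEOfLE a b (by omega)).app E) δ ∈ distTriang _ := by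
  let X := (t.truncGE a).obj E
  let Y := (t.truncLE a).obj X
  have hT := t.triangleLEGE_distinguished a b hab X
  have hYle : Y.IsLE a := inferInstanceAs (t.IsLE ((t.truncLE a).obj X) a)
  have hYge : Y.IsGE a := inferInstanceAs (t.IsGE ((t.truncLE a).obj X) a)
  obtain ⟨F, ⟨e⟩⟩ := exists_iso_singleFunctor_obj_of_isGE_of_isLE Y a
  -- F ≅ H^a E
  have h1 : IsIso ((homologyFunctor A a).map ((t.truncGEπ a).app E)) :=
    Groth.Agent.Lib.Helper58.isIso_homology_truncGEπ E a a le_rfl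
  have h2 : IsIso ((homologyFunctor A a).map ((t.truncLEι a).app X)) :=
    Groth.Agent.Lib.Helper58.isIso_homology_truncLEι X a a le_rfl
  let f : F ≅ (homologyFunctor A a).obj E :=
    ((singleFunctorCompHomologyFunctorIso A a).app F).symm ≪≫
      (homologyFunctor A a).mapIso e.symm ≪≫ asIso ((homologyFunctor A a).map ((t.truncLEι a).app X))
      ≪≫ (asIso ((homologyFunctor A a).map ((t.truncGEπ a).app E))).symm
  let e' : (singleFunctor A a).obj ((homologyFunctor A a).obj E) ≅ Y :=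
    (singleFunctor A a).mapIso f.symm ≪≫ e.symm
  have hθ : IsIso ((t.truncGE b).map ((t.truncGEπ a).app E)) :=
    t.isIso_truncGE_map_truncGEπ_app b a (by omega) E
  let θ : (t.truncGE b).obj E ≅ (t.truncGE b).obj X := asIso ((t.truncGE b).map ((t.truncGEπ a).app E))
  refine ⟨e'.hom ≫ (t.truncLEι a).app X, θ.hom ≫ (t.truncGEδLE a b hab).app X ≫ e'.inv⟦(1 : ℤ)⟧', ?_⟩
  refine isomorphic_distinguished _ hT _ ?_
  refine Triangle.isoMk _ _ e' (Iso.refl _) θ ?_ ?_ ?_
  · change (e'.hom ≫ (t.truncLEι a).app X) ≫ 𝟙 _ = e'.hom ≫ (t.truncLEι a).app X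
    rw [Category.comp_id]
  · change (t.natTransTruncGEOfLE a b (by omega)).app E ≫ θ.hom = 𝟙 _ ≫ (t.truncGEπ b).app X
    rw [Category.id_comp]
    exact natTrans_comp_truncGE_map E a b (by omega)
  · change (θ.hom ≫ (t.truncGEδLE a b hab).app X ≫ e'.inv⟦(1 : ℤ)⟧') ≫ e'.hom⟦(1 : ℤ)⟧' =
      θ.hom ≫ (t.truncGEδLE a b hab).app X
    rw [Category.assoc, Category.assoc, ← Functor.map_comp, e'.inv_hom_id,
      CategoryTheory.Functor.map_id]
    erw [Category.comp_id]

variable [HasExt.{w'} A]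

lemma hom_single_eq_zero_of_subsingleton_ext (S F : A) (k : ℕ)
    (h : Subsingleton (Abelian.Ext.{w'} S F k))
    (φ : (singleFunctor A 0).obj S ⟶ ((singleFunctor A 0).obj F)⟦(k : ℤ)⟧) : φ = 0 := by
  have h1 : (Abelian.Ext.homEquiv (X := S) (Y := F) (n := k)).symm φ =
      (Abelian.Ext.homEquiv (X := S) (Y := F) (n := k)).symm 0 := Subsingleton.elim _ _
  exact (Abelian.Ext.homEquiv (X := S) (Y := F) (n := k)).symm.injective h1

lemma hom_single_shift_eq_zero (S F : A) (a j : ℤ)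
    (hv : ∀ k : ℕ, (k : ℤ) = j - a → Subsingleton (Abelian.Ext.{w'} S F k))
    (φ : (singleFunctor A 0).obj S ⟶ ((singleFunctor A a).obj F)⟦j⟧) : φ = 0 := by
  by_cases hja : j < a
  · have h1 : ((singleFunctor A 0).obj S).IsLE 0 := inferInstance
    have h2 : (((singleFunctor A a).obj F)⟦j⟧).IsGE (a - j) :=
      t.isGE_shift _ a j (a - j) (by omega)
    exact t.zero φ 0 (a - j) (by omega)
  · obtain ⟨k, hk⟩ : ∃ k : ℕ, (k : ℤ) = j - a := ⟨(j - a).toNat, by omega⟩
    have hsub := hv k hk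
    let iso1 : ((singleFunctor A a).obj F) ≅ ((singleFunctor A 0).obj F)⟦-a⟧ :=
      ((singleFunctors A).shiftIso (-a) a 0 (by omega)).symm.app F
    let iso2 : (((singleFunctor A 0).obj F)⟦-a⟧)⟦j⟧ ≅ ((singleFunctor A 0).obj F)⟦(k : ℤ)⟧ :=
      ((shiftFunctorAdd' (DerivedCategory A) (-a) j (k : ℤ) (by omega)).app _).symm
    have h := hom_single_eq_zero_of_subsingleton_ext S F k hsub
      (φ ≫ (iso1.hom)⟦j⟧' ≫ iso2.hom)
    have h3 : φ ≫ ((shiftFunctor (DerivedCategory A) j).mapIso iso1 ≪≫ iso2).hom = 0 := h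
    rw [← cancel_mono ((shiftFunctor (DerivedCategory A) j).mapIso iso1 ≪≫ iso2).hom, h3, zero_comp]


lemma trans_injective (S : A) (E : DerivedCategory A) (a b j : ℤ) (hab : a + 1 = b)
    (hv : ∀ k : ℕ, (k : ℤ) = j - a →
      Subsingleton (Abelian.Ext.{w'} S ((homologyFunctor A a).obj E) k))
    (φ : (singleFunctor A 0).obj S ⟶ ((t.truncGE a).obj E)⟦j⟧)
    (hφ : φ ≫ ((t.natTransTruncGEOfLE a b (by omega)).app E)⟦j⟧' = 0) : φ = 0 := by
  obtain ⟨i, δ, hT⟩ := exists_fiber_triangle E a b hab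
  obtain ⟨y, hy⟩ := exact₂_shift _ hT j φ hφ
  have hy0 : y = 0 := hom_single_shift_eq_zero S _ a j hv y
  rw [← hy, hy0]
  exact zero_comp

lemma trans_surjective (S : A) (E : DerivedCategory A) (a b j : ℤ) (hab : a + 1 = b)
    (hv : ∀ k : ℕ, (k : ℤ) = j + 1 - a →
      Subsingleton (Abelian.Ext.{w'} S ((homologyFunctor A a).obj E) k))
    (ψ : (singleFunctor A 0).obj S ⟶ ((t.truncGE b).obj E)⟦j⟧) :
    ∃ φ : (singleFunctor A 0).obj S ⟶ ((t.truncGE a).obj E)⟦j⟧,
      φ ≫ ((t.natTransTruncGEOfLE a b (by omega)).app E)⟦j⟧' = ψ := by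
  obtain ⟨i, δ, hT⟩ := exists_fiber_triangle E a b hab
  apply exact₃_shift _ hT j ψ
  let iso : (((singleFunctor A a).obj ((homologyFunctor A a).obj E))⟦(1 : ℤ)⟧)⟦j⟧ ≅
      ((singleFunctor A a).obj ((homologyFunctor A a).obj E))⟦j + 1⟧ :=
    ((shiftFunctorAdd' (DerivedCategory A) 1 j (j + 1) (by omega)).app _).symm
  have h := hom_single_shift_eq_zero S _ a (j + 1) hv ((ψ ≫ δ⟦j⟧') ≫ iso.hom)
  change ψ ≫ δ⟦j⟧' = 0
  rw [← cancel_mono iso.hom, zero_comp]
  exact h

omit [HasExt.{w'} A] in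
theorem isRlimVia_truncTower (E : DerivedCategory A) [HasProduct (CohCx.truncTower E)]
    (H : ∀ (L : DerivedCategory A) (a : ∀ n, L ⟶ CohCx.truncTower E n),
      CohCx.IsRlimVia (CohCx.truncTower E) (CohCx.truncTowerMap E) L a →
      ∀ u : E ⟶ L, (∀ n, u ≫ a n = CohCx.toTruncTower E n) →
      ∀ m : ℤ, IsIso ((homologyFunctor A m).map u)) :
    CohCx.IsRlimVia (CohCx.truncTower E) (CohCx.truncTowerMap E) E (CohCx.toTruncTower E) := by
  obtain ⟨L, a, hL⟩ := exists_isRlimVia (CohCx.truncTower E) (CohCx.truncTowerMap E)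
  obtain ⟨u, hu⟩ := exists_lift hL (CohCx.toTruncTower E) (toTruncTower_comp E)
  have : IsIso u := by
    rw [DerivedCategory.isIso_iff]
    exact H L a hL u hu
  exact isRlimVia_of_isIso hL _ u this hu

/-- the hypotheses of the injectivity statements `S0880`/`S0874` for the tower of truncations. -/
lemma tower_hyps (S : A) (E : DerivedCategory A) (m : ℤ) (N : ℕ)
    (hN : ∀ n : ℕ, N ≤ n → ∀ k : ℕ, (k : ℤ) = m + n + 1 →
      Subsingleton (Abelian.Ext.{w'} S ((homologyFunctor A (m - k)).obj E) k)) :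
    CohCx.LimOneIsZero
        (fun n => (singleFunctor A 0).obj S ⟶ (CohCx.truncTower E n)⟦m - 1⟧)
        (fun n => Preadditive.rightComp _
          ((shiftFunctor (DerivedCategory A) (m - 1)).map (CohCx.truncTowerMap E n))) ∧
      ∀ k : ℕ, Function.Injective
        (Preadditive.rightComp ((singleFunctor A 0).obj S)
          ((shiftFunctor (DerivedCategory A) m).map
            (CohCx.transition (CohCx.truncTower E) (CohCx.truncTowerMap E) N k))) := by
  have hv : ∀ n : ℕ, N ≤ n → ∀ k : ℕ, (k : ℤ) = m + n + 1 →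
      Subsingleton (Abelian.Ext.{w'} S ((homologyFunctor A (-((n + 1 : ℕ) : ℤ))).obj E) k) := by
    intro n hn k hk
    have ha : -((n + 1 : ℕ) : ℤ) = m - k := by push_cast; omega
    rw [ha]
    exact hN n hn k hk
  constructor
  · apply limOneIsZero_of_eventually_surjective N
    intro n hn ψ
    obtain ⟨φ, hφ⟩ := trans_surjective S E (-((n + 1 : ℕ) : ℤ)) (-(n : ℤ)) (m - 1)
      (by push_cast; omega) (fun k hk => hv n hn k (by push_cast at hk; omega)) ψ
    exact ⟨φ, hφ⟩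
  · intro k
    rw [injective_iff_map_eq_zero]
    intro φ hφ
    exact transition_injective (CohCx.truncTower E) (CohCx.truncTowerMap E) _ m N
      (fun n' hn' φ hφ => trans_injective S E (-((n' + 1 : ℕ) : ℤ)) (-(n' : ℤ)) m
        (by push_cast; omega) (fun k hk => hv n' hn' k (by push_cast at hk; omega)) φ hφ) k φ hφ

end Derived

lemma isIso_of_bijective_on_cover {C : Type u} [SmallCategory C] {J : GrothendieckTopology C}
    {F G : Sheaf J AddCommGrpCat.{u}} (φ : F ⟶ G) (B : Set C)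
    (hB : ∀ U : C, ∃ (ι : Type u) (Y : ι → C) (f : ∀ i, Y i ⟶ U),
      Sieve.ofArrows Y f ∈ J U ∧ ∀ i, Y i ∈ B)
    (h : ∀ V ∈ B, Function.Bijective (φ.hom.app (op V))) : IsIso φ := by
  rw [← Sheaf.isLocallyBijective_iff_isIso φ]
  constructor
  · constructor
    intro X x y hxy
    obtain ⟨ι, Y, f, hcov, hYB⟩ := hB X.unop
    refine J.superset_covering ?_ hcov
    rintro Z g ⟨W, a, b, hb, rfl⟩
    cases hb with | mk i =>
    change F.obj.map (a ≫ f i).op x = F.obj.map (a ≫ f i).op y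
    have h1 : F.obj.map (f i).op x = F.obj.map (f i).op y := by
      apply (h (Y i) (hYB i)).1
      have e1 : φ.hom.app (op (Y i)) (F.obj.map (f i).op x) = G.obj.map (f i).op (φ.hom.app X x) :=
        (ConcreteCategory.congr_hom (φ.hom.naturality (f i).op) x)
      have e2 : φ.hom.app (op (Y i)) (F.obj.map (f i).op y) = G.obj.map (f i).op (φ.hom.app X y) :=
        (ConcreteCategory.congr_hom (φ.hom.naturality (f i).op) y)
      rw [e1, e2, hxy]
    rw [op_comp, Functor.map_comp]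
    exact congrArg (F.obj.map a.op) h1
  · constructor
    intro U s
    obtain ⟨ι, Y, f, hcov, hYB⟩ := hB U
    refine J.superset_covering ?_ hcov
    rintro Z g ⟨W, a, b, hb, rfl⟩
    cases hb with | mk i =>
    obtain ⟨t, ht⟩ := (h (Y i) (hYB i)).2 (G.obj.map (f i).op s)
    refine ⟨F.obj.map a.op t, ?_⟩
    have e1 : φ.hom.app (op Z) (F.obj.map a.op t) = G.obj.map a.op (φ.hom.app (op (Y i)) t) :=
      (ConcreteCategory.congr_hom (φ.hom.naturality a.op) t)
    rw [e1, ht, op_comp, Functor.map_comp]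
    rfl



end Groth.Agent.Lib.Helper83.TruncTower
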