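import Mathlib

/-!
# Morphisms from a single object to a K-injective complex in the derived category (helper83)

For an abelian category `A` with a derived category, `S : A` and `φ : S[0] ⟶ K` in `D(A)` we define
`h0 φ : S ⟶ H^0(K)`.  For `K = Q L` with `L` K-injective, every `φ` is `Q.map f` for a chain map
`f : S[0] ⟶ L`, `h0 (Q.map f)` is the class of the cycle `zOf f : S ⟶ Z^0(L)`, and `Q.map f = 0` as soon
as `zOf f` lifts to `L^{-1}`.
-/

set_option autoImplicit false
universe w v u

namespace Groth.Agent.Lib.Helper83.SingleHom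

open CategoryTheory CategoryTheory.Limits DerivedCategory HomologicalComplex CochainComplex

variable {A : Type u} [Category.{v} A] [Abelian A] [HasDerivedCategory.{w} A]

/-- the single complex -/
noncomputable abbrev sg (S : A) : CochainComplex A ℤ :=
  (HomologicalComplex.single A (ComplexShape.up ℤ) 0).obj S

lemma singleFunctor_map {S' S : A} (j : S' ⟶ S) :
    (DerivedCategory.singleFunctor A 0).map j =
      Q.map ((HomologicalComplex.single A (ComplexShape.up ℤ) 0).map j) := rfl

/-- typed version of `homologyFunctorFactors` -/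
noncomputable def hF (X : CochainComplex A ℤ) :
    (DerivedCategory.homologyFunctor A 0).obj (Q.obj X) ≅ X.homology 0 :=
  (homologyFunctorFactors A 0).app X

lemma hF_naturality {X Y : CochainComplex A ℤ} (f : X ⟶ Y) :
    (DerivedCategory.homologyFunctor A 0).map (Q.map f) ≫ (hF Y).hom =
      (hF X).hom ≫ homologyMap f 0 :=
  homologyFunctorFactors_hom_naturality f 0

lemma hF_inv_naturality {X Y : CochainComplex A ℤ} (f : X ⟶ Y) :
    (hF X).inv ≫ (DerivedCategory.homologyFunctor A 0).map (Q.map f) =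
      homologyMap f 0 ≫ (hF Y).inv := by
  rw [Iso.inv_comp_eq, ← Category.assoc, Iso.eq_comp_inv, hF_naturality]

/-- components of `e` -/
noncomputable def eApp (S : A) :
    (DerivedCategory.homologyFunctor A 0).obj ((DerivedCategory.singleFunctor A 0).obj S) ≅ S :=
  hF (sg S) ≪≫ singleObjHomologySelfIso (ComplexShape.up ℤ) 0 S

lemma eApp_naturality {S' S : A} (j : S' ⟶ S) :
    (DerivedCategory.homologyFunctor A 0).map ((DerivedCategory.singleFunctor A 0).map j) ≫
      (eApp S).hom = (eApp S').hom ≫ j := by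
  show (DerivedCategory.homologyFunctor A 0).map
      (Q.map ((HomologicalComplex.single A (ComplexShape.up ℤ) 0).map j)) ≫
      ((hF (sg S)).hom ≫ (singleObjHomologySelfIso (ComplexShape.up ℤ) 0 S).hom) =
    ((hF (sg S')).hom ≫ (singleObjHomologySelfIso (ComplexShape.up ℤ) 0 S').hom) ≫ j
  rw [← Category.assoc, hF_naturality, Category.assoc, Category.assoc]
  congr 1
  exact singleObjHomologySelfIso_hom_naturality (ComplexShape.up ℤ) 0 j

/-- `H^0(S[0]) ≅ S`, naturally. -/
noncomputable def e : DerivedCategory.singleFunctor A 0 ⋙ DerivedCategory.homologyFunctor A 0 ≅ 𝟭 A :=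
  NatIso.ofComponents (fun S => eApp S) (fun j => eApp_naturality j)

/-- The map `Hom_D(S[0], K) → Hom_A(S, H^0 K)`. -/
noncomputable def h0 {S : A} {K : DerivedCategory A}
    (φ : (DerivedCategory.singleFunctor A 0).obj S ⟶ K) : S ⟶ (homologyFunctor A 0).obj K :=
  e.inv.app S ≫ (homologyFunctor A 0).map φ

lemma h0_add {S : A} {K : DerivedCategory A}
    (φ ψ : (DerivedCategory.singleFunctor A 0).obj S ⟶ K) : h0 (φ + ψ) = h0 φ + h0 ψ := by
  simp [h0, Functor.map_add]

lemma h0_sub {S : A} {K : DerivedCategory A}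
    (φ ψ : (DerivedCategory.singleFunctor A 0).obj S ⟶ K) : h0 (φ - ψ) = h0 φ - h0 ψ := by
  simp [h0, Functor.map_sub]

lemma h0_zero {S : A} {K : DerivedCategory A} :
    h0 (0 : (DerivedCategory.singleFunctor A 0).obj S ⟶ K) = 0 := by
  simp [h0]

/-- `h0` as an additive map -/
noncomputable def h0Add (S : A) (K : DerivedCategory A) :
    ((DerivedCategory.singleFunctor A 0).obj S ⟶ K) →+ (S ⟶ (homologyFunctor A 0).obj K) where
  toFun := h0
  map_zero' := h0_zero
  map_add' := h0_add

lemma h0Add_apply {S : A} {K : DerivedCategory A}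
    (φ : (DerivedCategory.singleFunctor A 0).obj S ⟶ K) : h0Add S K φ = h0 φ := rfl

lemma h0_precomp {S' S : A} (j : S' ⟶ S) {K : DerivedCategory A}
    (φ : (DerivedCategory.singleFunctor A 0).obj S ⟶ K) :
    h0 ((DerivedCategory.singleFunctor A 0).map j ≫ φ) = j ≫ h0 φ := by
  have := e.inv.naturality j
  dsimp at this
  simp only [h0, Functor.map_comp]
  rw [← Category.assoc, ← this, Category.assoc]

lemma h0_postcomp {S : A} {K K' : DerivedCategory A}
    (φ : (DerivedCategory.singleFunctor A 0).obj S ⟶ K) (ψ : K ⟶ K') :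
    h0 (φ ≫ ψ) = h0 φ ≫ (homologyFunctor A 0).map ψ := by
  simp [h0]

/-- the cycle attached to a chain map from a single complex -/
noncomputable def zOf {S : A} {L : CochainComplex A ℤ} (f : sg S ⟶ L) : S ⟶ L.cycles 0 :=
  (singleObjCyclesSelfIso (ComplexShape.up ℤ) 0 S).inv ≫ cyclesMap f 0

omit [HasDerivedCategory.{w} A] in
lemma zOf_iCycles {S : A} {L : CochainComplex A ℤ} (f : sg S ⟶ L) :
    zOf f ≫ L.iCycles 0 = (singleObjXSelf (ComplexShape.up ℤ) 0 S).inv ≫ f.f 0 := by
  simp [zOf]

lemma h0_Q_map {S : A} {L : CochainComplex A ℤ} (f : sg S ⟶ L) :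
    h0 (S := S) (Q.map f) = zOf f ≫ L.homologyπ 0 ≫ (hF L).inv := by
  have h3 : (singleObjHomologySelfIso (ComplexShape.up ℤ) 0 S).inv =
    (singleObjCyclesSelfIso (ComplexShape.up ℤ) 0 S).inv ≫ (sg S).homologyπ 0 :=
    (singleObjCyclesSelfIso_inv_homologyπ (ComplexShape.up ℤ) 0 S).symm
  have h4 : (sg S).homologyπ 0 ≫ homologyMap f 0 = cyclesMap f 0 ≫ L.homologyπ 0 :=
    homologyπ_naturality f 0
  calc h0 (S := S) (Q.map f)
      = ((singleObjHomologySelfIso (ComplexShape.up ℤ) 0 S).inv ≫ (hF (sg S)).inv) ≫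
          (DerivedCategory.homologyFunctor A 0).map (Q.map f) := rfl
    _ = (singleObjHomologySelfIso (ComplexShape.up ℤ) 0 S).inv ≫
        (homologyMap f 0 ≫ (hF L).inv) := by rw [Category.assoc, hF_inv_naturality]
    _ = (singleObjCyclesSelfIso (ComplexShape.up ℤ) 0 S).inv ≫ ((sg S).homologyπ 0 ≫
        homologyMap f 0) ≫ (hF L).inv := by
          rw [h3]; simp only [Category.assoc]
    _ = _ := by rw [h4]; simp only [zOf, Category.assoc]

omit [HasDerivedCategory.{w} A] in
/-- every cycle comes from a chain map -/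
lemma exists_zOf_eq {S : A} {L : CochainComplex A ℤ} (z : S ⟶ L.cycles 0) :
    ∃ f : sg S ⟶ L, zOf f = z := by
  refine ⟨HomologicalComplex.mkHomFromSingle (z ≫ L.iCycles 0) (fun k hk => ?_), ?_⟩
  · rw [Category.assoc, iCycles_d, comp_zero]
  · rw [← cancel_mono (L.iCycles 0), zOf_iCycles, mkHomFromSingle_f]
    simp

omit [HasDerivedCategory.{w} A] in
lemma zOf_precomp {S' S : A} (j : S' ⟶ S) {L : CochainComplex A ℤ} (f : sg S ⟶ L) :
    zOf ((HomologicalComplex.single A (ComplexShape.up ℤ) 0).map j ≫ f) = j ≫ zOf f := by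
  rw [← cancel_mono (L.iCycles 0), zOf_iCycles, Category.assoc, zOf_iCycles, comp_f,
    single_map_f_self]
  simp

omit [HasDerivedCategory.{w} A] in
lemma nonempty_homotopy_zero {S : A} {L : CochainComplex A ℤ}
    (f : (CochainComplex.singleFunctor A 0).obj S ⟶ L) (g : S ⟶ L.X (-1))
    (hx : g ≫ L.d (-1) 0 = (singleObjXSelf (ComplexShape.up ℤ) 0 S).inv ≫ f.f 0) :
    Nonempty (Homotopy f 0) := by
  have h1 : HomComplex.Cochain.ofHom f =
      HomComplex.Cochain.fromSingleMk (X := S) (K := L) (p := 0) (q := 0)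
        ((singleObjXSelf (ComplexShape.up ℤ) 0 S).inv ≫ f.f 0) (n := 0) (by simp) := by
    apply (HomComplex.Cochain.fromSingleEquiv (X := S) (K := L) (p := 0) (q := 0) (n := 0)
      (by simp)).injective
    rw [HomComplex.Cochain.fromSingleEquiv_fromSingleMk]
    simp [HomComplex.Cochain.fromSingleEquiv]
  have h2 : HomComplex.δ (-1) 0 (HomComplex.Cochain.fromSingleMk (X := S) (K := L) (p := 0)
      (q := -1) g (n := -1) (by simp)) =
      HomComplex.Cochain.fromSingleMk (X := S) (K := L) (p := 0) (q := 0)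
        (g ≫ L.d (-1) 0) (n := 0) (by simp) :=
    HomComplex.Cochain.δ_fromSingleMk g _ 0 0 (by simp)
  exact ⟨(HomComplex.Cochain.equivHomotopy f 0).symm
    ⟨HomComplex.Cochain.fromSingleMk (X := S) (K := L) (p := 0) (q := -1) g (n := -1) (by simp), by
      rw [h2, hx, h1]; simp⟩⟩

/-- a chain map from a single complex whose cycle is a boundary is zero in the derived category -/
lemma Q_map_eq_zero {S : A} {L : CochainComplex A ℤ} (f : sg S ⟶ L) (g : S ⟶ L.X (-1))
    (hg : g ≫ L.toCycles (-1) 0 = zOf f) : Q.map f = 0 := by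
  have hx : g ≫ L.d (-1) 0 = (singleObjXSelf (ComplexShape.up ℤ) 0 S).inv ≫ f.f 0 := by
    rw [← zOf_iCycles, ← hg, Category.assoc, toCycles_i]
  obtain ⟨hh⟩ : Nonempty (Homotopy f 0) := nonempty_homotopy_zero f g hx
  have h3 : (HomotopyCategory.quotient A (ComplexShape.up ℤ)).map f = 0 := by
    rw [HomotopyCategory.eq_of_homotopy f 0 hh, Functor.map_zero]
  show Qh.map ((HomotopyCategory.quotient A (ComplexShape.up ℤ)).map f) = 0
  rw [h3, Functor.map_zero]

/-- maps in the derived category to a K-injective complex come from chain maps -/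
lemma exists_Q_map_eq {X L : CochainComplex A ℤ} [L.IsKInjective] (φ : Q.obj X ⟶ Q.obj L) :
    ∃ f : X ⟶ L, Q.map f = φ := by
  obtain ⟨g, hg⟩ := (CochainComplex.IsKInjective.Qh_map_bijective
    ((HomotopyCategory.quotient A (ComplexShape.up ℤ)).obj X) L).surjective φ
  obtain ⟨f, rfl⟩ := (HomotopyCategory.quotient A (ComplexShape.up ℤ)).map_surjective g
  exact ⟨f, hg⟩

/-- `Q.map f` with the source written as `S[0]` -/
noncomputable def qm {S : A} {L : CochainComplex A ℤ} (f : sg S ⟶ L) :
    (DerivedCategory.singleFunctor A 0).obj S ⟶ Q.obj L := Q.map f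

lemma h0_qm {S : A} {L : CochainComplex A ℤ} (f : sg S ⟶ L) :
    h0 (qm f) = zOf f ≫ L.homologyπ 0 ≫ (hF L).inv := h0_Q_map f

lemma qm_eq_zero {S : A} {L : CochainComplex A ℤ} (f : sg S ⟶ L) (g : S ⟶ L.X (-1))
    (hg : g ≫ L.toCycles (-1) 0 = zOf f) : qm f = 0 := Q_map_eq_zero f g hg

lemma exists_qm_eq {S : A} {L : CochainComplex A ℤ} [L.IsKInjective]
    (φ : (DerivedCategory.singleFunctor A 0).obj S ⟶ Q.obj L) : ∃ f : sg S ⟶ L, qm f = φ :=
  exists_Q_map_eq (X := sg S) φ

lemma qm_precomp {S' S : A} (j : S' ⟶ S) {L : CochainComplex A ℤ} (f : sg S ⟶ L) :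
    (DerivedCategory.singleFunctor A 0).map j ≫ qm f =
      qm ((HomologicalComplex.single A (ComplexShape.up ℤ) 0).map j ≫ f) :=
  (Q.map_comp ((HomologicalComplex.single A (ComplexShape.up ℤ) 0).map j) f).symm

end Groth.Agent.Lib.Helper83.SingleHom
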