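import Mathlib
import Groth.Prelude.Def_CohCx
import Groth.Agent.Lib.Helper5.SiteCoh
import Groth.Agent.Lib.Helper32.KInjRes
import Groth.Agent.Lib.Helper83.SingleHom

/-!
# The sheafification of `U ↦ Hom_D(ℤ[h_U], K[q])` is `H^q(K)` (helper83)
-/

set_option autoImplicit false
universe w u

namespace Groth.Agent.Lib.Helper83.SheafHD

open CategoryTheory CategoryTheory.Limits Opposite DerivedCategory
open Groth.Agent.Lib.Helper5.SiteCoh Groth.Agent.Lib.Helper83.SingleHom

variable {C : Type u} [SmallCategory C] {J : GrothendieckTopology C}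

/-- local lifting along epis of abelian sheaves -/
lemma local_lift {X Y : Sheaf J AddCommGrpCat.{u}} (p : X ⟶ Y) [Epi p] {U : C}
    (ψ : freeSheaf J U ⟶ Y) :
    ∃ R ∈ J U, ∀ {V : C} (h : V ⟶ U), R h →
      ∃ t : freeSheaf J V ⟶ X, t ≫ p = freeMap J h ≫ ψ := by
  have hp : Sheaf.IsLocallySurjective p := (Sheaf.isLocallySurjective_iff_epi' _ p).2 inferInstance
  refine ⟨Presheaf.imageSieve p.hom (βAdd U Y ψ), Presheaf.imageSieve_mem J p.hom _, ?_⟩
  intro V h hh
  obtain ⟨t, ht⟩ := hh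
  refine ⟨(βAdd V X).symm t, ?_⟩
  apply (βAdd V Y).injective
  rw [βAdd_naturality, AddEquiv.apply_symm_apply, βAdd_freeMap]
  exact ht

section General

variable [HasDerivedCategory.{w} (Sheaf J AddCommGrpCat.{u})]

section KInj

variable {M : DerivedCategory (Sheaf J AddCommGrpCat.{u})}
  {L : CochainComplex (Sheaf J AddCommGrpCat.{u}) ℤ} [L.IsKInjective] (eL : M ≅ Q.obj L)

include eL

lemma locally_zero {U : C}
    (φ : (DerivedCategory.singleFunctor (Sheaf J AddCommGrpCat.{u}) 0).obj (freeSheaf J U) ⟶ M)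
    (hφ : h0 φ = 0) :
    ∃ R ∈ J U, ∀ {V : C} (h : V ⟶ U), R h →
      (DerivedCategory.singleFunctor (Sheaf J AddCommGrpCat.{u}) 0).map (freeMap J h) ≫ φ = 0 := by
  obtain ⟨f, hf⟩ := exists_qm_eq (φ ≫ eL.hom)
  have h1 : zOf f ≫ L.homologyπ 0 = 0 := by
    have h2 : h0 (qm f) = 0 := by rw [hf, h0_postcomp, hφ, zero_comp]
    rw [h0_qm, ← Category.assoc] at h2
    have h3 := h2 =≫ (hF L).hom
    simpa using h3
  let κ : freeSheaf J U ⟶ kernel (L.homologyπ 0) := kernel.lift (L.homologyπ 0) (zOf f) h1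
  let p : L.X (-1) ⟶ kernel (L.homologyπ 0) :=
    kernel.lift _ (L.toCycles (-1) 0) (L.toCycles_comp_homologyπ (-1) 0)
  have hp : Epi p :=
    (ShortComplex.exact_of_g_is_cokernel
      (ShortComplex.mk _ _ (L.toCycles_comp_homologyπ (-1) 0))
      (L.homologyIsCokernel (-1) 0 (by simp))).epi_kernelLift
  obtain ⟨R, hR, hlift⟩ := local_lift p κ
  refine ⟨R, hR, fun {V} h hh => ?_⟩
  obtain ⟨g, hg⟩ := hlift h hh
  have hz : g ≫ L.toCycles (-1) 0 =
      zOf ((HomologicalComplex.single _ (ComplexShape.up ℤ) 0).map (freeMap J h) ≫ f) := by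
    rw [zOf_precomp]
    have h4 := hg =≫ kernel.ι _
    simpa [p, κ] using h4
  have h5 := qm_eq_zero _ g hz
  have h6 : ((DerivedCategory.singleFunctor (Sheaf J AddCommGrpCat.{u}) 0).map (freeMap J h) ≫ φ) ≫
      eL.hom = 0 := by
    rw [Category.assoc, ← hf, qm_precomp]
    exact h5
  exact (cancel_mono eL.hom).1 (by rw [h6, zero_comp])

omit [L.IsKInjective] in
lemma locally_surj {U : C}
    (ψ : freeSheaf J U ⟶ (DerivedCategory.homologyFunctor (Sheaf J AddCommGrpCat.{u}) 0).obj M) :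
    ∃ R ∈ J U, ∀ {V : C} (h : V ⟶ U), R h →
      ∃ φ : (DerivedCategory.singleFunctor (Sheaf J AddCommGrpCat.{u}) 0).obj (freeSheaf J V) ⟶ M,
        h0 φ = freeMap J h ≫ ψ := by
  obtain ⟨R, hR, hlift⟩ := local_lift (L.homologyπ 0)
    (ψ ≫ (DerivedCategory.homologyFunctor _ 0).map eL.hom ≫ (hF L).hom)
  refine ⟨R, hR, fun {V} h hh => ?_⟩
  obtain ⟨z, hz⟩ := hlift h hh
  obtain ⟨f, rfl⟩ := exists_zOf_eq z
  refine ⟨qm f ≫ eL.inv, ?_⟩
  rw [h0_postcomp, h0_qm, ← Category.assoc (zOf f), hz]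
  have e1 : (DerivedCategory.homologyFunctor (Sheaf J AddCommGrpCat.{u}) 0).map eL.hom ≫
      (DerivedCategory.homologyFunctor (Sheaf J AddCommGrpCat.{u}) 0).map eL.inv = 𝟙 _ := by
    rw [← Functor.map_comp, Iso.hom_inv_id, CategoryTheory.Functor.map_id]
  simp only [Category.assoc, Iso.hom_inv_id]
  erw [Category.id_comp, e1, Category.comp_id]

end KInj


lemma exists_kInjective (M : DerivedCategory (Sheaf J AddCommGrpCat.{u})) :
    ∃ (L : CochainComplex (Sheaf J AddCommGrpCat.{u}) ℤ), L.IsKInjective ∧ Nonempty (M ≅ Q.obj L) := by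
  obtain ⟨I, f, hI, hf, -, -⟩ :=
    Groth.Agent.Lib.Helper32.KInjRes.exists_kInjective_resolution (Q.objPreimage M)
  exact ⟨I, hI, ⟨(Q.objObjPreimageIso M).symm ≪≫ asIso (Q.map f)⟩⟩

/-- if maps from `ℤ[h_U][0]` to `M` vanish for `U` in a class of objects covering every object, then
`H^0(M) = 0` -/
theorem isZero_H0_of_cover (M : DerivedCategory (Sheaf J AddCommGrpCat.{u})) (B : Set C)
    (hB : ∀ U : C, ∃ (ι : Type u) (Y : ι → C) (f : ∀ i, Y i ⟶ U),
      Sieve.ofArrows Y f ∈ J U ∧ ∀ i, Y i ∈ B)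
    (h : ∀ U ∈ B, ∀ φ : (DerivedCategory.singleFunctor (Sheaf J AddCommGrpCat.{u}) 0).obj
      (freeSheaf J U) ⟶ M, φ = 0) :
    IsZero ((DerivedCategory.homologyFunctor (Sheaf J AddCommGrpCat.{u}) 0).obj M) := by
  obtain ⟨L, hL, ⟨eL⟩⟩ := exists_kInjective M
  set F := (DerivedCategory.homologyFunctor (Sheaf J AddCommGrpCat.{u}) 0).obj M with hF
  have key : ∀ (U : C) (s : F.obj.obj (op U)), s = 0 := by
    intro U s
    obtain ⟨R, hR, hR'⟩ := locally_surj eL ((βAdd U F).symm s)
    have hsep := Presheaf.IsSheaf.isSeparated F.property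
    let T : Sieve U :=
      { arrows := fun W k => F.obj.map k.op s = 0
        downward_closed := by
          intro W W' k hk g
          rw [op_comp, Functor.map_comp, ConcreteCategory.comp_apply, hk, map_zero] }
    have hT : T ∈ J U := by
      refine J.transitive hR T (fun V hV hh => ?_)
      obtain ⟨φ, hφ⟩ := hR' hV hh
      obtain ⟨ι, Y, g, hg, hY⟩ := hB V
      refine J.superset_covering ?_ hg
      rintro W _ ⟨Z, a, b, hb, rfl⟩
      cases hb with | mk i => ?_
      change F.obj.map ((a ≫ g i) ≫ hV).op s = 0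
      have h1 : F.obj.map ((a ≫ g i) ≫ hV).op s =
          F.obj.map (a ≫ g i).op (F.obj.map hV.op s) := by
        rw [op_comp, Functor.map_comp, ConcreteCategory.comp_apply]
      have h2 : F.obj.map hV.op s = βAdd V F (h0 φ) := by
        rw [hφ, βAdd_freeMap, AddEquiv.apply_symm_apply]
      have h3 : F.obj.map (g i).op (βAdd V F (h0 φ)) = 0 := by
        rw [← βAdd_freeMap, ← h0_precomp,
          h (Y i) (hY i) ((DerivedCategory.singleFunctor _ 0).map (freeMap J (g i)) ≫ φ),
          h0_zero, map_zero]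
      rw [h1, h2, op_comp, Functor.map_comp, ConcreteCategory.comp_apply, h3, map_zero]
    refine hsep U T hT s 0 (fun W k hk => ?_)
    rw [map_zero]
    exact hk
  rw [IsZero.iff_id_eq_zero]
  ext U s
  exact key U.unop s

end General

section Small

variable [HasDerivedCategory.{u} (Sheaf J AddCommGrpCat.{u})]

/-- the functor `U ↦ ℤ[h_U][0]` -/
noncomputable abbrev G (J : GrothendieckTopology C) [HasDerivedCategory.{u} (Sheaf J AddCommGrpCat.{u})] :
    C ⥤ DerivedCategory (Sheaf J AddCommGrpCat.{u}) :=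
  yoneda ⋙ (Functor.whiskeringRight _ _ _).obj AddCommGrpCat.free.{u} ⋙ presheafToSheaf J AddCommGrpCat.{u} ⋙
      DerivedCategory.singleFunctor (Sheaf J AddCommGrpCat.{u}) 0

/-- the presheaf `U ↦ Hom_D(ℤ[h_U][0], M)` -/
noncomputable abbrev PM (M : DerivedCategory (Sheaf J AddCommGrpCat.{u})) : Cᵒᵖ ⥤ AddCommGrpCat.{u} :=
  (G J).op ⋙ preadditiveYoneda.obj M

/-- the comparison map to the sections of `H^0` -/
noncomputable def θ (M : DerivedCategory (Sheaf J AddCommGrpCat.{u})) :
    PM M ⟶ ((DerivedCategory.homologyFunctor (Sheaf J AddCommGrpCat.{u}) 0).obj M).obj where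
  app U := AddCommGrpCat.ofHom
    ((βAdd U.unop _).toAddMonoidHom.comp (h0Add (freeSheaf J U.unop) M))
  naturality U V h := by
    have key : ∀ φ : ((DerivedCategory.singleFunctor (Sheaf J AddCommGrpCat.{u}) 0).obj
        (freeSheaf J U.unop) ⟶ M),
        βAdd V.unop _ (h0 (S := freeSheaf J V.unop)
          ((DerivedCategory.singleFunctor _ 0).map (freeMap J h.unop) ≫ φ)) =
        ((DerivedCategory.homologyFunctor (Sheaf J AddCommGrpCat.{u}) 0).obj M).obj.map h
          (βAdd U.unop _ (h0 φ)) := by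
      intro φ
      rw [h0_precomp, βAdd_freeMap]
      rfl
    ext φ
    exact key φ

section KInjθ

variable {M : DerivedCategory (Sheaf J AddCommGrpCat.{u})}
  {L : CochainComplex (Sheaf J AddCommGrpCat.{u}) ℤ} [L.IsKInjective] (eL : M ≅ Q.obj L)

include eL

lemma isLocallyInjective_θ : Presheaf.IsLocallyInjective J (θ M) where
  equalizerSieve_mem {X} x y hxy := by
    have key : ∀ (x y : ((DerivedCategory.singleFunctor (Sheaf J AddCommGrpCat.{u}) 0).obj
        (freeSheaf J X.unop) ⟶ M)), βAdd X.unop _ (h0 x) = βAdd X.unop _ (h0 y) →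
        Presheaf.equalizerSieve (F := PM M) (X := X) x y ∈ J X.unop := by
      intro x y hxy
      have h1 : h0 (x - y) = 0 := by
        rw [h0_sub, (βAdd X.unop _).injective hxy, sub_self]
      obtain ⟨R, hR, hR'⟩ := locally_zero eL (x - y) h1
      refine J.superset_covering ?_ hR
      intro V h hh
      have h2 := hR' h hh
      rw [Preadditive.comp_sub, sub_eq_zero] at h2
      exact h2
    exact key x y hxy

omit [L.IsKInjective] in
lemma isLocallySurjective_θ : Presheaf.IsLocallySurjective J (θ M) where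
  imageSieve_mem {U} s := by
    obtain ⟨R, hR, hR'⟩ := locally_surj eL ((βAdd U _).symm s)
    refine J.superset_covering ?_ hR
    intro V h hh
    obtain ⟨φ, hφ⟩ := hR' h hh
    refine ⟨φ, ?_⟩
    change βAdd V _ (h0 φ) = _
    rw [hφ, βAdd_freeMap, AddEquiv.apply_symm_apply]

end KInjθ

/-- the sheafification of `U ↦ Hom_D(ℤ[h_U][0], M)` is `H^0(M)` -/
theorem nonempty_sheafify_PM_iso (M : DerivedCategory (Sheaf J AddCommGrpCat.{u})) :
    Nonempty ((presheafToSheaf J AddCommGrpCat.{u}).obj (PM M) ≅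
      (DerivedCategory.homologyFunctor (Sheaf J AddCommGrpCat.{u}) 0).obj M) := by
  obtain ⟨L, hL, ⟨eL⟩⟩ := exists_kInjective M
  have := isLocallyInjective_θ eL
  have := isLocallySurjective_θ eL
  have hW : J.W (θ M) := J.W_of_isLocallyBijective (θ M)
  have hiso : IsIso ((presheafToSheaf J AddCommGrpCat.{u}).map (θ M)) := (J.W_iff _).1 hW
  exact ⟨asIso ((presheafToSheaf J AddCommGrpCat.{u}).map (θ M)) ≪≫
    asIso ((sheafificationAdjunction J AddCommGrpCat.{u}).counit.app _)⟩

end Small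

end Groth.Agent.Lib.Helper83.SheafHD
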