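import Mathlib
import Groth.Agent.Lib.Helper83.SheafHD

/-!
# Injectivity on sections of cohomology sheaves from local injectivity on hypercohomology (helper83)
-/

set_option autoImplicit false
universe w u

namespace Groth.Agent.Lib.Helper83.SheafHDInj

open CategoryTheory CategoryTheory.Limits Opposite DerivedCategory
open Groth.Agent.Lib.Helper5.SiteCoh Groth.Agent.Lib.Helper83.SingleHom Groth.Agent.Lib.Helper83.SheafHD

variable {C : Type u} [SmallCategory C] {J : GrothendieckTopology C}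
  [HasDerivedCategory.{w} (Sheaf J AddCommGrpCat.{u})]

omit [HasDerivedCategory.{w} (Sheaf J AddCommGrpCat.{u})] in
lemma freeMap_comp {W' W V : C} (g' : W' ⟶ W) (g : W ⟶ V) :
    freeMap J (g' ≫ g) = freeMap J g' ≫ freeMap J g := by
  dsimp only [freeMap]
  rw [← Functor.map_comp, ← Functor.whiskerRight_comp, ← Functor.map_comp]

/-- Let `b : M ⟶ N` in the derived category of abelian sheaves and `V` an object such that every
covering sieve of `V` contains a covering family `Y i → V` on which `b ∘ -` is injective on maps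
`ℤ[h_{Y i}][0] ⟶ M`. Then `H^0(b)` is injective on sections over `V`. -/
theorem injective_H0_app {M N : DerivedCategory (Sheaf J AddCommGrpCat.{u})} (b : M ⟶ N) (V : C)
    (h : ∀ T ∈ J V, ∃ (ι : Type u) (Y : ι → C) (f : ∀ i, Y i ⟶ V), (∀ i, T.arrows (f i)) ∧
      Sieve.ofArrows Y f ∈ J V ∧ ∀ i, ∀ y : (DerivedCategory.singleFunctor (Sheaf J AddCommGrpCat.{u}) 0).obj
        (freeSheaf J (Y i)) ⟶ M, y ≫ b = 0 → y = 0) :
    Function.Injective (((DerivedCategory.homologyFunctor (Sheaf J AddCommGrpCat.{u}) 0).map b).hom.app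
      (op V)) := by
  obtain ⟨LM, hLM, ⟨eM⟩⟩ := exists_kInjective M
  obtain ⟨LN, hLN, ⟨eN⟩⟩ := exists_kInjective N
  set FM := (DerivedCategory.homologyFunctor (Sheaf J AddCommGrpCat.{u}) 0).obj M with hFM
  set FN := (DerivedCategory.homologyFunctor (Sheaf J AddCommGrpCat.{u}) 0).obj N with hFN
  set Hb := (DerivedCategory.homologyFunctor (Sheaf J AddCommGrpCat.{u}) 0).map b with hHb
  rw [← AddMonoidHom.coe_coe, injective_iff_map_eq_zero]
  intro s hs
  -- the section as a map from the free sheaf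
  set ψ : freeSheaf J V ⟶ FM := (βAdd V FM).symm s with hψ
  have hψb : ψ ≫ Hb = 0 := by
    apply (βAdd V FN).injective
    rw [βAdd_naturality, hψ, AddEquiv.apply_symm_apply, map_zero]
    exact hs
  obtain ⟨R, hR, hR'⟩ := locally_surj eM ψ
  -- for each arrow of `R` choose a class and a sieve on which its image vanishes
  have key : ∀ {W : C} (g : W ⟶ V), R g → ∃ R' ∈ J W, ∀ {W' : C} (g' : W' ⟶ W), R' g' →
      ∃ y : (DerivedCategory.singleFunctor (Sheaf J AddCommGrpCat.{u}) 0).obj (freeSheaf J W') ⟶ M,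
        h0 y = freeMap J (g' ≫ g) ≫ ψ ∧ y ≫ b = 0 := by
    intro W g hg
    obtain ⟨y, hy⟩ := hR' g hg
    have hz : h0 (y ≫ b) = 0 := by
      rw [h0_postcomp, hy, Category.assoc]
      erw [hψb]
      rw [comp_zero]
    obtain ⟨R', hR', hR''⟩ := locally_zero eN (y ≫ b) hz
    refine ⟨R', hR', fun {W'} g' hg' => ⟨(DerivedCategory.singleFunctor _ 0).map (freeMap J g') ≫ y, ?_, ?_⟩⟩
    · rw [h0_precomp, hy, ← Category.assoc, freeMap_comp]
    · rw [Category.assoc]
      exact hR'' g' hg'
  let T : Sieve V := Sieve.bind R.arrows (fun W g hg => (key g hg).choose)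
  have hT : T ∈ J V := J.bind_covering hR (fun W g hg => (key g hg).choose_spec.1)
  obtain ⟨ι, Y, f, hfT, hcov, hinj⟩ := h T hT
  have hres : ∀ i, freeMap J (f i) ≫ ψ = 0 := by
    intro i
    obtain ⟨W, g', g, hg, hg', hfi⟩ := hfT i
    obtain ⟨y, hy1, hy2⟩ := (key g hg).choose_spec.2 g' hg'
    rw [hfi] at hy1
    rw [← hy1, hinj i y hy2, h0_zero]
  have hsep := Presheaf.IsSheaf.isSeparated FM.property
  refine hsep V _ hcov s 0 ?_
  rintro W _ ⟨Z, a, _, ⟨i⟩, rfl⟩
  rw [map_zero, op_comp, Functor.map_comp, ConcreteCategory.comp_apply]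
  have h1 : FM.obj.map (f i).op s = 0 := by
    have h2 := βAdd_freeMap (f i) FM ψ
    rw [hres i, map_zero, hψ, AddEquiv.apply_symm_apply] at h2
    exact h2.symm
  rw [h1, map_zero]

end Groth.Agent.Lib.Helper83.SheafHDInj
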