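import Mathlib
import Groth.Agent.Lib.Helper32.DCoprod
import Groth.Agent.Lib.Helper74.ModQc.CompactD
import Groth.Agent.Lib.Helper83.SingleHom

/-!
# Maps from `S[0]` to a coproduct in `D(A)` as finite sums (helper83)

If morphisms `S ⟶ ∐ Y` in `A` decompose as finite sums and morphisms `S[0] ⟶ Q (∐ X)` in `D(A)` lift to
chain maps, then `S[0]` has the finite sum property with respect to the coproduct cofan `Q (∐ X)`.
-/

set_option autoImplicit false
universe w v u

namespace Groth.Agent.Lib.Helper83.CoprodDecomp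

open CategoryTheory CategoryTheory.Limits DerivedCategory HomologicalComplex CochainComplex Opposite
open Groth.Agent.Lib.Helper83.SingleHom Groth.Agent.Lib.Helper32.DCoprod
  Groth.Agent.Lib.Helper74.ModQc

variable {A : Type u} [Category.{v} A] [Abelian A]
variable {J : Type w} [HasColimitsOfShape (Discrete J) A]

open Classical in
/-- the projection from a coproduct onto a summand -/
noncomputable def prA (Y : J → A) (j : J) : ∐ Y ⟶ Y j :=
  Sigma.desc (fun i => if h : i = j then eqToHom (congrArg Y h) else 0)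

@[reassoc]
lemma ι_prA_self (Y : J → A) (j : J) : Sigma.ι Y j ≫ prA Y j = 𝟙 _ := by
  unfold prA
  rw [Sigma.ι_desc, dif_pos rfl, eqToHom_refl]

@[reassoc]
lemma ι_prA_ne (Y : J → A) {i j : J} (h : i ≠ j) : Sigma.ι Y i ≫ prA Y j = 0 := by
  unfold prA
  rw [Sigma.ι_desc, dif_neg h]

/-- morphisms from `S` to coproducts of shape `J` are finite sums of their components -/
def DecompObj (J : Type w) [HasColimitsOfShape (Discrete J) A] (S : A) : Prop :=
  ∀ (Y : J → A) (g : S ⟶ ∐ Y), ∃ T : Finset J, g = ∑ j ∈ T, (g ≫ prA Y j) ≫ Sigma.ι Y j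

lemma sigmaCxPr_f (X : J → CochainComplex A ℤ) (j : J) (q : ℤ) :
    (sigmaCxPr X j).f q = prA (fun i => (X i).X q) j := by
  classical
  unfold sigmaCxPr prA
  change Sigma.desc (fun i => (if h : i = j then eqToHom (congrArg X h) else 0 :
    X i ⟶ X j).f q) = _
  congr 1
  funext i
  split_ifs with h
  · subst h
    simp
  · rfl

/-- a chain map from `S` in degree `0` to a termwise coproduct of complexes is a finite
sum of its components -/
lemma exists_finset_decomp_single {S : A} (hS : DecompObj J S) (X : J → CochainComplex A ℤ)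
    (f : sg S ⟶ sigmaCx X) :
    ∃ T : Finset J, f = ∑ j ∈ T, (f ≫ sigmaCxPr X j) ≫ sigmaι X j := by
  let e := HomologicalComplex.singleObjXSelf (ComplexShape.up ℤ) (0 : ℤ) S
  obtain ⟨T, hT⟩ := hS (fun j => (X j).X 0) (e.inv ≫ f.f 0)
  refine ⟨T, HomologicalComplex.from_single_hom_ext ?_⟩
  have hsum : (∑ j ∈ T, (f ≫ sigmaCxPr X j) ≫ sigmaι X j).f 0 =
      ∑ j ∈ T, ((f ≫ sigmaCxPr X j) ≫ sigmaι X j).f 0 :=
    (HomologicalComplex.eval A (ComplexShape.up ℤ) 0).map_sum _ T
  have h1 : f.f 0 = e.hom ≫ (e.inv ≫ f.f 0) := by rw [e.hom_inv_id_assoc]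
  have h2 : f.f 0 = ∑ j ∈ T, e.hom ≫ (((e.inv ≫ f.f 0) ≫ prA (fun j => (X j).X 0) j) ≫
      Sigma.ι (fun j => (X j).X 0) j) := by
    rw [← Preadditive.comp_sum]
    exact h1.trans (congrArg (fun t => e.hom ≫ t) hT)
  rw [hsum]
  refine h2.trans (Finset.sum_congr rfl (fun j _ => ?_))
  simp only [HomologicalComplex.comp_f, sigmaCxPr_f, Category.assoc, e.hom_inv_id_assoc]
  rfl

variable [HasDerivedCategory.{w} A]

/-- the finite sum property of `S[0]` with respect to `Q (∐ X)` -/
theorem finSum_cofanQ_single {S : A} (hS : DecompObj J S) (X : J → CochainComplex A ℤ)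
    (hlift : ∀ φ : (DerivedCategory.singleFunctor A 0).obj S ⟶ Q.obj (sigmaCx X),
      ∃ f : sg S ⟶ sigmaCx X, qm f = φ) :
    FinSum ((DerivedCategory.singleFunctor A 0).obj S) (cofanQ X) := by
  intro φ
  obtain ⟨f, rfl⟩ := hlift φ
  obtain ⟨T, hT⟩ := exists_finset_decomp_single hS X f
  refine ⟨T, fun j => qm (f ≫ sigmaCxPr X j), ?_⟩
  have h1 : Q.map f = ∑ j ∈ T, Q.map (f ≫ sigmaCxPr X j) ≫ Q.map (sigmaι X j) := by
    conv_lhs => rw [hT]
    rw [Functor.map_sum]
    refine Finset.sum_congr rfl (fun j _ => ?_)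
    rw [Functor.map_comp]
  exact h1

end Groth.Agent.Lib.Helper83.CoprodDecomp
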