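import Mathlib
import Groth.Agent.Lib.Helper32.RDPlus

/-!
# `Ext(S, -)`-acyclic objects and bounded below complexes of such (helper83)

For `S : A`, `EA S X` says `Ext^p(S, X) = 0` for `p > 0`.  The functor `Hom(S, -)` preserves
quasi-isomorphisms between bounded below complexes with `EA S` terms.
-/

set_option autoImplicit false
universe w v u

namespace Groth.Agent.Lib.Helper83.ExtAcyc

open CategoryTheory CategoryTheory.Limits Abelian Opposite

variable {A : Type u} [Category.{v} A] [Abelian A] [HasExt.{w} A]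

/-- `X` is `Ext(S, -)`-acyclic -/
def EA (S : A) : ObjectProperty A := fun X => ∀ (p : ℕ), 0 < p → ∀ x : Ext.{w} S X p, x = 0

lemma EA_of_injective (S X : A) [Injective X] : EA.{w} S X := by
  intro p hp x
  obtain ⟨q, rfl⟩ : ∃ q, p = q + 1 := ⟨p - 1, by omega⟩
  exact Ext.eq_zero_of_injective x

/-- an element of `Ext` factoring through an endomorphism killed... : generic retraction step -/
lemma eq_zero_of_comp {S X Y : A} {p : ℕ} (x : Ext.{w} S X p) (f : X ⟶ Y) (g : Y ⟶ X)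
    (hfg : f ≫ g = 𝟙 X) (h : x.comp (Ext.mk₀ f) (add_zero p) = 0) : x = 0 := by
  have h1 : x = (x.comp (Ext.mk₀ f) (add_zero p)).comp (Ext.mk₀ g) (add_zero p) := by
    rw [Ext.comp_assoc_of_third_deg_zero, Ext.mk₀_comp_mk₀, hfg, Ext.comp_mk₀_id]
  rw [h1, h, Ext.zero_comp]

lemma EA_of_isZero (S X : A) (hX : IsZero X) : EA.{w} S X := by
  intro p hp x
  refine eq_zero_of_comp x (𝟙 X) (𝟙 X) (by simp) ?_
  rw [hX.eq_of_src (𝟙 X) 0, Ext.mk₀_zero, Ext.comp_zero]

lemma EA_of_iso (S : A) {X Y : A} (e : X ≅ Y) (hX : EA.{w} S X) : EA.{w} S Y := by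
  intro p hp y
  exact eq_zero_of_comp y e.inv e.hom e.inv_hom_id (hX p hp _)

instance (S : A) : (EA.{w} S).IsClosedUnderIsomorphisms where
  of_iso e h := EA_of_iso S e h

lemma EA_biprod (S : A) {X Y : A} (hX : EA.{w} S X) (hY : EA.{w} S Y) : EA.{w} S (X ⊞ Y) := by
  intro p hp x
  have h1 : x = (x.comp (Ext.mk₀ biprod.fst) (add_zero p)).comp (Ext.mk₀ biprod.inl) (add_zero p) +
      (x.comp (Ext.mk₀ biprod.snd) (add_zero p)).comp (Ext.mk₀ biprod.inr) (add_zero p) := by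
    rw [Ext.comp_assoc_of_third_deg_zero, Ext.comp_assoc_of_third_deg_zero, Ext.mk₀_comp_mk₀,
      Ext.mk₀_comp_mk₀, ← Ext.comp_add, ← Ext.mk₀_add, biprod.total, Ext.comp_mk₀_id]
  rw [h1, hX p hp (x.comp (Ext.mk₀ biprod.fst) (add_zero p)),
    hY p hp (x.comp (Ext.mk₀ biprod.snd) (add_zero p)), Ext.zero_comp, Ext.zero_comp, add_zero]

/-- two out of three for `EA`, and exactness of `Hom(S, -)` -/
lemma two_of_three (S : A) (T : ShortComplex A) (hT : T.ShortExact) (h₁ : EA.{w} S T.X₁)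
    (h₂ : EA.{w} S T.X₂) :
    EA.{w} S T.X₃ ∧ (T.map (preadditiveCoyoneda.obj (op S))).ShortExact := by
  constructor
  · intro p hp x₃
    obtain ⟨x₂, hx₂⟩ := Ext.covariant_sequence_exact₃ S hT x₃ (rfl : p + 1 = p + 1)
      (h₁ (p + 1) (by omega) _)
    rw [← hx₂, h₂ p hp x₂, Ext.zero_comp]
  · have hl := (Functor.preservesFiniteLimits_iff_forall_exact_map_and_mono
      (preadditiveCoyoneda.obj (op S))).1 inferInstance T hT
    have hepi : Epi ((preadditiveCoyoneda.obj (op S)).map T.g) := by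
      rw [AddCommGrpCat.epi_iff_surjective]
      intro (ψ : S ⟶ T.X₃)
      obtain ⟨x₂, hx₂⟩ := Ext.covariant_sequence_exact₃ S hT (Ext.mk₀ ψ) (rfl : 0 + 1 = 1)
        (h₁ 1 (by omega) _)
      obtain ⟨ψ₂, rfl⟩ := (Ext.mk₀_bijective S T.X₂).2 x₂
      rw [Ext.mk₀_comp_mk₀] at hx₂
      exact ⟨ψ₂, (Ext.mk₀_bijective S T.X₃).1 hx₂⟩
    exact { exact := hl.1, mono_f := hl.2, epi_g := hepi }

/-- `Hom(S, -)` preserves acyclicity of bounded below complexes with `EA S` terms -/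
lemma acyclic_map (S : A) (N : CochainComplex A ℤ) (a : ℤ) [N.IsStrictlyGE a] (hN : N.Acyclic)
    (hI : ∀ k, EA.{w} S (N.X k)) :
    (((preadditiveCoyoneda.obj (op S)).mapHomologicalComplex (ComplexShape.up ℤ)).obj N).Acyclic :=
  Groth.Agent.Lib.Helper32.Adapted.acyclic_map (preadditiveCoyoneda.obj (op S)) (EA.{w} S)
    (fun T hT h₁ h₂ => two_of_three S T hT h₁ h₂) N a hN hI (fun Z hZ => EA_of_isZero S Z hZ)

/-- `Hom(S, -)` preserves quasi-isomorphisms between bounded below complexes with `EA S` terms -/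
lemma quasiIso_map (S : A) {K L : CochainComplex A ℤ} (f : K ⟶ L) [QuasiIso f] (a : ℤ)
    [K.IsStrictlyGE a] [L.IsStrictlyGE a]
    (hK : ∀ k, EA.{w} S (K.X k)) (hL : ∀ k, EA.{w} S (L.X k)) :
    QuasiIso (((preadditiveCoyoneda.obj (op S)).mapHomologicalComplex (ComplexShape.up ℤ)).map f) := by
  rw [Groth.Agent.Lib.Helper32.ConeAcyclic.quasiIso_map_iff_acyclic_map_mappingCone]
  have : (CochainComplex.mappingCone f).IsStrictlyGE (a - 1) :=
    CochainComplex.isStrictlyGE_mappingCone f a a (a - 1)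
  refine acyclic_map S _ (a - 1)
    ((Groth.Agent.Lib.Helper32.ConeAcyclic.quasiIso_iff_acyclic_mappingCone f).1 inferInstance)
    (fun k => ?_)
  have e : (CochainComplex.mappingCone f).X k ≅ K.X (k + 1) ⊞ L.X k :=
    HomologicalComplex.homotopyCofiber.XIsoBiprod f k (k + 1) rfl
  exact EA_of_iso S e.symm (EA_biprod S (hK _) (hL _))

end Groth.Agent.Lib.Helper83.ExtAcyc
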