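import Mathlib
import Groth.Agent.Lib.Helper83.ExtAcyc
import Groth.Agent.Lib.Helper83.CoprodDecomp

/-!
# Consequences of `Ext^p(Z, -)` commuting with coproducts (helper83)
-/

set_option autoImplicit false
universe w' w v u

namespace Groth.Agent.Lib.Helper83.ExtCoprod

open CategoryTheory CategoryTheory.Limits Abelian Opposite
open Groth.Agent.Lib.Helper83.ExtAcyc Groth.Agent.Lib.Helper83.CoprodDecomp

section Ab

/-- every element of the point of a colimit cofan of abelian groups is a finite sum of elements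
coming from the summands -/
lemma exists_dsum_of_isColimit {J : Type w} [DecidableEq J] {F : J → AddCommGrpCat.{w'}}
    (c : Cofan F) (hc : IsColimit c) (x : c.pt) :
    ∃ s : DirectSum J (fun j => F j), DirectSum.toAddMonoid (fun j => (c.inj j).hom) s = x := by
  let φ : DirectSum J (fun j => F j) →+ c.pt := DirectSum.toAddMonoid (fun j => (c.inj j).hom)
  let H : AddSubgroup c.pt := φ.range
  let q : c.pt ⟶ AddCommGrpCat.of (c.pt ⧸ H) := AddCommGrpCat.ofHom (QuotientAddGroup.mk' H)
  have hq : q = 0 := by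
    apply Cofan.IsColimit.hom_ext hc
    intro j
    ext y
    rw [ConcreteCategory.comp_apply, ConcreteCategory.comp_apply]
    change QuotientAddGroup.mk' H ((c.inj j).hom y) = 0
    rw [QuotientAddGroup.mk'_apply, QuotientAddGroup.eq_zero_iff]
    exact ⟨DirectSum.of _ j y, DirectSum.toAddMonoid_of (fun j => (c.inj j).hom) j y⟩
  have hx : QuotientAddGroup.mk' H x = 0 := by
    have := ConcreteCategory.congr_hom hq x
    exact this
  rw [QuotientAddGroup.mk'_apply, QuotientAddGroup.eq_zero_iff] at hx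
  exact hx

/-- a colimit cofan on zero groups has zero point -/
lemma isZero_pt_of_isColimit {J : Type w} {F : J → AddCommGrpCat.{w'}}
    (c : Cofan F) (hc : IsColimit c) (hF : ∀ j, IsZero (F j)) : IsZero c.pt := by
  rw [IsZero.iff_id_eq_zero]
  apply Cofan.IsColimit.hom_ext hc
  intro j
  exact (hF j).eq_of_src _ _

end Ab

variable {A : Type u} [Category.{v} A] [Abelian A] [HasExt.{w'} A]
variable {J : Type w} [HasColimitsOfShape (Discrete J) A]

/-- if `Ext^p(Z, -)` commutes with coproducts for `p > 0`, coproducts of `Ext(Z, -)`-acyclic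
objects are `Ext(Z, -)`-acyclic -/
lemma EA_sigma (Z : A)
    (h : ∀ p : ℕ, 0 < p → PreservesColimitsOfShape (Discrete J) (extFunctorObj.{w'} Z p))
    (Y : J → A) (hY : ∀ j, EA.{w'} Z (Y j)) : EA.{w'} Z (∐ Y) := by
  intro p hp x
  have := h p hp
  have hc : IsColimit (Cofan.mk ((extFunctorObj.{w'} Z p).obj (∐ Y))
      (fun j => (extFunctorObj.{w'} Z p).map (Sigma.ι Y j))) :=
    isColimitMapCoconeCofanMkEquiv _ _ _
      (isColimitOfPreserves (extFunctorObj.{w'} Z p) (coproductIsCoproduct Y))
  have hz : IsZero ((extFunctorObj.{w'} Z p).obj (∐ Y)) := by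
    refine isZero_pt_of_isColimit _ hc (fun j => ?_)
    have : Subsingleton ((extFunctorObj.{w'} Z p).obj (Y j)) :=
      ⟨fun a b => (hY j p hp a).trans (hY j p hp b).symm⟩
    exact AddCommGrpCat.isZero_of_subsingleton _
  have : Subsingleton (Ext.{w'} Z (∐ Y) p) := AddCommGrpCat.subsingleton_of_isZero hz
  exact Subsingleton.elim _ _

/-- if `Hom(Z, -) = Ext^0(Z, -)` commutes with coproducts, morphisms from `Z` to a coproduct are
finite sums of their components -/
lemma decompObj_of_preserves (Z : A)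
    (h : PreservesColimitsOfShape (Discrete J) (extFunctorObj.{w'} Z 0)) : DecompObj J Z := by
  classical
  intro Y g
  have hc : IsColimit (Cofan.mk ((extFunctorObj.{w'} Z 0).obj (∐ Y))
      (fun j => (extFunctorObj.{w'} Z 0).map (Sigma.ι Y j))) :=
    isColimitMapCoconeCofanMkEquiv _ _ _
      (isColimitOfPreserves (extFunctorObj.{w'} Z 0) (coproductIsCoproduct Y))
  obtain ⟨s, hs⟩ := exists_dsum_of_isColimit _ hc (Ext.mk₀ g)
  -- components
  let γ : ∀ j, Z ⟶ Y j := fun j => Ext.addEquiv₀ (s j)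
  have hγ : ∀ j, Ext.mk₀ (γ j) = s j := fun j => Ext.addEquiv₀.symm_apply_apply (s j)
  have h1 : g = ∑ j ∈ DFinsupp.support s, γ j ≫ Sigma.ι Y j := by
    apply (Ext.mk₀_bijective Z (∐ Y)).1
    rw [← hs]
    conv_lhs => rw [← DirectSum.sum_support_of s]
    rw [map_sum]
    have h2 : Ext.mk₀ (∑ j ∈ DFinsupp.support s, γ j ≫ Sigma.ι Y j) =
        ∑ j ∈ DFinsupp.support s, Ext.mk₀ (γ j ≫ Sigma.ι Y j) :=
      map_sum (Ext.addEquiv₀ (X := Z) (Y := ∐ Y)).symm _ _
    rw [h2]
    refine Finset.sum_congr rfl (fun j _ => ?_)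
    rw [DirectSum.toAddMonoid_of, ← Ext.mk₀_comp_mk₀, hγ]
    rfl
  refine ⟨DFinsupp.support s, ?_⟩
  have h3 : ∀ j ∈ DFinsupp.support s, g ≫ prA Y j = γ j := by
    intro j hj
    conv_lhs => rw [h1]
    rw [Preadditive.sum_comp, Finset.sum_eq_single j]
    · rw [Category.assoc, ι_prA_self, Category.comp_id]
    · intro i _ hij
      rw [Category.assoc, ι_prA_ne Y hij, comp_zero]
    · intro hj'
      exact absurd hj hj'
  conv_lhs => rw [h1]
  exact Finset.sum_congr rfl (fun j hj => by rw [h3 j hj])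

end Groth.Agent.Lib.Helper83.ExtCoprod
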