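import Mathlib

/-!
# Elementwise description of the homology of cochain complexes of abelian groups (helper83)

`IsClass K z h`: the element `z : K.X j` is a cycle whose homology class is `h : K.homology j`.
-/

set_option autoImplicit false
universe u

namespace Groth.Agent.Lib.Helper83.AbCx

open CategoryTheory Limits

variable (K L : CochainComplex AddCommGrpCat.{u} ℤ)

lemma exists_cycle (i j : ℤ) (hij : i + 1 = j) (z : K.X i) (hz : K.d i j z = 0) :
    ∃ c : K.cycles i, K.iCycles i c = z := by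
  have hex : (ShortComplex.mk (K.iCycles i) (K.d i j) (K.iCycles_d i j)).Exact :=
    ShortComplex.exact_of_f_is_kernel _ (K.cyclesIsKernel i j (by simp [← hij]))
  exact (ShortComplex.ab_exact_iff _).1 hex z hz

lemma iCycles_injective (i : ℤ) : Function.Injective (K.iCycles i) :=
  (AddCommGrpCat.mono_iff_injective _).1 inferInstance

lemma homologyπ_surjective (i : ℤ) : Function.Surjective (K.homologyπ i) :=
  (AddCommGrpCat.epi_iff_surjective _).1 inferInstance

lemma exists_of_homologyπ_eq_zero (i j : ℤ) (hij : i + 1 = j) (c : K.cycles j)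
    (hc : K.homologyπ j c = 0) : ∃ x : K.X i, K.toCycles i j x = c := by
  have hex : (ShortComplex.mk (K.toCycles i j) (K.homologyπ j)
      (K.toCycles_comp_homologyπ i j)).Exact :=
    ShortComplex.exact_of_g_is_cokernel _ (K.homologyIsCokernel i j (by simp [← hij]))
  exact (ShortComplex.ab_exact_iff _).1 hex c hc

lemma iCycles_d_apply (i j : ℤ) (c : K.cycles i) : K.d i j (K.iCycles i c) = 0 := by
  have := ConcreteCategory.congr_hom (K.iCycles_d i j) c
  rw [ConcreteCategory.comp_apply] at this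
  exact this

lemma toCycles_i_apply (i j : ℤ) (x : K.X i) : K.iCycles j (K.toCycles i j x) = K.d i j x := by
  have := ConcreteCategory.congr_hom (K.toCycles_i i j) x
  rw [ConcreteCategory.comp_apply] at this
  exact this

lemma homologyπ_toCycles_apply (i j : ℤ) (x : K.X i) : K.homologyπ j (K.toCycles i j x) = 0 := by
  have := ConcreteCategory.congr_hom (K.toCycles_comp_homologyπ i j) x
  rw [ConcreteCategory.comp_apply] at this
  exact this

variable {K L}

lemma cyclesMap_i_apply (φ : K ⟶ L) (i : ℤ) (c : K.cycles i) :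
    L.iCycles i (HomologicalComplex.cyclesMap φ i c) = φ.f i (K.iCycles i c) := by
  have := ConcreteCategory.congr_hom (HomologicalComplex.cyclesMap_i φ i) c
  rw [ConcreteCategory.comp_apply, ConcreteCategory.comp_apply] at this
  exact this

lemma homologyπ_naturality_apply (φ : K ⟶ L) (i : ℤ) (c : K.cycles i) :
    HomologicalComplex.homologyMap φ i (K.homologyπ i c) =
      L.homologyπ i (HomologicalComplex.cyclesMap φ i c) := by
  have := ConcreteCategory.congr_hom (HomologicalComplex.homologyπ_naturality φ i) c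
  rw [ConcreteCategory.comp_apply, ConcreteCategory.comp_apply] at this
  exact this

lemma comm_apply (φ : K ⟶ L) (i j : ℤ) (x : K.X i) :
    φ.f j (K.d i j x) = L.d i j (φ.f i x) := by
  have := ConcreteCategory.congr_hom (φ.comm i j) x
  rw [ConcreteCategory.comp_apply, ConcreteCategory.comp_apply] at this
  exact this.symm

variable (K)

/-- `z` is a cycle with class `h` -/
def IsClass {j : ℤ} (z : K.X j) (h : K.homology j) : Prop :=
  ∃ c : K.cycles j, K.iCycles j c = z ∧ K.homologyπ j c = h

variable {K}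

lemma IsClass.exists_rep {j : ℤ} (h : K.homology j) : ∃ z : K.X j, IsClass K z h := by
  obtain ⟨c, hc⟩ := homologyπ_surjective K j h
  exact ⟨_, c, rfl, hc⟩

lemma IsClass.d_eq_zero {j : ℤ} {z : K.X j} {h : K.homology j} (hz : IsClass K z h) (k : ℤ) :
    K.d j k z = 0 := by
  obtain ⟨c, rfl, -⟩ := hz
  exact iCycles_d_apply K j k c

lemma IsClass.exists_class {j k : ℤ} (hjk : j + 1 = k) (z : K.X j) (hz : K.d j k z = 0) :
    ∃ h : K.homology j, IsClass K z h := by
  obtain ⟨c, hc⟩ := exists_cycle K j k hjk z hz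
  exact ⟨_, c, hc, rfl⟩

lemma IsClass.sub {j : ℤ} {z z' : K.X j} {h h' : K.homology j} (hz : IsClass K z h)
    (hz' : IsClass K z' h') : IsClass K (z - z') (h - h') := by
  obtain ⟨c, rfl, rfl⟩ := hz
  obtain ⟨c', rfl, rfl⟩ := hz'
  exact ⟨c - c', by rw [map_sub], by rw [map_sub]⟩

lemma IsClass.add {j : ℤ} {z z' : K.X j} {h h' : K.homology j} (hz : IsClass K z h)
    (hz' : IsClass K z' h') : IsClass K (z + z') (h + h') := by
  obtain ⟨c, rfl, rfl⟩ := hz
  obtain ⟨c', rfl, rfl⟩ := hz'
  exact ⟨c + c', by rw [map_add], by rw [map_add]⟩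

lemma IsClass.unique {j : ℤ} {z : K.X j} {h h' : K.homology j} (hz : IsClass K z h)
    (hz' : IsClass K z h') : h = h' := by
  obtain ⟨c, rfl, rfl⟩ := hz
  obtain ⟨c', hc', rfl⟩ := hz'
  rw [iCycles_injective K j hc']

lemma isClass_d {i j : ℤ} (y : K.X i) : IsClass K (K.d i j y) 0 :=
  ⟨K.toCycles i j y, toCycles_i_apply K i j y, homologyπ_toCycles_apply K i j y⟩

lemma IsClass.exists_of_zero {i j : ℤ} (hij : i + 1 = j) {z : K.X j} (hz : IsClass K z 0) :
    ∃ y : K.X i, K.d i j y = z := by
  obtain ⟨c, rfl, hc⟩ := hz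
  obtain ⟨y, rfl⟩ := exists_of_homologyπ_eq_zero K i j hij c hc
  exact ⟨y, (toCycles_i_apply K i j y).symm⟩

lemma IsClass.map {j : ℤ} {z : K.X j} {h : K.homology j} (hz : IsClass K z h) (φ : K ⟶ L) :
    IsClass L (φ.f j z) (HomologicalComplex.homologyMap φ j h) := by
  obtain ⟨c, rfl, rfl⟩ := hz
  exact ⟨HomologicalComplex.cyclesMap φ j c, cyclesMap_i_apply φ j c,
    (homologyπ_naturality_apply φ j c).symm⟩

/-- elementwise injectivity criterion -/
lemma homologyMap_injective_iff (φ : K ⟶ L) (i j k : ℤ) (hij : i + 1 = j) (hjk : j + 1 = k) :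
    Function.Injective (HomologicalComplex.homologyMap φ j) ↔
      ∀ z : K.X j, K.d j k z = 0 → (∃ y : L.X i, L.d i j y = φ.f j z) →
        ∃ y : K.X i, K.d i j y = z := by
  constructor
  · intro hinj z hz ⟨y, hy⟩
    obtain ⟨h, hh⟩ := IsClass.exists_class hjk z hz
    have h1 := hh.map φ
    rw [← hy] at h1
    have h2 := h1.unique (isClass_d y)
    have h3 : h = 0 := hinj (by rw [h2, map_zero])
    rw [h3] at hh
    exact hh.exists_of_zero hij
  · intro H
    rw [injective_iff_map_eq_zero]
    intro h hh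
    obtain ⟨z, hz⟩ := IsClass.exists_rep h
    have h1 := hz.map φ
    rw [hh] at h1
    obtain ⟨y, hy⟩ := H z (hz.d_eq_zero k) (h1.exists_of_zero hij)
    exact hz.unique (hy ▸ isClass_d y)

/-- elementwise surjectivity criterion -/
lemma homologyMap_surjective_iff (φ : K ⟶ L) (i j k : ℤ) (hij : i + 1 = j) (hjk : j + 1 = k) :
    Function.Surjective (HomologicalComplex.homologyMap φ j) ↔
      ∀ w : L.X j, L.d j k w = 0 → ∃ z : K.X j, K.d j k z = 0 ∧
        ∃ y : L.X i, φ.f j z - w = L.d i j y := by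
  constructor
  · intro hsurj w hw
    obtain ⟨h', hh'⟩ := IsClass.exists_class hjk w hw
    obtain ⟨h, rfl⟩ := hsurj h'
    obtain ⟨z, hz⟩ := IsClass.exists_rep h
    refine ⟨z, hz.d_eq_zero k, ?_⟩
    have h1 := (hz.map φ).sub hh'
    rw [sub_self] at h1
    obtain ⟨y, hy⟩ := h1.exists_of_zero hij
    exact ⟨y, hy.symm⟩
  · intro H h'
    obtain ⟨w, hw⟩ := IsClass.exists_rep h'
    obtain ⟨z, hz, y, hy⟩ := H w (hw.d_eq_zero k)
    obtain ⟨h, hh⟩ := IsClass.exists_class hjk z hz
    refine ⟨h, ?_⟩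
    have h1 := (hh.map φ).sub hw
    rw [hy] at h1
    have h2 := h1.unique (isClass_d y)
    exact sub_eq_zero.1 h2

end Groth.Agent.Lib.Helper83.AbCx
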