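import Mathlib
import Groth.Agent.Lib.Helper83.SingleHom
import Groth.Agent.Lib.Helper83.AbCx
import Groth.Agent.Lib.Helper83.ExtAcyc

/-!
# Lifting morphisms `S[0] ⟶ Q K` in `D(A)` to chain maps (helper83)

If `j : K ⟶ J` is a quasi-isomorphism to a K-injective complex such that `Hom(S, j)` is still a
quasi-isomorphism, every morphism `S[0] ⟶ Q K` in the derived category is the image of a chain
map.  This applies to bounded below complexes `K` with `Ext(S, -)`-acyclic terms.
-/

set_option autoImplicit false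
universe w' w v u

namespace Groth.Agent.Lib.Helper83.SingleLift

open CategoryTheory CategoryTheory.Limits DerivedCategory HomologicalComplex CochainComplex Opposite
open Groth.Agent.Lib.Helper83.SingleHom Groth.Agent.Lib.Helper83

variable {A : Type u} [Category.{v} A] [Abelian A] [HasDerivedCategory.{w} A]

lemma exists_qm_eq_of_quasiIso_map (S : A) {K J : CochainComplex A ℤ} (j : K ⟶ J) [QuasiIso j]
    [J.IsKInjective]
    (hj : QuasiIso (((preadditiveCoyoneda.obj (op S)).mapHomologicalComplex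
      (ComplexShape.up ℤ)).map j))
    (φ : (DerivedCategory.singleFunctor A 0).obj S ⟶ Q.obj K) :
    ∃ f : sg S ⟶ K, qm f = φ := by
  obtain ⟨σ, hσ⟩ := exists_qm_eq (φ ≫ Q.map j)
  let Γ := (preadditiveCoyoneda.obj (op S)).mapHomologicalComplex (ComplexShape.up ℤ)
  have hsurj : Function.Surjective (HomologicalComplex.homologyMap (Γ.map j) 0) := by
    have h1 : QuasiIsoAt (Γ.map j) 0 := inferInstance
    rw [quasiIsoAt_iff_isIso_homologyMap] at h1
    exact ((ConcreteCategory.isIso_iff_bijective _).1 h1).2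
  rw [AbCx.homologyMap_surjective_iff (Γ.map j) (-1) 0 1 (by norm_num) (by norm_num)] at hsurj
  let w : S ⟶ J.X 0 := (singleObjXSelf (ComplexShape.up ℤ) 0 S).inv ≫ σ.f 0
  have hw : w ≫ J.d 0 1 = 0 := by
    dsimp only [w]
    rw [Category.assoc, σ.comm 0 1, HomologicalComplex.single_obj_d, zero_comp, comp_zero]
  obtain ⟨z, hz, y, hy⟩ := hsurj w hw
  change S ⟶ K.X 0 at z
  change z ≫ K.d 0 1 = 0 at hz
  change S ⟶ J.X (-1) at y
  change z ≫ j.f 0 - w = y ≫ J.d (-1) 0 at hy
  let f : sg S ⟶ K := mkHomFromSingle z (fun k hk => by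
    obtain rfl : k = 1 := by simp at hk; lia
    exact hz)
  refine ⟨f, ?_⟩
  have hQ : IsIso (Q.map j) := (isIso_Q_map_iff_quasiIso A _).2 inferInstance
  rw [← cancel_mono (Q.map j), ← hσ]
  have hx : y ≫ J.d (-1) 0 =
      (singleObjXSelf (ComplexShape.up ℤ) 0 S).inv ≫ (f ≫ j - σ).f 0 := by
    rw [← hy]
    dsimp only [w, f]
    rw [HomologicalComplex.sub_f_apply, HomologicalComplex.comp_f, mkHomFromSingle_f,
      Preadditive.comp_sub]
    simp
  obtain ⟨hh⟩ : Nonempty (Homotopy (f ≫ j - σ) 0) := nonempty_homotopy_zero (f ≫ j - σ) y hx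
  have h3 : Q.map (f ≫ j - σ) = 0 := by
    rw [Q_map_eq_of_homotopy A hh, Functor.map_zero]
  rw [Functor.map_sub, sub_eq_zero, Functor.map_comp] at h3
  exact h3

/-- morphisms in `D(A)` from `S[0]` to a bounded below complex with `Ext(S, -)`-acyclic terms come
from chain maps -/
lemma exists_qm_eq_of_EA [EnoughInjectives A] [CategoryTheory.HasExt.{w'} A] (S : A)
    (K : CochainComplex A ℤ) (a : ℤ) [K.IsStrictlyGE a]
    (hK : ∀ k, ExtAcyc.EA.{w'} S (K.X k))
    (φ : (DerivedCategory.singleFunctor A 0).obj S ⟶ Q.obj K) : ∃ f : sg S ⟶ K, qm f = φ := by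
  obtain ⟨J, j, hj, hJ, hJa⟩ :=
    CochainComplex.Plus.modelCategoryQuillen.exists_quasiIso_injective K a
  have : J.IsKInjective := CochainComplex.isKInjective_of_injective J a
  exact exists_qm_eq_of_quasiIso_map S j
    (ExtAcyc.quasiIso_map S j a hK (fun k => ExtAcyc.EA_of_injective S _)) φ

end Groth.Agent.Lib.Helper83.SingleLift
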