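import Mathlib
import Groth.Agent.Lib.Helper32.KInjDerived

/-!
# The total right derived functor of a right adjoint with exact left adjoint (helper83)

For `F₀ ⊣ G₀` with `F₀` exact between abelian categories with derived categories, and K-injective
resolutions in the source of `G₀`: `RG`, the adjunction `F₀.mapDerivedCategory ⊣ RG`, compatibility
of `RG` with shifts, and the induced bijections on maps out of single objects.
-/

set_option autoImplicit false
universe w₁ w₂ v₁ v₂ u₁ u₂

namespace Groth.Agent.Lib.Helper83.DerivedPush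

open CategoryTheory CategoryTheory.Limits DerivedCategory
open Groth.Agent.Lib.Helper32.KInjDerived

variable {A : Type u₁} {B : Type u₂} [Category.{v₁} A] [Category.{v₂} B] [Abelian A] [Abelian B]
  [HasDerivedCategory.{w₁} A] [HasDerivedCategory.{w₂} B]
  {F₀ : A ⥤ B} {G₀ : B ⥤ A} (adj : F₀ ⊣ G₀) [F₀.Additive] [G₀.Additive]
  [PreservesFiniteLimits F₀] [PreservesFiniteColimits F₀]

variable (G₀) in
/-- the functor to be derived -/
noncomputable abbrev T : HomotopyCategory B (ComplexShape.up ℤ) ⥤ DerivedCategory A :=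
  G₀.mapHomotopyCategory (ComplexShape.up ℤ) ⋙ DerivedCategory.Qh

variable (G₀) in
lemma hasRightDerivedFunctor (hB : HasKInjRes B) :
    (T G₀).HasRightDerivedFunctor (HomotopyCategory.quasiIso B (ComplexShape.up ℤ)) := by
  have := hasPointwiseLeftKanExtension (hasTerminalArrows_Qh hB) (T G₀)
  rw [Functor.hasRightDerivedFunctor_iff (T G₀) DerivedCategory.Qh
    (HomotopyCategory.quasiIso B (ComplexShape.up ℤ))]
  infer_instance

variable (G₀) in
/-- the total right derived functor of `G₀` -/
noncomputable def RG (hB : HasKInjRes B) : DerivedCategory B ⥤ DerivedCategory A :=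
  have := hasRightDerivedFunctor G₀ hB
  (T G₀).totalRightDerived DerivedCategory.Qh (HomotopyCategory.quasiIso B (ComplexShape.up ℤ))

variable (G₀) in
/-- the unit of the derived functor -/
noncomputable def βG (hB : HasKInjRes B) : T G₀ ⟶ DerivedCategory.Qh ⋙ RG G₀ hB :=
  have := hasRightDerivedFunctor G₀ hB
  (T G₀).totalRightDerivedUnit DerivedCategory.Qh (HomotopyCategory.quasiIso B (ComplexShape.up ℤ))

instance (hB : HasKInjRes B) : (RG G₀ hB).IsRightDerivedFunctor (βG G₀ hB)
    (HomotopyCategory.quasiIso B (ComplexShape.up ℤ)) := by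
  have := hasRightDerivedFunctor G₀ hB
  dsimp only [RG, βG]
  infer_instance

/-- the derived adjunction -/
noncomputable def adjD (hB : HasKInjRes B) : F₀.mapDerivedCategory ⊣ RG G₀ hB :=
  (exists_derivedAdjunctionh adj hB (RG G₀ hB) (βG G₀ hB)).choose

/-- `RG` commutes with shifts -/
noncomputable def shiftIso (hB : HasKInjRes B) (K : DerivedCategory B) (i : ℤ) :
    (RG G₀ hB).obj ((shiftFunctor (DerivedCategory B) i).obj K) ≅
      (shiftFunctor (DerivedCategory A) i).obj ((RG G₀ hB).obj K) :=
  letI := (adjD adj hB).rightAdjointCommShift ℤ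
  ((RG G₀ hB).commShiftIso i).app K

/-- maps `(F₀ S)[0] ⟶ K'` correspond to maps `S[0] ⟶ RG K'` -/
noncomputable def γ (hB : HasKInjRes B) (S : A) (K' : DerivedCategory B) :
    ((DerivedCategory.singleFunctor B 0).obj (F₀.obj S) ⟶ K') ≃
      ((DerivedCategory.singleFunctor A 0).obj S ⟶ (RG G₀ hB).obj K') :=
  (((F₀.mapDerivedCategorySingleFunctor 0).app S).symm.homFromEquiv).trans
    ((adjD adj hB).homEquiv _ _)

lemma γ_apply (hB : HasKInjRes B) (S : A) (K' : DerivedCategory B)
    (φ : (DerivedCategory.singleFunctor B 0).obj (F₀.obj S) ⟶ K') :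
    γ adj hB S K' φ = (adjD adj hB).homEquiv _ _
      ((F₀.mapDerivedCategorySingleFunctor 0).hom.app S ≫ φ) := rfl

lemma γ_naturality (hB : HasKInjRes B) {S' S : A} (j : S' ⟶ S) (K' : DerivedCategory B)
    (φ : (DerivedCategory.singleFunctor B 0).obj (F₀.obj S) ⟶ K') :
    γ adj hB S' K' ((DerivedCategory.singleFunctor B 0).map (F₀.map j) ≫ φ) =
      (DerivedCategory.singleFunctor A 0).map j ≫ γ adj hB S K' φ := by
  rw [γ_apply, γ_apply, ← Adjunction.homEquiv_naturality_left]
  congr 1
  have := (F₀.mapDerivedCategorySingleFunctor 0).hom.naturality j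
  dsimp only [Functor.comp_map] at this
  rw [← Category.assoc, ← this, Category.assoc]

end Groth.Agent.Lib.Helper83.DerivedPush
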