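import Mathlib
import Groth.Agent.Lib.Helper30.CechFree
import Groth.Agent.Lib.Helper30.AcyclicRes
import Groth.Agent.Lib.Helper30.HomCx
import Groth.Prelude.Def_CohCx

/-!
# Free sheaves of modules on the Čech nerve of an epimorphism of sheaves of sets

Module analogue of helper30's `CechFree.main` (S6161): for a sheaf of rings `R` on a small site and
an epimorphism `f : K' ⟶ K` of sheaves of sets, the free sheaves of `R`-modules on the Čech nerve
of `f` form a resolution of the free sheaf of modules on `K` (`ModCech.main`).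

Consequence (`ModCech.isZero_homology_cechNerveCx_of_injective`): if `I` is an injective sheaf of
`R`-modules, the Čech complex `CohCx.cechNerveCx (toSheaf I) f` of the underlying abelian sheaf has
vanishing cohomology in positive degrees.
-/

set_option autoImplicit false
universe u
open CategoryTheory Limits Opposite Simplicial AlgebraicTopology
open Groth.Agent.Lib.Helper30

namespace Groth.Agent.Lib.Helper83.ModCech

section types

/-- For any functor `G` from types to an abelian category, `G` applied to the Čech nerve of a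
surjection gives a resolution. -/
lemma quasiIso_eps_type {𝒜 : Type*} [Category 𝒜] [Abelian 𝒜] (G : Type u ⥤ 𝒜)
    {X Y : Type u} (p : X ⟶ Y) [Epi p] :
    QuasiIso (AlternatingFaceMapComplex.ε.app
      (((SimplicialObject.Augmented.whiskering _ _).obj G).obj
        (Arrow.mk p).augmentedCechNerve)) := by
  have hs : IsSplitEpi p := isSplitEpi_of_epi p
  obtain ⟨S⟩ := hs.exists_splitEpi
  let ed := (Arrow.AugmentedCechNerve.extraDegeneracy (Arrow.mk p) S).map G
  exact ed.homotopyEquiv.quasiIso_hom

end types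

section presheaves

variable {C : Type u} [SmallCategory C] (R₀ : Cᵒᵖ ⥤ RingCat.{u})

/-- sectionwise description of the free presheaf of modules. -/
noncomputable def evalFreeIso (U : Cᵒᵖ) :
    (PresheafOfModules.free R₀ ⋙ PresheafOfModules.toPresheaf R₀) ⋙
        (evaluation Cᵒᵖ AddCommGrpCat.{u}).obj U ≅
      (evaluation Cᵒᵖ (Type u)).obj U ⋙ ModuleCat.free (R₀.obj U) ⋙
        forget₂ (ModuleCat (R₀.obj U)) AddCommGrpCat.{u} :=
  NatIso.ofComponents (fun F => Iso.refl _) (by
    intro F G φ
    refine (Category.comp_id _).trans (Eq.trans ?_ (Category.id_comp _).symm)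
    rfl)

variable {P' I : Cᵒᵖ ⥤ Type u} (π : P' ⟶ I) [Epi π]

/-- the augmented simplicial abelian group of sections over `U`. -/
noncomputable def evalIso (U : Cᵒᵖ) :
    ((SimplicialObject.Augmented.whiskering _ _).obj ((evaluation Cᵒᵖ AddCommGrpCat.{u}).obj U)).obj
      (((SimplicialObject.Augmented.whiskering _ _).obj
        (PresheafOfModules.free R₀ ⋙ PresheafOfModules.toPresheaf R₀)).obj
          (Arrow.mk π).augmentedCechNerve) ≅
    ((SimplicialObject.Augmented.whiskering _ _).obj
        (ModuleCat.free (R₀.obj U) ⋙ forget₂ (ModuleCat (R₀.obj U)) AddCommGrpCat.{u})).obj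
        (Arrow.mk (π.app U)).augmentedCechNerve :=
  (EpsMap.whiskerCompIso (PresheafOfModules.free R₀ ⋙ PresheafOfModules.toPresheaf R₀)
      ((evaluation Cᵒᵖ AddCommGrpCat.{u}).obj U) _).symm ≪≫
    ((SimplicialObject.Augmented.whiskering _ _).mapIso (evalFreeIso R₀ U)).app _ ≪≫
    (EpsMap.whiskerCompIso ((evaluation Cᵒᵖ (Type u)).obj U)
      (ModuleCat.free (R₀.obj U) ⋙ forget₂ (ModuleCat (R₀.obj U)) AddCommGrpCat.{u}) _) ≪≫
    ((SimplicialObject.Augmented.whiskering _ _).obj
      (ModuleCat.free (R₀.obj U) ⋙ forget₂ (ModuleCat (R₀.obj U)) AddCommGrpCat.{u})).mapIso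
      (CechMap.augCechIso ((evaluation Cᵒᵖ (Type u)).obj U) (Arrow.mk π))

/-- Free presheaves of modules on the Čech nerve of an epimorphism of presheaves of sets
form a resolution. -/
lemma quasiIso_eps_free_presheaf :
    QuasiIso (AlternatingFaceMapComplex.ε.app
      (((SimplicialObject.Augmented.whiskering _ _).obj (PresheafOfModules.free R₀)).obj
        (Arrow.mk π).augmentedCechNerve)) := by
  rw [← HomologicalComplex.quasiIso_map_iff_of_preservesHomology _ (PresheafOfModules.toPresheaf R₀)]
  rw [← EpsMap.quasiIso_eps_whisker_iff]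
  rw [← EpsMap.quasiIso_eps_iff_of_iso
    (EpsMap.whiskerCompIso (PresheafOfModules.free R₀) (PresheafOfModules.toPresheaf R₀) _)]
  rw [HomologicalComplex.quasiIso_iff_evaluation]
  intro U
  rw [← EpsMap.quasiIso_eps_whisker_iff]
  rw [EpsMap.quasiIso_eps_iff_of_iso (evalIso R₀ π U)]
  have : Epi (π.app U) := inferInstance
  exact quasiIso_eps_type _ (π.app U)

end presheaves

variable {C : Type u} [SmallCategory C] {J : GrothendieckTopology C} (R : Sheaf J RingCat.{u})

/-- sheafification of presheaves of modules over the underlying presheaf of rings of `R`. -/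
noncomputable abbrev aM : PresheafOfModules.{u} R.obj ⥤ SheafOfModules.{u} R :=
  PresheafOfModules.sheafification (𝟙 R.obj)

instance : (aM R).Additive := by
  have : (SheafOfModules.forget.{u} R ⋙ PresheafOfModules.restrictScalars (𝟙 R.obj)).Additive :=
    inferInstance
  exact (PresheafOfModules.sheafificationAdjunction (𝟙 R.obj)).left_adjoint_additive

/-- the free sheaf of modules on a presheaf of sets. -/
noncomputable abbrev L : (Cᵒᵖ ⥤ Type u) ⥤ SheafOfModules.{u} R :=
  PresheafOfModules.free R.obj ⋙ aM R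

/-- underlying presheaf of sets of an abelian sheaf -/
noncomputable abbrev RtZ : Sheaf J AddCommGrpCat.{u} ⥤ (Cᵒᵖ ⥤ Type u) :=
  sheafToPresheaf J AddCommGrpCat.{u} ⋙
    (Functor.whiskeringRight _ _ _).obj (forget AddCommGrpCat.{u})

/-- underlying presheaf of sets of a sheaf of modules -/
noncomputable abbrev Rt : SheafOfModules.{u} R ⥤ (Cᵒᵖ ⥤ Type u) :=
  SheafOfModules.toSheaf R ⋙ RtZ

/-- auxiliary identification of right adjoints. -/
noncomputable def rtIso :
    (SheafOfModules.forget R ⋙ PresheafOfModules.restrictScalars (𝟙 R.obj)) ⋙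
      PresheafOfModules.toPresheaf R.obj ⋙
        (Functor.whiskeringRight _ _ _).obj (forget AddCommGrpCat.{u}) ≅ Rt R :=
  NatIso.ofComponents (fun M => Iso.refl _) (by
    intro M N φ
    refine (Category.comp_id _).trans (Eq.trans ?_ (Category.id_comp _).symm)
    rfl)

/-- free sheaf of modules ⊣ underlying presheaf of sets. -/
noncomputable def adjL : L R ⊣ Rt R :=
  ((PresheafOfModules.freeAdjunction R.obj).comp
    (PresheafOfModules.sheafificationAdjunction (𝟙 R.obj))).ofNatIsoRight (rtIso R)

lemma isSheaf_Rt (M : SheafOfModules.{u} R) : Presheaf.IsSheaf J ((Rt R).obj M) :=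
  ((sheafCompose J (forget AddCommGrpCat.{u})).obj ((SheafOfModules.toSheaf R).obj M)).property

/-- The free sheaf of modules functor inverts morphisms of presheaves of sets which become
isomorphisms after sheafification. -/
lemma isIso_L_map_of_W {P Q : Cᵒᵖ ⥤ Type u} (ι : P ⟶ Q) (hι : J.W ι) :
    IsIso ((L R).map ι) := by
  rw [isIso_iff_coyoneda_map_bijective]
  intro M
  have h := hι ((Rt R).obj M) (isSheaf_Rt R M)
  have key : ∀ x : (L R).obj Q ⟶ M, (adjL R).homEquiv P M ((L R).map ι ≫ x) =
      ι ≫ (adjL R).homEquiv Q M x := fun x => (adjL R).homEquiv_naturality_left ι x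
  constructor
  · intro x y hxy
    apply ((adjL R).homEquiv Q M).injective
    apply h.1
    show ι ≫ _ = ι ≫ _
    rw [← key, ← key]
    exact congrArg _ hxy
  · intro y
    obtain ⟨z, hz⟩ := h.2 ((adjL R).homEquiv P M y)
    refine ⟨((adjL R).homEquiv Q M).symm z, ?_⟩
    apply ((adjL R).homEquiv P M).injective
    show (adjL R).homEquiv P M ((L R).map ι ≫ _) = _
    rw [key, Equiv.apply_symm_apply]
    exact hz

section sheaves

variable {K' K : Sheaf J (Type u)} (f : K' ⟶ K)

lemma quasiIso_eps_step1 :
    QuasiIso (AlternatingFaceMapComplex.ε.app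
      (((SimplicialObject.Augmented.whiskering _ _).obj (L R)).obj
        (Arrow.mk (Subfunctor.toRange f.hom)).augmentedCechNerve)) := by
  rw [EpsMap.quasiIso_eps_iff_of_iso
    (EpsMap.whiskerCompIso (PresheafOfModules.free R.obj) (aM R) _)]
  have := quasiIso_eps_free_presheaf R.obj (Subfunctor.toRange f.hom)
  exact EpsMap.quasiIso_eps_whisker (aM R) _

/-- the comparison map from the Čech nerve of `K' → im f` to that of `f.hom`, whiskered. -/
noncomputable def stepMap :
    ((SimplicialObject.Augmented.whiskering _ _).obj (L R)).obj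
        (Arrow.mk (Subfunctor.toRange f.hom)).augmentedCechNerve ⟶
    ((SimplicialObject.Augmented.whiskering _ _).obj (L R)).obj
        (Arrow.mk ((sheafToPresheaf J (Type u)).map f)).augmentedCechNerve :=
  ((SimplicialObject.Augmented.whiskering _ _).obj (L R)).map
    (CechMono.augMap (Subfunctor.toRange f.hom) (Subfunctor.range f.hom).ι)

instance : IsIso (stepMap R f).left := by
  have : IsIso (CechMono.augMap (Subfunctor.toRange f.hom) (Subfunctor.range f.hom).ι).left :=
    inferInstance
  exact inferInstanceAs (IsIso (((Functor.whiskeringRight _ _ _).obj (L R)).map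
      (CechMono.augMap (Subfunctor.toRange f.hom) (Subfunctor.range f.hom).ι).left))

variable [Epi f]

instance : IsIso (stepMap R f).right :=
  isIso_L_map_of_W R _ (CechFree.W_range_ι J f)

/-- The free sheaves of modules on the Čech nerve of an epimorphism of sheaves of sets
form a resolution of the free sheaf of modules on the target. -/
theorem main : QuasiIso (AlternatingFaceMapComplex.ε.app
    (((SimplicialObject.Augmented.whiskering _ _).obj
      (sheafToPresheaf J (Type u) ⋙ L R)).obj (Arrow.mk f).augmentedCechNerve)) := by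
  rw [EpsMap.quasiIso_eps_iff_of_iso (EpsMap.whiskerCompIso (sheafToPresheaf J (Type u)) (L R) _)]
  rw [EpsMap.quasiIso_eps_iff_of_iso (((SimplicialObject.Augmented.whiskering _ _).obj (L R)).mapIso
      (CechMap.augCechIso (sheafToPresheaf J (Type u)) (Arrow.mk f)))]
  exact (EpsMap.quasiIso_eps_iff_of_isIso (stepMap R f)).mp (quasiIso_eps_step1 R f)

end sheaves

/-! ## Comparison of Hom complexes -/

noncomputable abbrev LZ (J : GrothendieckTopology C) : (Cᵒᵖ ⥤ Type u) ⥤ Sheaf J AddCommGrpCat.{u} :=
  (Functor.whiskeringRight _ _ _).obj AddCommGrpCat.free.{u} ⋙ presheafToSheaf J AddCommGrpCat.{u}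

noncomputable def adjZ (J : GrothendieckTopology C) : LZ J ⊣ RtZ (J := J) :=
  (AddCommGrpCat.adj.whiskerRight Cᵒᵖ).comp (sheafificationAdjunction J AddCommGrpCat.{u})

noncomputable def c : LZ J ⟶ L R ⋙ SheafOfModules.toSheaf R where
  app N := ((adjZ J).homEquiv N _).symm ((adjL R).unit.app N)
  naturality N' N h := by
    apply ((adjZ J).homEquiv N' _).injective
    rw [(adjZ J).homEquiv_naturality_left, (adjZ J).homEquiv_naturality_right,
      Equiv.apply_symm_apply, Equiv.apply_symm_apply]
    exact ((adjL R).unit.naturality h)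

lemma homEquiv_c_comp {N : Cᵒᵖ ⥤ Type u} {I : SheafOfModules.{u} R} (g : (L R).obj N ⟶ I) :
    (adjZ J).homEquiv N _ ((c R).app N ≫ (SheafOfModules.toSheaf R).map g) =
      (adjL R).homEquiv N I g := by
  rw [(adjZ J).homEquiv_naturality_right]
  dsimp only [c]
  rw [Equiv.apply_symm_apply, (adjL R).homEquiv_unit]
  rfl

noncomputable def phi (N : Cᵒᵖ ⥤ Type u) (I : SheafOfModules.{u} R) :
    ((L R).obj N ⟶ I) ≃ ((LZ J).obj N ⟶ (SheafOfModules.toSheaf R).obj I) :=
  ((adjL R).homEquiv N I).trans ((adjZ J).homEquiv N _).symm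

lemma phi_apply {N : Cᵒᵖ ⥤ Type u} {I : SheafOfModules.{u} R} (g : (L R).obj N ⟶ I) :
    phi R N I g = (c R).app N ≫ (SheafOfModules.toSheaf R).map g := by
  apply ((adjZ J).homEquiv N _).injective
  rw [homEquiv_c_comp]
  simp [phi]

section cech

variable {K' K : Sheaf J (Type u)} (f : K' ⟶ K)

noncomputable abbrev XO : SimplicialObject (SheafOfModules.{u} R) :=
  (Arrow.mk f).cechNerve ⋙ (sheafToPresheaf J (Type u) ⋙ L R)

noncomputable abbrev XZ : SimplicialObject (Sheaf J AddCommGrpCat.{u}) :=
  (Arrow.mk f).cechNerve ⋙ (sheafToPresheaf J (Type u) ⋙ LZ J)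

noncomputable def cc : AlternatingFaceMapComplex.obj (XZ f) ⟶
    ((SheafOfModules.toSheaf R).mapHomologicalComplex _).obj (AlternatingFaceMapComplex.obj (XO R f)) :=
  (alternatingFaceMapComplex _).map
    (show XZ f ⟶ ((SimplicialObject.whiskering _ _).obj (SheafOfModules.toSheaf R)).obj (XO R f) from
      Functor.whiskerLeft ((Arrow.mk f).cechNerve ⋙ sheafToPresheaf J (Type u)) (c R)) ≫
    (EpsMap.altIso (SheafOfModules.toSheaf R) (XO R f)).hom

lemma cc_f (n : ℕ) : (cc R f).f n =
    (c R).app ((sheafToPresheaf J (Type u)).obj ((Arrow.mk f).cechNerve.obj (op ⦋n⦌))) := by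
  dsimp only [cc]
  rw [HomologicalComplex.comp_f, EpsMap.altIso_hom_f]
  exact Category.comp_id _

lemma d_comp_c (n : ℕ) :
    (AlternatingFaceMapComplex.obj (XZ f)).d (n + 1) n ≫
      (c R).app ((sheafToPresheaf J (Type u)).obj ((Arrow.mk f).cechNerve.obj (op ⦋n⦌))) =
    (c R).app ((sheafToPresheaf J (Type u)).obj ((Arrow.mk f).cechNerve.obj (op ⦋n + 1⦌))) ≫
      (SheafOfModules.toSheaf R).map ((AlternatingFaceMapComplex.obj (XO R f)).d (n + 1) n) := by
  have h := (cc R f).comm (n + 1) n
  rw [cc_f, cc_f] at h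
  exact h.symm

/-- exactness in positive degrees of a resolution. -/
lemma exact_succ_of_quasiIso {𝒜 : Type*} [Category 𝒜] [Abelian 𝒜] {P : ChainComplex 𝒜 ℕ} {M : 𝒜}
    (ε : P ⟶ (ChainComplex.single₀ 𝒜).obj M) [QuasiIso ε] (n : ℕ) :
    (ShortComplex.mk _ _ (P.d_comp_d (n + 2) (n + 1) n)).Exact := by
  have h : P.ExactAt (n + 1) := by
    rw [← quasiIsoAt_iff_exactAt' ε (n + 1) (ChainComplex.exactAt_succ_single_obj _ _)]
    infer_instance
  exact ((HomologicalComplex.exactAt_iff' _ (n + 2) (n + 1) n) (by simp only [ChainComplex.prev]; rfl)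
    (by simp)).1 h

variable [Epi f]

/-- **Key lemma.** For an injective sheaf of modules `I`, the Čech complex of the underlying abelian
sheaf with respect to any epimorphism of sheaves of sets is exact in positive degrees. -/
theorem isZero_homology_cechNerveCx_of_injective (I : SheafOfModules.{u} R) [Injective I] (q : ℕ) :
    IsZero ((CohCx.cechNerveCx ((SheafOfModules.toSheaf R).obj I) f).homology (q + 1)) := by
  rw [← HomologicalComplex.exactAt_iff_isZero_homology]
  rw [HomologicalComplex.exactAt_iff' _ q (q + 1) (q + 2) (by simp) (by simp)]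
  rw [ShortComplex.ab_exact_iff]
  intro x hx
  let F := (SheafOfModules.toSheaf R).obj I
  let PZ := AlternatingFaceMapComplex.obj (XZ f)
  let PO := AlternatingFaceMapComplex.obj (XO R f)
  let N := fun n : ℕ => (sheafToPresheaf J (Type u)).obj ((Arrow.mk f).cechNerve.obj (op ⦋n⦌))
  let x' : PZ.X (q + 1) ⟶ F := x
  have hx' : PZ.d (q + 2) (q + 1) ≫ x' = 0 := (HomCx.d_apply (XZ f) F (q + 1) x').symm.trans hx
  let y : PO.X (q + 1) ⟶ I := (phi R (N (q + 1)) I).symm x'
  have hy : (c R).app (N (q + 1)) ≫ (SheafOfModules.toSheaf R).map y = x' := by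
    rw [← phi_apply]; exact Equiv.apply_symm_apply _ _
  have hdy : PO.d (q + 2) (q + 1) ≫ y = 0 := by
    apply (phi R (N (q + 2)) I).injective
    rw [phi_apply, phi_apply, Functor.map_comp, ← Category.assoc]
    rw [← d_comp_c R f (q + 1), Category.assoc, hy, hx', Functor.map_zero, comp_zero]
  let W := ((SimplicialObject.Augmented.whiskering _ _).obj
      (sheafToPresheaf J (Type u) ⋙ L R)).obj (Arrow.mk f).augmentedCechNerve
  let ε : PO ⟶ (ChainComplex.single₀ _).obj ((L R).obj K.obj) :=
    AlternatingFaceMapComplex.ε.app W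
  have hε : QuasiIso ε := main R f
  have hex := exact_succ_of_quasiIso ε q
  let χ : PO.X q ⟶ I := hex.descToInjective y hdy
  have hχ : PO.d (q + 1) q ≫ χ = y := hex.comp_descToInjective y hdy
  refine ⟨(c R).app (N q) ≫ (SheafOfModules.toSheaf R).map χ, ?_⟩
  refine (HomCx.d_apply (XZ f) F q _).trans ?_
  rw [← Category.assoc, d_comp_c R f q, Category.assoc, ← Functor.map_comp, hχ]
  exact hy

end cech

/-! ## Sections as morphisms out of free modules; monomorphisms -/

/-- the free presheaf of modules functor preserves monomorphisms. -/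
lemma mono_free_map (R₀ : Cᵒᵖ ⥤ RingCat.{u}) {P Q : Cᵒᵖ ⥤ Type u} (φ : P ⟶ Q) [Mono φ] :
    Mono ((PresheafOfModules.free R₀).map φ) := by
  apply PresheafOfModules.mono_of_injective
  intro X
  have h : Function.Injective (φ.app X) := (mono_iff_injective (φ.app X)).1 inferInstance
  show Function.Injective ((ModuleCat.free (R₀.obj X)).map (φ.app X))
  exact Finsupp.mapDomain_injective h

instance mono_L_map {P Q : Cᵒᵖ ⥤ Type u} (φ : P ⟶ Q) [Mono φ] : Mono ((L R).map φ) := by
  have := mono_free_map R.obj φ
  exact inferInstanceAs (Mono ((aM R).map ((PresheafOfModules.free R.obj).map φ)))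

/-- sections over `U` of a sheaf of modules as morphisms out of the free module on `h_U`. -/
noncomputable def secEquiv (I : SheafOfModules.{u} R) (U : C) :
    ((L R).obj (yoneda.obj U) ⟶ I) ≃ I.val.obj (op U) :=
  ((adjL R).homEquiv _ _).trans (yonedaEquiv (F := (Rt R).obj I))

lemma secEquiv_naturality (I : SheafOfModules.{u} R) {U U' : C} (a : U' ⟶ U)
    (g : (L R).obj (yoneda.obj U) ⟶ I) :
    secEquiv R I U' ((L R).map (yoneda.map a) ≫ g) = I.val.map a.op (secEquiv R I U g) := by
  show yonedaEquiv (F := (Rt R).obj I) ((adjL R).homEquiv _ _ ((L R).map (yoneda.map a) ≫ g)) = _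
  rw [(adjL R).homEquiv_naturality_left]
  exact (yonedaEquiv_naturality (F := (Rt R).obj I) _ a).symm

/-! ## Sheaf-level adjunction and exactness statement (appended) -/

/-- sheaf-level version of `adjL`: free sheaf of modules on a sheaf of sets ⊣ underlying sheaf of
sets. -/
noncomputable def adjLs : (sheafToPresheaf J (Type u) ⋙ L R) ⊣
    (SheafOfModules.toSheaf R ⋙ sheafCompose J (forget AddCommGrpCat.{u})) :=
  (adjL R).restrictFullyFaithful (fullyFaithfulSheafToPresheaf J (Type u))
    (Functor.FullyFaithful.id _) (Iso.refl _) (Iso.refl _)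

/-- exactness in positive degrees of the free-module Čech complex of an epimorphism. -/
lemma exact_XO {K' K : Sheaf J (Type u)} (f : K' ⟶ K) [Epi f] (n : ℕ) :
    (ShortComplex.mk _ _ ((AlternatingFaceMapComplex.obj
      ((Arrow.mk f).cechNerve ⋙ (sheafToPresheaf J (Type u) ⋙ L R))).d_comp_d
        (n + 2) (n + 1) n)).Exact := by
  let W := ((SimplicialObject.Augmented.whiskering _ _).obj
      (sheafToPresheaf J (Type u) ⋙ L R)).obj (Arrow.mk f).augmentedCechNerve
  let ε : AlternatingFaceMapComplex.obj
      ((Arrow.mk f).cechNerve ⋙ (sheafToPresheaf J (Type u) ⋙ L R)) ⟶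
      (ChainComplex.single₀ _).obj ((L R).obj K.obj) :=
    AlternatingFaceMapComplex.ε.app W
  have hε : QuasiIso ε := main R f
  exact exact_succ_of_quasiIso ε n

end Groth.Agent.Lib.Helper83.ModCech
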