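import Mathlib
import Groth.Agent.Lib.Helper83.ModCech
import Groth.Prelude.Def_ToposFin2

/-!
# Totally acyclic abelian sheaves are `Γ_Z`-acyclic

For a totally acyclic abelian sheaf `F` on a small site (cohomology with respect to every sheaf of
sets vanishes in positive degrees):

* `exists_extension_of_totallyAcyclic`: for every monomorphism `K ⟶ L` of sheaves of sets, every
  morphism `ℤ[K] ⟶ F` extends to `ℤ[L]` (restriction of sections is surjective; Mayer–Vietoris for
  the pushout `L ⊔_K L`);
* `subsingleton_ext_quotZ`: `Ext^{p+1}(ℤ/ℤ_K, F) = 0` for every sheaf of sets `K`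
  (`ToposFin.quotZ K`), i.e. `H^{p+1}_Z(F) = 0`.
-/

set_option autoImplicit false
universe u
open CategoryTheory Limits Opposite Abelian

namespace Groth.Agent.Lib.Helper83.FlasqueZ

open Groth.Agent.Lib.Helper83.ModCech

variable {C : Type u} [SmallCategory C] {J : GrothendieckTopology C}

lemma freeAbelianGroup_map_injective {α β : Type u} (f : α → β) (hf : Function.Injective f) :
    Function.Injective (FreeAbelianGroup.map f) := by
  rcases isEmpty_or_nonempty α with hα | hα
  · have : Subsingleton (FreeAbelianGroup α) := by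
      constructor
      have h0 : ∀ x : FreeAbelianGroup α, x = 0 := by
        intro x
        induction x using FreeAbelianGroup.induction_on with
        | zero => rfl
        | of x => exact (hα.false x).elim
        | neg x hx => rw [hx, neg_zero]
        | add x y hx hy => rw [hx, hy, add_zero]
      intro a b
      rw [h0 a, h0 b]
    exact Function.injective_of_subsingleton _
  · obtain ⟨g, hg⟩ := hf.hasLeftInverse
    apply Function.LeftInverse.injective (g := FreeAbelianGroup.map g)
    intro x
    rw [← FreeAbelianGroup.map_comp_apply]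
    have : g ∘ f = id := funext hg
    rw [this, FreeAbelianGroup.map_id_apply]

instance mono_whiskerRight_free {P Q : Cᵒᵖ ⥤ Type u} (φ : P ⟶ Q) [Mono φ] :
    Mono (Functor.whiskerRight φ AddCommGrpCat.free.{u}) := by
  have : ∀ X, Mono ((Functor.whiskerRight φ AddCommGrpCat.free.{u}).app X) := by
    intro X
    rw [AddCommGrpCat.mono_iff_injective]
    exact freeAbelianGroup_map_injective _ ((mono_iff_injective (φ.app X)).1 inferInstance)
  exact NatTrans.mono_of_mono_app _

instance mono_LZ_map {P Q : Cᵒᵖ ⥤ Type u} (φ : P ⟶ Q) [Mono φ] : Mono ((LZ J).map φ) := by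
  have := mono_whiskerRight_free φ
  exact inferInstanceAs (Mono ((presheafToSheaf J AddCommGrpCat.{u}).map
    (Functor.whiskerRight φ AddCommGrpCat.free.{u})))

/-- the free abelian sheaf functor on sheaves of sets is left adjoint to the underlying sheaf of
sets. -/
noncomputable def adjZs : ToposFin.freeAb J ⊣ sheafCompose J (forget AddCommGrpCat.{u}) :=
  (adjZ J).restrictFullyFaithful (fullyFaithfulSheafToPresheaf J (Type u))
    (Functor.FullyFaithful.id _) (Iso.refl _) (Iso.refl _)

instance : (ToposFin.freeAb J).IsLeftAdjoint := (adjZs (J := J)).isLeftAdjoint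

instance mono_freeAb_map {K L : Sheaf J (Type u)} (i : K ⟶ L) [Mono i] :
    Mono ((ToposFin.freeAb J).map i) := by
  have : Mono ((sheafToPresheaf J (Type u)).map i) := inferInstance
  exact mono_LZ_map ((sheafToPresheaf J (Type u)).map i)

instance epi_freeAb_map {K L : Sheaf J (Type u)} (i : K ⟶ L) [Epi i] :
    Epi ((ToposFin.freeAb J).map i) := inferInstance

/-- **Flasqueness.** Sections of a totally acyclic sheaf extend along monomorphisms of sheaves of
sets. -/
theorem exists_extension_of_totallyAcyclic (F : Sheaf J AddCommGrpCat.{u})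
    (hF : CohCx.IsTotallyAcyclic F) {K L : Sheaf J (Type u)} (i : K ⟶ L) [Mono i]
    (t : (ToposFin.freeAb J).obj K ⟶ F) :
    ∃ t' : (ToposFin.freeAb J).obj L ⟶ F, (ToposFin.freeAb J).map i ≫ t' = t := by
  have sq : IsPushout i i (pushout.inl i i) (pushout.inr i i) := IsPushout.of_hasPushout i i
  have h := sq.map (ToposFin.freeAb J)
  have hS : h.shortComplex.ShortExact :=
    { exact := h.exact_shortComplex
      mono_f := by
        have h1 : Mono (h.shortComplex.f ≫ biprod.fst) := by
          change Mono (biprod.lift ((ToposFin.freeAb J).map i) (-(ToposFin.freeAb J).map i) ≫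
            biprod.fst)
          rw [biprod.lift_fst]; infer_instance
        exact @mono_of_mono _ _ _ _ _ h.shortComplex.f biprod.fst h1
      epi_g := h.epi_shortComplex_g }
  have hsub : Subsingleton (Ext ((ToposFin.freeAb J).obj (pushout i i)) F 1) := hF (pushout i i) 0
  obtain ⟨x₂, hx₂⟩ := Ext.contravariant_sequence_exact₁ hS F (Ext.mk₀ t) (n₁ := 1) (by omega)
    (@Subsingleton.elim _ hsub _ _)
  obtain ⟨t₂, rfl⟩ := (Ext.mk₀_bijective _ _).2 x₂
  rw [Ext.mk₀_comp_mk₀] at hx₂
  have hx := (Ext.mk₀_bijective _ _).1 hx₂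
  have key : ∀ (t₂' : (ToposFin.freeAb J).obj L ⊞ (ToposFin.freeAb J).obj L ⟶ F),
      biprod.lift ((ToposFin.freeAb J).map i) (-(ToposFin.freeAb J).map i) ≫ t₂' = t →
      ∃ t' : (ToposFin.freeAb J).obj L ⟶ F, (ToposFin.freeAb J).map i ≫ t' = t := by
    intro t₂' ht
    refine ⟨biprod.inl ≫ t₂' - biprod.inr ≫ t₂', ?_⟩
    rw [← ht, biprod.lift_eq, sub_eq_add_neg, Preadditive.add_comp, Preadditive.comp_add,
      Preadditive.neg_comp, Preadditive.comp_neg, Category.assoc, Preadditive.neg_comp,
      Category.assoc]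
  exact key t₂ hx

/-- `Ext^{p+1}(ℤ/ℤ_K, F) = 0` for a totally acyclic abelian sheaf `F` and any sheaf of sets `K`:
cohomology with supports in the closed complement of the open generated by `K` vanishes in
positive degrees. -/
theorem subsingleton_ext_quotZ (F : Sheaf J AddCommGrpCat.{u}) (hF : CohCx.IsTotallyAcyclic F)
    (K : Sheaf J (Type u)) (p : ℕ) : Subsingleton (Ext (ToposFin.quotZ K) F (p + 1)) := by
  let g : K ⟶ ⊤_ (Sheaf J (Type u)) := terminal.from K
  let e := factorThruImage g
  let m := image.ι g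
  have hem : e ≫ m = g := image.fac g
  have hmm : Mono m := inferInstance
  have hee : Epi e := inferInstance
  let π : (ToposFin.freeAb J).obj (⊤_ _) ⟶ ToposFin.quotZ K := cokernel.π ((ToposFin.freeAb J).map g)
  have hz : (ToposFin.freeAb J).map m ≫ π = 0 := by
    rw [← cancel_epi ((ToposFin.freeAb J).map e), ← Category.assoc, ← Functor.map_comp, hem,
      comp_zero]
    exact cokernel.condition _
  let S : ShortComplex (Sheaf J AddCommGrpCat.{u}) := ShortComplex.mk ((ToposFin.freeAb J).map m) π hz
  let S₀ : ShortComplex (Sheaf J AddCommGrpCat.{u}) :=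
    ShortComplex.mk ((ToposFin.freeAb J).map g) π (cokernel.condition _)
  have hS₀ : S₀.Exact := ShortComplex.exact_of_g_is_cokernel _ (cokernelIsCokernel _)
  let φ : S₀ ⟶ S :=
    { τ₁ := (ToposFin.freeAb J).map e
      τ₂ := 𝟙 _
      τ₃ := 𝟙 _
      comm₁₂ := by
        change (ToposFin.freeAb J).map e ≫ (ToposFin.freeAb J).map m =
          (ToposFin.freeAb J).map g ≫ 𝟙 _
        rw [← Functor.map_comp, hem, Category.comp_id]
      comm₂₃ := by
        change 𝟙 _ ≫ π = π ≫ 𝟙 _
        rw [Category.id_comp, Category.comp_id] }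
  have h1 : Epi φ.τ₁ := epi_freeAb_map e
  have h2 : IsIso φ.τ₂ := inferInstanceAs (IsIso (𝟙 _))
  have h3 : Mono φ.τ₃ := inferInstanceAs (Mono (𝟙 _))
  have hSex : S.Exact := (ShortComplex.exact_iff_of_epi_of_isIso_of_mono φ).1 hS₀
  have hS : S.ShortExact :=
    { exact := hSex
      mono_f := mono_freeAb_map m
      epi_g := inferInstanceAs (Epi (cokernel.π ((ToposFin.freeAb J).map g))) }
  have h0 : ∀ x : Ext (ToposFin.quotZ K) F (p + 1), x = 0 := by
    intro x
    have hsub : Subsingleton (Ext ((ToposFin.freeAb J).obj (⊤_ (Sheaf J (Type u)))) F (p + 1)) :=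
      hF (⊤_ _) p
    have h1 : (Ext.mk₀ S.g).comp x (zero_add (p + 1)) = 0 := @Subsingleton.elim _ hsub _ _
    obtain ⟨x₁, hx₁⟩ := Ext.contravariant_sequence_exact₃ hS F x h1 (n₀ := p) (by omega)
    rw [← hx₁]
    cases p with
    | zero =>
      obtain ⟨t, rfl⟩ := (Ext.mk₀_bijective _ _).2 x₁
      obtain ⟨t', ht'⟩ := exists_extension_of_totallyAcyclic F hF m t
      have ht'' : t = S.f ≫ t' := ht'.symm
      rw [ht'', ← Ext.mk₀_comp_mk₀, ← Ext.comp_assoc_of_second_deg_zero, hS.extClass_comp,
        Ext.zero_comp]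
    | succ q =>
      have hsub' : Subsingleton (Ext ((ToposFin.freeAb J).obj (image g)) F (q + 1)) :=
        hF (image g) q
      have : x₁ = 0 := @Subsingleton.elim _ hsub' _ _
      rw [this, Ext.comp_zero]
  constructor
  intro a b
  rw [h0 a, h0 b]

end Groth.Agent.Lib.Helper83.FlasqueZ
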