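import Groth.Agent.Lib.Helper83.ModCech
import Groth.Agent.S12106

/-!
# Injective sheaves of modules are totally acyclic abelian sheaves

`ModAcyclic.isTotallyAcyclic_toSheaf_of_injective`: for a sheaf of rings `R` on a small site and an
injective sheaf of `R`-modules `I`, the underlying abelian sheaf of `I` is totally acyclic
(`H^p(K, I) = 0` for every sheaf of sets `K` and every `p > 0`).
Proof: Čech criterion (helper5's S12106) + exactness of the free-module Čech complex (`ModCech`).
-/

set_option autoImplicit false
universe u
open CategoryTheory Limits

namespace Groth.Agent.Lib.Helper83.ModAcyclic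

variable {C : Type u} [SmallCategory C] {J : GrothendieckTopology C} (R : Sheaf J RingCat.{u})

/-- **Key acyclicity**: the abelian sheaf underlying an injective sheaf of modules is totally
acyclic. -/
theorem isTotallyAcyclic_toSheaf_of_injective (I : SheafOfModules.{u} R) [Injective I] :
    CohCx.IsTotallyAcyclic ((SheafOfModules.toSheaf R).obj I) :=
  Groth.Agent.S12106.result _ (fun _ _ f hf q => by
    have := hf
    exact ModCech.isZero_homology_cechNerveCx_of_injective R f I q)

end Groth.Agent.Lib.Helper83.ModAcyclic
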