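import Mathlib
import Groth.Prelude.Def_ExtSupp
import Groth.Agent.Lib.Helper30.SheafHomSections
import Groth.Agent.Lib.Helper30.ModEpi

/-!
# Modules null on an object and modules generated over it

For a ringed site `(C, J, O)` and an object `U`: a module `N'` is *null* on `U` if `N'|_U = 0`
(`ModSite.IsNullOn`); a module `A` is *generated over `U`* (`IsGen`) if every morphism from `A` to a
null module vanishes (e.g. `A = j_! P`).  The quotient `quotOn B = B / B_U` is characterised as the
cokernel of any morphism `A ⟶ B` from a generated module with null cokernel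
(`exists_iso_quotOn`).  Both classes are stable under `- ⊗ M`, whence
`quotOn G ⊗ M ≅ quotOn (G ⊗ M)`.
-/

set_option autoImplicit false
universe u
open CategoryTheory Limits Opposite

namespace Groth.Agent.Lib.Helper83.SuppNull

open Groth.Agent.Lib.Helper30.ExtZero Groth.Agent.Lib.Helper30.ModTensor
  Groth.Agent.Lib.Helper30.ModRestr Groth.Agent.Lib.Helper30.ModTensorAdj
  Groth.Agent.Lib.Helper30.ModEpi

variable {C : Type u} [SmallCategory C] {J : GrothendieckTopology C}
  (O : Sheaf J CommRingCat.{u}) (U : C)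

/-- `A` is generated over `U`: every morphism to a module null on `U` vanishes. -/
def IsGen (A : ModSite.Mod O) : Prop :=
  ∀ N' : ModSite.Mod O, ModSite.IsNullOn O U N' → ∀ g : A ⟶ N', g = 0

variable {O U}

lemma isGen_extZero (P : ModSite.Mod (O.over U)) : IsGen O U ((ModSite.extZero O U).obj P) := by
  intro N' hN' g
  apply ((ModSite.extZeroAdj O U).homEquiv _ _).injective
  exact hN'.eq_of_tgt _ _

lemma isGen_of_epi {A B : ModSite.Mod O} (f : A ⟶ B) [Epi f] (hA : IsGen O U A) : IsGen O U B := by
  intro N' hN' g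
  rw [← cancel_epi f, comp_zero]
  exact hA N' hN' _

lemma isGen_of_iso {A B : ModSite.Mod O} (e : A ≅ B) (hA : IsGen O U A) : IsGen O U B :=
  isGen_of_epi e.hom hA

lemma isNullOn_of_iso {A B : ModSite.Mod O} (e : A ≅ B) (hA : ModSite.IsNullOn O U A) :
    ModSite.IsNullOn O U B :=
  IsZero.of_iso hA ((ModSite.restr O U).mapIso e.symm)

/-- `B/B_U` is null on `U` (no hypothesis on the existence of `j_*`). -/
theorem isNullOn_quotOn (B : ModSite.Mod O) :
    ModSite.IsNullOn O U ((ModSite.quotOn O U).obj B) := by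
  let adj := ModSite.extZeroAdj O U
  have hsplit : adj.unit.app ((ModSite.restr O U).obj B) ≫
      (ModSite.restr O U).map (adj.counit.app B) = 𝟙 _ := adj.right_triangle_components B
  have : Epi ((ModSite.restr O U).map (adj.counit.app B)) := by
    have : IsSplitEpi ((ModSite.restr O U).map (adj.counit.app B)) := ⟨⟨⟨_, hsplit⟩⟩⟩
    infer_instance
  exact (isZero_cokernel_of_epi ((ModSite.restr O U).map (adj.counit.app B))).of_iso
    (PreservesCokernel.iso (ModSite.restr O U) (adj.counit.app B))

/-- **Characterisation of `B/B_U`**: the cokernel of a morphism `A ⟶ B` from a module generated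
over `U`, when null on `U`, is `B/B_U`. -/
theorem exists_iso_quotOn {A B Q' : ModSite.Mod O} (f : A ⟶ B) (π : B ⟶ Q') (w : f ≫ π = 0)
    (hc : IsColimit (CokernelCofork.ofπ π w)) (hA : IsGen O U A) (hQ : ModSite.IsNullOn O U Q') :
    ∃ e : Q' ≅ (ModSite.quotOn O U).obj B, π ≫ e.hom = (ModSite.quotOnπ O U).app B := by
  have h1 : f ≫ (ModSite.quotOnπ O U).app B = 0 :=
    hA _ (isNullOn_quotOn B) _
  have h2 : (ModSite.extZeroAdj O U).counit.app B ≫ π = 0 :=
    isGen_extZero _ _ hQ _
  let a : Q' ⟶ (ModSite.quotOn O U).obj B :=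
    hc.desc (CokernelCofork.ofπ ((ModSite.quotOnπ O U).app B) h1)
  have ha : π ≫ a = (ModSite.quotOnπ O U).app B :=
    hc.fac (CokernelCofork.ofπ ((ModSite.quotOnπ O U).app B) h1) WalkingParallelPair.one
  let b : (ModSite.quotOn O U).obj B ⟶ Q' := cokernel.desc _ π h2
  have hb : (ModSite.quotOnπ O U).app B ≫ b = π := cokernel.π_desc _ _ _
  have hπ : Epi π := by
    have : Epi (CokernelCofork.ofπ π w).π := epi_of_isColimit_cofork hc
    exact this
  have hπ' : Epi ((ModSite.quotOnπ O U).app B) :=
    inferInstanceAs (Epi (cokernel.π _))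
  refine ⟨⟨a, b, ?_, ?_⟩, ha⟩
  · rw [← cancel_epi π, ← Category.assoc, ha, hb, Category.comp_id]
  · rw [← cancel_epi ((ModSite.quotOnπ O U).app B), ← Category.assoc, hb, ha, Category.comp_id]

/-- the internal hom into a module null on `U` is null on `U`. -/
theorem isNullOn_sheafHom (M : ModSite.Mod O) [ModSite.HasSheafHom M] {N' : ModSite.Mod O}
    (hN' : ModSite.IsNullOn O U N') : ModSite.IsNullOn O U ((ModSite.sheafHom M).obj N') := by
  rw [ExtSupp.isNullOn_iff]
  intro V g x
  have hz : IsZero ((ModSite.restr O V).obj N') := ExtSupp.isNullOn_of_hom O g hN'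
  apply (sectSheafHomAddEquiv O M N' V).injective
  exact hz.eq_of_tgt _ _

/-- modules generated over `U` are stable under `- ⊗ M`. -/
theorem isGen_tensor {A : ModSite.Mod O} (hA : IsGen O U A) (M : ModSite.Mod O)
    [ModSite.HasSheafHom M] : IsGen O U (((ModSite.tensorBi O).flip.obj M).obj A) := by
  intro N' hN' g
  apply ((ModSite.sheafHomAdj M).homEquiv _ _).injective
  rw [hA _ (isNullOn_sheafHom M hN') ((ModSite.sheafHomAdj M).homEquiv _ _ g),
    Adjunction.homAddEquiv_zero]

open MonoidalCategory in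
/-- restriction to `C/U` commutes with the tensor product (objectwise). -/
noncomputable def restrTensorIso (A B : ModSite.Mod O) :
    (ModSite.restr O U).obj (((ModSite.tensorBi O).obj A).obj B) ≅
      ((ModSite.tensorBi (O.over U)).obj ((ModSite.restr O U).obj A)).obj
        ((ModSite.restr O U).obj B) :=
  (restrShfIso O U (valObj O A ⊗ valObj O B : PM O)).symm ≪≫
    (shf (O.over U)).mapIso (resPMTensorIso O U (valObj O A) (valObj O B))

/-- modules null on `U` are stable under `- ⊗ M`. -/
theorem isNullOn_tensor {N' : ModSite.Mod O} (hN' : ModSite.IsNullOn O U N') (M : ModSite.Mod O) :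
    ModSite.IsNullOn O U (((ModSite.tensorBi O).flip.obj M).obj N') := by
  refine IsZero.of_iso ?_ (restrTensorIso N' M)
  exact Functor.map_isZero ((ModSite.tensorBi (O.over U)).flip.obj ((ModSite.restr O U).obj M)) hN'

/-- `(B/B_U) ⊗ M ≅ (B ⊗ M)/(B ⊗ M)_U`, compatibly with the projections from `B ⊗ M`. -/
theorem exists_quotOn_tensor_iso (B M : ModSite.Mod O) [ModSite.HasSheafHom M] :
    ∃ e : ((ModSite.tensorBi O).flip.obj M).obj ((ModSite.quotOn O U).obj B) ≅
        (ModSite.quotOn O U).obj (((ModSite.tensorBi O).flip.obj M).obj B),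
      ((ModSite.tensorBi O).flip.obj M).map ((ModSite.quotOnπ O U).app B) ≫ e.hom =
        (ModSite.quotOnπ O U).app (((ModSite.tensorBi O).flip.obj M).obj B) := by
  let c : CokernelCofork ((ModSite.extZeroAdj O U).counit.app B) :=
    CokernelCofork.ofπ ((ModSite.quotOnπ O U).app B) (cokernel.condition _)
  have hc : IsColimit c := cokernelIsCokernel _
  have hc' := CokernelCofork.mapIsColimit c hc ((ModSite.tensorBi O).flip.obj M)
  have w : ((ModSite.tensorBi O).flip.obj M).map ((ModSite.extZeroAdj O U).counit.app B) ≫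
      ((ModSite.tensorBi O).flip.obj M).map ((ModSite.quotOnπ O U).app B) = 0 := by
    rw [← Functor.map_comp]
    have h0 : (ModSite.extZeroAdj O U).counit.app B ≫ (ModSite.quotOnπ O U).app B = 0 :=
      cokernel.condition _
    rw [h0, Functor.map_zero]
  exact exists_iso_quotOn (((ModSite.tensorBi O).flip.obj M).map
      ((ModSite.extZeroAdj O U).counit.app B))
    (((ModSite.tensorBi O).flip.obj M).map ((ModSite.quotOnπ O U).app B)) w hc'
    (isGen_tensor (isGen_extZero _) M) (isNullOn_tensor (isNullOn_quotOn B) M)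

/-- for an adjunction between preadditive categories, `Hom(X, G -) ≅ Hom(F X, -)` as functors to
abelian groups. -/
noncomputable def coyonedaAdjIso {𝒜 ℬ : Type*} [Category 𝒜] [Category ℬ] [Preadditive 𝒜]
    [Preadditive ℬ] {F : 𝒜 ⥤ ℬ} {G : ℬ ⥤ 𝒜} (adj : F ⊣ G) [F.Additive] (X : 𝒜) :
    G ⋙ preadditiveCoyoneda.obj (op X) ≅ preadditiveCoyoneda.obj (op (F.obj X)) :=
  NatIso.ofComponents (fun Y => (adj.homAddEquiv X Y).symm.toAddCommGrpIso) (by
    intro Y Y' f
    ext x
    exact adj.homEquiv_naturality_right_symm x f)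

end Groth.Agent.Lib.Helper83.SuppNull
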