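import Mathlib
import Groth.Agent.Lib.Helper83.SuppNull
import Groth.Agent.Lib.Helper30.ExtZeroProjS

/-!
# `M ↦ M/M_U` is exact and `Γ_Z` preserves injectives

* `locally_zero_or_over`: a section of `j_! P` is, locally, zero or defined over an object mapping
  to `U`.
* `isGen_of_mono_extZero`: subobjects of `j_! P` are generated over `U`.
* `quotOn_map_mono`: `M ↦ M/M_U` preserves monomorphisms.
* `quotSectAdj`: `M ↦ M/M_U` is left adjoint to `Γ_Z`; `injective_sectOn`: `Γ_Z` preserves injectives.
-/

set_option autoImplicit false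
universe u
open CategoryTheory Limits Opposite

namespace Groth.Agent.Lib.Helper83.QuotOnExact

open Groth.Agent.Lib.Helper30.ExtZero Groth.Agent.Lib.Helper30.ModTensor
  Groth.Agent.Lib.Helper30.ModRestr Groth.Agent.Lib.Helper30.ModTensorAdj
  Groth.Agent.Lib.Helper30.ModEpi Groth.Agent.Lib.Helper83.SuppNull

variable {C : Type u} [SmallCategory C] {J : GrothendieckTopology C}
  {O : Sheaf J CommRingCat.{u}} {U : C}

/-- the sieve of arrows `W ⟶ V` such that `W` maps to `U` or `x` restricts to zero on `W`. -/
def zeroOrOverSieve {A : ModSite.Mod O} {V : C} (x : A.val.obj (op V)) : Sieve V where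
  arrows W h := Nonempty (W ⟶ U) ∨ A.val.map h.op x = 0
  downward_closed := by
    rintro W W' h (⟨⟨φ⟩⟩ | hx) g
    · exact Or.inl ⟨g ≫ φ⟩
    · right
      rw [op_comp, PresheafOfModules.map_comp_apply, hx]
      exact map_zero (A.val.map g.op).hom

/-- a section of `j_! P` is locally zero or defined over an object mapping to `U`. -/
theorem locally_zero_or_over (P : ModSite.Mod (O.over U)) {V : C}
    (x : ((ModSite.extZero O U).obj P).val.obj (op V)) :
    zeroOrOverSieve (U := U) (A := (ModSite.extZero O U).obj P) x ∈ J V := by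
  have hθ := (isIso_shf_map_iff (theta P)).1 (isIso_shf_map_theta P)
  have hsurj := hθ.2
  have hmem := hsurj.imageSieve_mem (U := V) x
  refine J.superset_covering ?_ hmem
  intro W h hh
  obtain ⟨x', hx'⟩ := hh
  by_cases hne : Nonempty (W ⟶ U)
  · exact Or.inl hne
  · right
    have hemp : IsEmpty (W ⟶ U) := not_nonempty_iff.1 hne
    have hx0 : x' = 0 := by
      have hs : Subsingleton (Sec (R₀ := O.obj ⋙ forget₂ CommRingCat.{u} RingCat.{u}) (X := U)
          (valObj (O.over U) P) (op W)) :=
        inferInstanceAs (Subsingleton (DirectSum (W ⟶ U) _))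
      exact @Subsingleton.elim _ hs _ _
    rw [hx0] at hx'
    refine hx'.symm.trans ?_
    exact map_zero _

/-- a section of a sheaf of modules vanishing on a covering sieve vanishes. -/
lemma eq_zero_of_locally_zero (N' : ModSite.Mod O) {V : C} (y : N'.val.obj (op V))
    (T : Sieve V) (hT : T ∈ J V) (h : ∀ ⦃W : C⦄ (g : W ⟶ V), T g → N'.val.map g.op y = 0) :
    y = 0 := by
  have hsep := Presheaf.IsSheaf.isSeparated N'.isSheaf
  refine hsep V T hT y 0 ?_
  intro W g hg
  refine (h g hg).trans ?_
  exact (map_zero (N'.val.presheaf.map g.op).hom).symm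

/-- monomorphisms of sheaves of modules are injective on sections. -/
lemma injective_of_mono {A B : ModSite.Mod O} (ι : A ⟶ B) [Mono ι] (V : C) :
    Function.Injective (ι.val.app (op V)) := by
  have h : Mono ((SheafOfModules.evaluation (ModSite.ringSh O) (op V)).map ι) := inferInstance
  exact (ModuleCat.mono_iff_injective _).1 h

/-- subobjects of `j_! P` are generated over `U`. -/
theorem isGen_of_mono_extZero (P : ModSite.Mod (O.over U)) {S : ModSite.Mod O}
    (ι : S ⟶ (ModSite.extZero O U).obj P) [Mono ι] : IsGen O U S := by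
  intro N' hN' φ
  have key : ∀ (V : C) (s : S.val.obj (op V)), φ.val.app (op V) s = 0 := by
    intro V s
    refine eq_zero_of_locally_zero N' _ _ (locally_zero_or_over P (ι.val.app (op V) s)) ?_
    rintro W g (⟨⟨ψ⟩⟩ | hz)
    · exact (ExtSupp.isNullOn_iff O U N').1 hN' ψ _
    · have h1 : ι.val.app (op W) (S.val.map g.op s) = 0 := by
        rw [PresheafOfModules.naturality_apply]
        exact hz
      have h2 : S.val.map g.op s = 0 :=
        injective_of_mono ι W (h1.trans (map_zero (ι.val.app (op W)).hom).symm)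
      rw [← PresheafOfModules.naturality_apply, h2]
      exact map_zero (φ.val.app (op W)).hom
  apply SheafOfModules.hom_ext
  apply PresheafOfModules.hom_ext
  intro V
  ext s
  exact key V.unop s

/-- **`M ↦ M/M_U` preserves monomorphisms.** -/
theorem quotOn_map_mono {M' M : ModSite.Mod O} (i : M' ⟶ M) [Mono i] :
    Mono ((ModSite.quotOn O U).map i) := by
  let ε := (ModSite.extZeroAdj O U).counit
  let pr₁ := pullback.fst i (ε.app M)
  let pr₂ := pullback.snd i (ε.app M)
  have sq : IsPullback pr₁ pr₂ i (ε.app M) := IsPullback.of_hasPullback i (ε.app M)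
  have hmono : Mono pr₂ := inferInstance
  have hgen : IsGen O U (pullback i (ε.app M)) := isGen_of_mono_extZero _ pr₂
  let l : (ModSite.restr O U ⋙ ModSite.extZero O U).obj M' ⟶ pullback i (ε.app M) :=
    pullback.lift (ε.app M') ((ModSite.restr O U ⋙ ModSite.extZero O U).map i)
      (ε.naturality i).symm
  have hl : l ≫ pr₁ = ε.app M' := pullback.lift_fst _ _ _
  have hz : ε.app M' ≫ cokernel.π pr₁ = 0 := by
    rw [← hl, Category.assoc, cokernel.condition, comp_zero]
  let q : (ModSite.quotOn O U).obj M' ⟶ cokernel pr₁ := cokernel.desc (ε.app M') (cokernel.π pr₁) hz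
  have hq : (ModSite.quotOnπ O U).app M' ≫ q = cokernel.π pr₁ := cokernel.π_desc _ _ _
  have hqe : Epi q := by
    have : Epi ((ModSite.quotOnπ O U).app M' ≫ q) := by rw [hq]; infer_instance
    exact epi_of_epi ((ModSite.quotOnπ O U).app M') q
  have hnull : ModSite.IsNullOn O U (cokernel pr₁) :=
    IsZero.of_epi ((ModSite.restr O U).map q) (isNullOn_quotOn (U := U) M')
  obtain ⟨e, he⟩ := exists_iso_quotOn pr₁ (cokernel.π pr₁) (cokernel.condition _)
    (cokernelIsCokernel _) hgen hnull
  let cm : cokernel pr₁ ⟶ (ModSite.quotOn O U).obj M := cokernel.map pr₁ (ε.app M) pr₂ i sq.w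
  have hm : Mono cm := Abelian.mono_cokernel_map_of_isPullback sq
  have hcm : cokernel.π pr₁ ≫ cm = i ≫ (ModSite.quotOnπ O U).app M := cokernel.π_desc _ _ _
  have hπ' : Epi ((ModSite.quotOnπ O U).app M') := inferInstanceAs (Epi (cokernel.π _))
  have key : (ModSite.quotOn O U).map i = e.inv ≫ cm := by
    apply (cancel_epi ((ModSite.quotOnπ O U).app M')).1
    have h1 : (ModSite.quotOnπ O U).app M' ≫ e.inv = cokernel.π pr₁ := by
      rw [← he, Category.assoc, Iso.hom_inv_id, Category.comp_id]
    rw [← Category.assoc, h1, hcm]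
    exact ((ModSite.quotOnπ O U).naturality i).symm
  rw [key]
  infer_instance

instance : (ModSite.quotOn O U).PreservesMonomorphisms where
  preserves i _ := quotOn_map_mono i

section Adj

variable (O U) [ModSite.HasPushOver O U]

/-- a morphism restricts to zero on `U` iff its composite with the unit `N ⟶ j_* j^* N` vanishes. -/
lemma restr_map_eq_zero_iff {M N : ModSite.Mod O} (φ : M ⟶ N) :
    (ModSite.restr O U).map φ = 0 ↔ φ ≫ (ModSite.restrPushOverAdj O U).unit.app N = 0 := by
  let adj := ModSite.restrPushOverAdj O U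
  have hnat : φ ≫ adj.unit.app N = adj.unit.app M ≫ (ModSite.pushOver O U).map
      ((ModSite.restr O U).map φ) := adj.unit.naturality φ
  constructor
  · intro h
    rw [hnat, h, Functor.map_zero, comp_zero]
  · intro h
    apply (adj.homEquiv _ _).injective
    rw [adj.homEquiv_unit, ← hnat, h, adj.homEquiv_unit, Functor.map_zero, comp_zero]

instance (M : ModSite.Mod O) : Epi ((ModSite.quotOnπ O U).app M) :=
  inferInstanceAs (Epi (cokernel.π _))

instance (N : ModSite.Mod O) : Mono ((ModSite.sectOnι O U).app N) :=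
  inferInstanceAs (Mono (kernel.ι _))

/-- morphisms `M/M_U ⟶ N` from morphisms `M ⟶ N` vanishing on `U`. -/
noncomputable def quotDesc {M N : ModSite.Mod O} (φ : M ⟶ N)
    (h : (ModSite.restr O U).map φ = 0) : (ModSite.quotOn O U).obj M ⟶ N :=
  cokernel.desc _ φ ((ExtSupp.mem_homZ_iff U φ).1 h)

lemma π_quotDesc {M N : ModSite.Mod O} (φ : M ⟶ N) (h : (ModSite.restr O U).map φ = 0) :
    (ModSite.quotOnπ O U).app M ≫ quotDesc O U φ h = φ := cokernel.π_desc _ _ _

/-- morphisms `M ⟶ Γ_Z N` from morphisms `M ⟶ N` vanishing on `U`. -/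
noncomputable def sectLift {M N : ModSite.Mod O} (φ : M ⟶ N)
    (h : (ModSite.restr O U).map φ = 0) : M ⟶ (ModSite.sectOn O U).obj N :=
  kernel.lift _ φ ((restr_map_eq_zero_iff O U φ).1 h)

lemma sectLift_ι {M N : ModSite.Mod O} (φ : M ⟶ N) (h : (ModSite.restr O U).map φ = 0) :
    sectLift O U φ h ≫ (ModSite.sectOnι O U).app N = φ := kernel.lift_ι _ _ _

lemma restr_map_π_comp {M N : ModSite.Mod O} (ψ : (ModSite.quotOn O U).obj M ⟶ N) :
    (ModSite.restr O U).map ((ModSite.quotOnπ O U).app M ≫ ψ) = 0 := by
  rw [show (ModSite.restr O U).map ((ModSite.quotOnπ O U).app M ≫ ψ) = 0 ↔ _ from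
    ExtSupp.mem_homZ_iff U _, ← Category.assoc]
  have h0 : (ModSite.extZeroAdj O U).counit.app M ≫ (ModSite.quotOnπ O U).app M = 0 :=
    cokernel.condition _
  exact (congrArg (fun t => t ≫ ψ) h0).trans zero_comp

lemma restr_map_comp_ι {M N : ModSite.Mod O} (χ : M ⟶ (ModSite.sectOn O U).obj N) :
    (ModSite.restr O U).map (χ ≫ (ModSite.sectOnι O U).app N) = 0 := by
  rw [restr_map_eq_zero_iff, Category.assoc]
  have h0 : (ModSite.sectOnι O U).app N ≫ (ModSite.restrPushOverAdj O U).unit.app N = 0 :=
    kernel.condition _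
  exact (congrArg (fun t => χ ≫ t) h0).trans comp_zero

/-- **`M ↦ M/M_U` is left adjoint to `Γ_Z`.** -/
noncomputable def quotSectAdj : ModSite.quotOn O U ⊣ ModSite.sectOn O U :=
  Adjunction.mkOfHomEquiv
    { homEquiv := fun M N =>
        { toFun := fun ψ => sectLift O U ((ModSite.quotOnπ O U).app M ≫ ψ) (restr_map_π_comp O U ψ)
          invFun := fun χ => quotDesc O U (χ ≫ (ModSite.sectOnι O U).app N)
            (restr_map_comp_ι O U χ)
          left_inv := fun ψ => by
            rw [← cancel_epi ((ModSite.quotOnπ O U).app M), π_quotDesc, sectLift_ι]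
          right_inv := fun χ => by
            rw [← cancel_mono ((ModSite.sectOnι O U).app N), sectLift_ι, π_quotDesc] }
      homEquiv_naturality_left_symm := fun {M' M N} f χ => by
        show quotDesc O U ((f ≫ χ) ≫ (ModSite.sectOnι O U).app N) (restr_map_comp_ι O U (f ≫ χ)) =
          (ModSite.quotOn O U).map f ≫ quotDesc O U (χ ≫ (ModSite.sectOnι O U).app N)
            (restr_map_comp_ι O U χ)
        rw [← cancel_epi ((ModSite.quotOnπ O U).app M'), π_quotDesc, ← Category.assoc]
        have hn : (ModSite.quotOnπ O U).app M' ≫ (ModSite.quotOn O U).map f =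
            f ≫ (ModSite.quotOnπ O U).app M := ((ModSite.quotOnπ O U).naturality f).symm
        rw [hn, Category.assoc, Category.assoc, π_quotDesc]
      homEquiv_naturality_right := fun {M N N'} ψ g => by
        show sectLift O U ((ModSite.quotOnπ O U).app M ≫ ψ ≫ g) (restr_map_π_comp O U (ψ ≫ g)) =
          sectLift O U ((ModSite.quotOnπ O U).app M ≫ ψ) (restr_map_π_comp O U ψ) ≫
            (ModSite.sectOn O U).map g
        rw [← cancel_mono ((ModSite.sectOnι O U).app N'), sectLift_ι, Category.assoc]
        have hn : (ModSite.sectOn O U).map g ≫ (ModSite.sectOnι O U).app N' =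
            (ModSite.sectOnι O U).app N ≫ g := (ModSite.sectOnι O U).naturality g
        rw [hn, ← Category.assoc, ← Category.assoc, sectLift_ι] }

/-- **`Γ_Z` preserves injective objects.** -/
theorem injective_sectOn (I : ModSite.Mod O) [Injective I] :
    Injective ((ModSite.sectOn O U).obj I) :=
  Injective.injective_of_adjoint (quotSectAdj O U) I

end Adj

end Groth.Agent.Lib.Helper83.QuotOnExact
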