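import Mathlib
import Groth.Agent.Lib.Helper83.ModCoh
import Groth.Agent.Lib.Helper83.FlasqueZ

/-!
# Cohomology with supports of a sheaf of modules as a derived functor on modules

`nonempty_rightDerived_SZ_iso`: for a sheaf of rings `R`, a sheaf of sets `K` and a sheaf of
`R`-modules `M`, the right derived functors on `R`-modules of `M ↦ Hom_ℤ(ℤ/ℤ_K, M)` are the groups
`Ext^n_ℤ(ℤ/ℤ_K, M)` (`ToposFin.HZFunctor K n` of the underlying abelian sheaf).
-/

set_option autoImplicit false
universe u
open CategoryTheory Limits Opposite Abelian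

namespace Groth.Agent.Lib.Helper83.HZDerived

open Groth.Agent.Lib.Helper83.ModCech Groth.Agent.Lib.Helper83.ModCoh
open Groth.Agent.Lib.Helper33.ExtRD

variable {C : Type u} [SmallCategory C] {J : GrothendieckTopology C} (R : Sheaf J RingCat.{u})

/-- `M ↦ Hom(ℤ/ℤ_K, M)` on sheaves of modules (sections with support in the closed complement of
the open generated by `K`). -/
noncomputable abbrev SZ (K : Sheaf J (Type u)) : SheafOfModules.{u} R ⥤ AddCommGrpCat.{u} :=
  SheafOfModules.toSheaf R ⋙ preadditiveCoyoneda.obj (op (ToposFin.quotZ K))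

theorem nonempty_rightDerived_SZ_iso (K : Sheaf J (Type u)) (M : SheafOfModules.{u} R) (n : ℕ) :
    Nonempty (((SZ R K).rightDerived n).obj M ≅
      (ToposFin.HZFunctor K n).obj ((SheafOfModules.toSheaf R).obj M)) := by
  let T := SheafOfModules.toSheaf R
  let G : Sheaf J AddCommGrpCat.{u} ⥤ AddCommGrpCat.{u} :=
    preadditiveCoyoneda.obj (op (ToposFin.quotZ K))
  have hE : ∀ I : SheafOfModules.{u} R, Injective I → ∀ k : ℕ,
      IsZero ((G.rightDerived (k + 1)).obj (T.obj I)) := by
    intro I hI k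
    obtain ⟨e⟩ := ext_iso_rightDerived (ToposFin.quotZ K) (T.obj I) (k + 1)
    have := FlasqueZ.subsingleton_ext_quotZ (T.obj I)
      (ModAcyclic.isTotallyAcyclic_toSheaf_of_injective R I) K k
    exact IsZero.of_iso (AddCommGrpCat.isZero_of_subsingleton _) e
  obtain ⟨e2⟩ := AcyclicComp.nonempty_iso T G hE n M
  obtain ⟨e3⟩ := ext_iso_rightDerived (ToposFin.quotZ K) (T.obj M) n
  exact ⟨e2 ≪≫ e3⟩

end Groth.Agent.Lib.Helper83.HZDerived
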