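import Mathlib
import Groth.Agent.Lib.Helper83.SuppNull
import Groth.Agent.Lib.Helper83.HZDerived

/-!
# Sections with support of the internal hom

For a ringed site `(C, J, O)`, an object `U` and modules `M`, `N`:
`Hom_ℤ(ℤ/ℤ_U, Hom_O(M, N)) ≅ Hom_O(M/M_U, N)`, naturally in `N` (`nonempty_theta`).
-/

set_option autoImplicit false
universe u
open CategoryTheory Limits Opposite

namespace Groth.Agent.Lib.Helper83.SuppTheta

open Groth.Agent.Lib.Helper83.ModCech Groth.Agent.Lib.Helper83.ModCoh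
  Groth.Agent.Lib.Helper83.SuppNull

variable {C : Type u} [SmallCategory C] {J : GrothendieckTopology C}
  (O : Sheaf J CommRingCat.{u}) (U : C)

/-- the terminal sheaf of sets. -/
noncomputable abbrev pt (J : GrothendieckTopology C) : Sheaf J (Type u) := ⊤_ (Sheaf J (Type u))

/-- the map `h_U^# ⟶ pt`. -/
noncomputable abbrev gU : ToposFin.eps J U ⟶ pt J := terminal.from _

/-- the unit `h_U ⟶ h_U^#`. -/
noncomputable abbrev ηU : yoneda.obj U ⟶ (ToposFin.eps J U).obj := toSheafify J (yoneda.obj U)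

instance : IsIso ((L (ModSite.ringSh O)).map (ηU (J := J) U)) :=
  isIso_L_map_of_W _ _ (GrothendieckTopology.W_toSheafify J _)

/-- the free module on `h_U^#` is generated over `U`. -/
theorem isGen_L_eps : IsGen O U ((L (ModSite.ringSh O)).obj (ToposFin.eps J U).obj) := by
  intro N' hN' g
  rw [← cancel_epi ((L (ModSite.ringSh O)).map (ηU (J := J) U)), comp_zero]
  have h0 : ∀ x : N'.val.obj (op U), x = 0 := fun x => (ExtSupp.isNullOn_iff O U N').1 hN' (𝟙 U) x
  apply (secEquiv (ModSite.ringSh O) N' U).injective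
  rw [h0 (secEquiv (ModSite.ringSh O) N' U _), h0 (secEquiv (ModSite.ringSh O) N' U 0)]

section sections

variable (R : Sheaf J RingCat.{u})

lemma secEquiv_comp {I I' : SheafOfModules.{u} R} (U : C) (g : (L R).obj (yoneda.obj U) ⟶ I)
    (φ : I ⟶ I') : secEquiv R I' U (g ≫ φ) = φ.val.app (op U) (secEquiv R I U g) := by
  show yonedaEquiv (F := (Rt R).obj I') ((adjL R).homEquiv _ _ (g ≫ φ)) = _
  rw [(adjL R).homEquiv_naturality_right]
  rfl

/-- the canonical generator of the free module on `h_U`. -/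
noncomputable def gen (U : C) : ((L R).obj (yoneda.obj U)).val.obj (op U) :=
  secEquiv R _ U (𝟙 _)

lemma app_gen {I : SheafOfModules.{u} R} (U : C) (g : (L R).obj (yoneda.obj U) ⟶ I) :
    g.val.app (op U) (gen R U) = secEquiv R I U g := by
  rw [gen, ← secEquiv_comp, Category.id_comp]

/-- the terminal presheaf is terminal. -/
def isTerminalN₁ : IsTerminal (N₁ C) :=
  IsTerminal.ofUniqueHom (fun P => { app := fun _ => ↾(fun _ => PUnit.unit) }) (by
    intro P m
    ext X x
    rfl)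

lemma secEquiv_map_comp_α (U : C) (ζ : yoneda.obj U ⟶ N₁ C) :
    secEquiv R (SheafOfModules.unit R) U ((L R).map ζ ≫ α R) = (1 : R.obj.obj (op U)) := by
  show yonedaEquiv (F := (Rt R).obj (SheafOfModules.unit R))
    ((adjL R).homEquiv _ _ ((L R).map ζ ≫ α R)) = _
  rw [(adjL R).homEquiv_naturality_left]
  dsimp only [α]
  rw [Equiv.apply_symm_apply]
  rfl

end sections

variable {O U}

/-- a morphism to the structure sheaf hitting `1` over `U` restricts to an epimorphism on `C/U`. -/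
lemma epi_restr_of_section {A : ModSite.Mod O} (f' : A ⟶ ModSite.unit O) (a : A.val.obj (op U))
    (ha : f'.val.app (op U) a = (1 : (ModSite.ringSh O).obj.obj (op U))) :
    Epi ((ModSite.restr O U).map f') := by
  apply Groth.Agent.Lib.Helper30.ModEpi.epi_of_isLocallySurjective
  apply Presheaf.isLocallySurjective_of_surjective
  intro Y r
  let V := Y.unop.left
  let h : V ⟶ U := Y.unop.hom
  let r' : (ModSite.ringSh O).obj.obj (op V) := r
  let a' : A.val.obj (op V) := A.val.map h.op a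
  have key : f'.val.app (op V) (r' • a') = r' := by
    rw [map_smul, PresheafOfModules.naturality_apply, ha]
    have h1 : (ModSite.unit O).val.map h.op (1 : (ModSite.ringSh O).obj.obj (op U)) =
        (1 : (ModSite.ringSh O).obj.obj (op V)) :=
      PresheafOfModules.unit_map_one (R := (ModSite.ringSh O).obj) h.op
    exact (congrArg (fun t => r' • t) h1).trans (mul_one r')
  exact ⟨r' • a', key⟩

variable (O U)

/-- the comparison of the terminal sheaf with the constant presheaf `PUnit`. -/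
noncomputable def τ (J : GrothendieckTopology C) : (pt J).obj ⟶ N₁ C := isTerminalN₁.from _

instance : IsIso (τ J) :=
  isIso_of_isTerminal (terminalIsTerminal.isTerminalObj (sheafToPresheaf J (Type u)) _)
    isTerminalN₁ _

/-- the free module on the terminal sheaf is the structure sheaf. -/
noncomputable def ptIso : (L (ModSite.ringSh O)).obj (pt J).obj ≅ ModSite.unit O :=
  asIso ((L (ModSite.ringSh O)).map (τ J)) ≪≫ unitIso (ModSite.ringSh O)

/-- the module `O/O_U` (cokernel of the free module on `h_U^#` mapping to the free module on the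
terminal sheaf). -/
noncomputable abbrev Qm : ModSite.Mod O := cokernel ((L (ModSite.ringSh O)).map (gU (J := J) U).hom)

theorem isNullOn_Qm : ModSite.IsNullOn O U (Qm O U) := by
  let R := ModSite.ringSh O
  let f : (L R).obj (yoneda.obj U) ⟶ ModSite.unit O :=
    (L R).map (ηU U) ≫ (L R).map (gU (J := J) U).hom ≫ (ptIso O).hom
  have hf : f = (L R).map (ηU U ≫ (gU (J := J) U).hom ≫ τ J) ≫ α R := by
    simp only [f, ptIso, unitIso, Iso.trans_hom, asIso_hom, Functor.map_comp, Category.assoc]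
    rfl
  have h1 : f.val.app (op U) (gen R U) = (1 : R.obj.obj (op U)) := by
    rw [app_gen, hf, secEquiv_map_comp_α]
  have hepi : Epi ((ModSite.restr O U).map f) := epi_restr_of_section f (gen R U) h1
  have hepi2 : Epi ((ModSite.restr O U).map ((L R).map (gU (J := J) U).hom)) := by
    have e : (ModSite.restr O U).map ((L R).map (gU (J := J) U).hom) =
        (ModSite.restr O U).map (inv ((L R).map (ηU U))) ≫ (ModSite.restr O U).map f ≫
          (ModSite.restr O U).map (ptIso O).inv := by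
      rw [← Functor.map_comp, ← Functor.map_comp]
      congr 1
      simp only [f, Category.assoc, Iso.hom_inv_id, Category.comp_id, IsIso.inv_hom_id_assoc]
    rw [e]
    infer_instance
  exact (isZero_cokernel_of_epi _).of_iso (PreservesCokernel.iso (ModSite.restr O U) _)

section coker

/-- hom-groups out of cokernels correspond under compatible additive bijections. -/
noncomputable def cokerHomAddEquiv {𝒜 ℬ : Type*} [Category 𝒜] [Category ℬ] [Preadditive 𝒜]
    [Preadditive ℬ] {A₁ A₂ X : 𝒜} {B₁ B₂ Y : ℬ} (f : A₁ ⟶ A₂) (f' : B₁ ⟶ B₂) [HasCokernel f]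
    [HasCokernel f'] (e₁ : (A₁ ⟶ X) ≃+ (B₁ ⟶ Y)) (e₂ : (A₂ ⟶ X) ≃+ (B₂ ⟶ Y))
    (h : ∀ s : A₂ ⟶ X, e₁ (f ≫ s) = f' ≫ e₂ s) :
    (cokernel f ⟶ X) ≃+ (cokernel f' ⟶ Y) where
  toFun s := cokernel.desc f' (e₂ (cokernel.π f ≫ s)) (by
    rw [← h, ← Category.assoc, cokernel.condition, zero_comp, map_zero])
  invFun t := cokernel.desc f (e₂.symm (cokernel.π f' ≫ t)) (by
    apply e₁.injective
    rw [h, AddEquiv.apply_symm_apply, ← Category.assoc, cokernel.condition, zero_comp, map_zero])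
  left_inv s := by
    apply coequalizer.hom_ext
    rw [cokernel.π_desc, cokernel.π_desc, AddEquiv.symm_apply_apply]
  right_inv t := by
    apply coequalizer.hom_ext
    rw [cokernel.π_desc, cokernel.π_desc, AddEquiv.apply_symm_apply]
  map_add' s s' := by
    apply coequalizer.hom_ext
    rw [cokernel.π_desc, Preadditive.comp_add, map_add]
    erw [Preadditive.comp_add, cokernel.π_desc, cokernel.π_desc]

lemma π_cokerHomAddEquiv {𝒜 ℬ : Type*} [Category 𝒜] [Category ℬ] [Preadditive 𝒜]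
    [Preadditive ℬ] {A₁ A₂ X : 𝒜} {B₁ B₂ Y : ℬ} (f : A₁ ⟶ A₂) (f' : B₁ ⟶ B₂) [HasCokernel f]
    [HasCokernel f'] (e₁ : (A₁ ⟶ X) ≃+ (B₁ ⟶ Y)) (e₂ : (A₂ ⟶ X) ≃+ (B₂ ⟶ Y))
    (h : ∀ s : A₂ ⟶ X, e₁ (f ≫ s) = f' ≫ e₂ s) (s : cokernel f ⟶ X) :
    cokernel.π f' ≫ cokerHomAddEquiv f f' e₁ e₂ h s = e₂ (cokernel.π f ≫ s) :=
  cokernel.π_desc _ _ _

end coker

section phi

variable (R : Sheaf J RingCat.{u})

lemma phiAdd_map_comp {N N' : Cᵒᵖ ⥤ Type u} (h : N ⟶ N') (M : SheafOfModules.{u} R)
    (s : (L R).obj N' ⟶ M) :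
    phiAdd R N M ((L R).map h ≫ s) = (LZ J).map h ≫ phiAdd R N' M s := by
  rw [phiAdd_apply, phiAdd_apply, Functor.map_comp, ← Category.assoc, ← Category.assoc]
  congr 1
  exact ((c R).naturality h).symm

lemma phiAdd_comp (N : Cᵒᵖ ⥤ Type u) {M M' : SheafOfModules.{u} R} (s : (L R).obj N ⟶ M)
    (φ : M ⟶ M') :
    phiAdd R N M' (s ≫ φ) = phiAdd R N M s ≫ (SheafOfModules.toSheaf R).map φ := by
  rw [phiAdd_apply, phiAdd_apply, Functor.map_comp, Category.assoc]

end phi

/-- `Hom_O(O/O_U, F) ≃+ Hom_ℤ(ℤ/ℤ_U, F)`. -/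
noncomputable def qmAddEquiv (F : ModSite.Mod O) :
    (Qm O U ⟶ F) ≃+ (ToposFin.quotZ (ToposFin.eps J U) ⟶
      (SheafOfModules.toSheaf (ModSite.ringSh O)).obj F) :=
  cokerHomAddEquiv ((L (ModSite.ringSh O)).map (gU (J := J) U).hom)
    ((ToposFin.freeAb J).map (gU (J := J) U))
    (phiAdd (ModSite.ringSh O) _ F) (phiAdd (ModSite.ringSh O) _ F)
    (fun s => phiAdd_map_comp (ModSite.ringSh O) (gU (J := J) U).hom F s)

/-- `Hom_O(O/O_U, -) ≅ Hom_ℤ(ℤ/ℤ_U, -)` on modules. -/
noncomputable def Φ₁ : preadditiveCoyoneda.obj (op (Qm O U)) ≅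
    HZDerived.SZ (ModSite.ringSh O) (ToposFin.eps J U) :=
  NatIso.ofComponents (fun F => (qmAddEquiv O U F).toAddCommGrpIso) (by
    intro F F' φ
    have key : ∀ s : Qm O U ⟶ F, qmAddEquiv O U F' (s ≫ φ) =
        qmAddEquiv O U F s ≫ (SheafOfModules.toSheaf (ModSite.ringSh O)).map φ := by
      intro s
      apply coequalizer.hom_ext
      show cokernel.π _ ≫ qmAddEquiv O U F' (s ≫ φ) =
        cokernel.π _ ≫ (qmAddEquiv O U F s ≫ (SheafOfModules.toSheaf (ModSite.ringSh O)).map φ)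
      rw [← Category.assoc]
      erw [π_cokerHomAddEquiv, π_cokerHomAddEquiv]
      rw [← Category.assoc, phiAdd_comp]
    ext s
    exact key s)

variable {O U}

open Groth.Agent.Lib.Helper30.ExtZero Groth.Agent.Lib.Helper30.ModTensorAdj in
/-- `(O/O_U) ⊗ M ≅ M/M_U`. -/
theorem exists_Qm_tensor_iso (M : ModSite.Mod O) [ModSite.HasSheafHom M] :
    Nonempty (((ModSite.tensorBi O).flip.obj M).obj (Qm O U) ≅ (ModSite.quotOn O U).obj M) := by
  let T := (ModSite.tensorBi O).flip.obj M
  let R := ModSite.ringSh O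
  let f := (L R).map (gU (J := J) U).hom
  let c : CokernelCofork f := CokernelCofork.ofπ (cokernel.π f) (cokernel.condition f)
  have hc : IsColimit c := cokernelIsCokernel f
  have hc' := CokernelCofork.mapIsColimit c hc T
  have w : T.map f ≫ T.map (cokernel.π f) = 0 := by
    rw [← Functor.map_comp, cokernel.condition, Functor.map_zero]
  obtain ⟨e, _⟩ := exists_iso_quotOn (U := U) (T.map f) (T.map (cokernel.π f)) w hc'
    (isGen_tensor (isGen_L_eps O U) M) (isNullOn_tensor (isNullOn_Qm O U) M)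
  let i : T.obj ((L R).obj (pt J).obj) ≅ M :=
    T.mapIso (ptIso O) ≪≫ (tensorBiSymm O (ModSite.unit O)).app M ≪≫ (tensorUnitIso O).app M
  exact ⟨e ≪≫ (ModSite.quotOn O U).mapIso i⟩

open Groth.Agent.Lib.Helper30.ExtZero in
/-- **Theta.** `Hom_ℤ(ℤ/ℤ_U, Hom_O(M, N)) ≅ Hom_O(M/M_U, N)`, naturally in `N`. -/
theorem nonempty_theta (M : ModSite.Mod O) [ModSite.HasSheafHom M] :
    Nonempty (ModSite.sheafHom M ⋙ HZDerived.SZ (ModSite.ringSh O) (ToposFin.eps J U) ≅
      preadditiveCoyoneda.obj (op ((ModSite.quotOn O U).obj M))) := by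
  obtain ⟨e⟩ := exists_Qm_tensor_iso (U := U) M
  exact ⟨Functor.isoWhiskerLeft (ModSite.sheafHom M) (Φ₁ O U).symm ≪≫
    coyonedaAdjIso (ModSite.sheafHomAdj M) (Qm O U) ≪≫ preadditiveCoyoneda.mapIso e.symm.op⟩

end Groth.Agent.Lib.Helper83.SuppTheta
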