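import Mathlib
import Groth.Agent.Lib.Helper83.SingleHom

/-!
# `Hom_D(S[0], M) ≃ Hom(S, H^0 M)` for `M ∈ D^{≥0}` (helper83)
-/

set_option autoImplicit false
universe w v u

namespace Groth.Agent.Lib.Helper83.H0Bij

open CategoryTheory CategoryTheory.Limits DerivedCategory HomologicalComplex CochainComplex
open Groth.Agent.Lib.Helper83.SingleHom

variable {A : Type u} [Category.{v} A] [Abelian A] [HasDerivedCategory.{w} A]

/-- an object of `D^{≥0}` is represented by a K-injective complex in degrees `≥ 0` -/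
lemma exists_injective_model [EnoughInjectives A] (M : DerivedCategory A) [M.IsGE 0] :
    ∃ (I : CochainComplex A ℤ), I.IsKInjective ∧ I.IsStrictlyGE 0 ∧ Nonempty (M ≅ Q.obj I) := by
  obtain ⟨L₀, hL₀, ⟨e⟩⟩ := M.exists_iso_Q_obj_of_isGE 0
  obtain ⟨I, i, h1, h2, h3⟩ :=
    CochainComplex.Plus.modelCategoryQuillen.exists_quasiIso_injective L₀ 0
  exact ⟨I, CochainComplex.isKInjective_of_injective I 0, h3, ⟨e ≪≫ asIso (Q.map i)⟩⟩

theorem h0_bijective [EnoughInjectives A] (M : DerivedCategory A) [M.IsGE 0] (S : A) :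
    Function.Bijective (h0 : ((DerivedCategory.singleFunctor A 0).obj S ⟶ M) → _) := by
  obtain ⟨I, hI, hI0, ⟨eL⟩⟩ := exists_injective_model M
  have hz : IsZero (I.X (-1)) := I.isZero_of_isStrictlyGE 0 (-1) (by lia)
  have hπ : IsIso (I.homologyπ 0) :=
    I.isIso_homologyπ (-1) 0 (by simp) (hz.eq_of_src _ _)
  have e1 : (DerivedCategory.homologyFunctor A 0).map eL.hom ≫
      (DerivedCategory.homologyFunctor A 0).map eL.inv = 𝟙 _ := by
    rw [← Functor.map_comp, Iso.hom_inv_id, CategoryTheory.Functor.map_id]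
  constructor
  · intro φ₁ φ₂ h
    have h1 : h0 (φ₁ - φ₂) = 0 := by rw [h0_sub, h, sub_self]
    obtain ⟨f, hf⟩ := exists_qm_eq ((φ₁ - φ₂) ≫ eL.hom)
    have h2 : h0 (qm f) = 0 := by rw [hf, h0_postcomp, h1, zero_comp]
    rw [h0_qm, ← Category.assoc] at h2
    have h3 : zOf f ≫ I.homologyπ 0 = 0 := by
      have := h2 =≫ (hF I).hom
      simpa using this
    have h4 : zOf f = 0 := by
      rw [← cancel_mono (I.homologyπ 0), h3, zero_comp]
    have h5 : qm f = 0 := qm_eq_zero f 0 (by rw [zero_comp, h4])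
    have h6 : (φ₁ - φ₂) ≫ eL.hom = 0 := by rw [← hf, h5]
    have h7 : φ₁ - φ₂ = 0 := (cancel_mono eL.hom).1 (by rw [h6, zero_comp])
    exact sub_eq_zero.1 h7
  · intro ψ
    obtain ⟨f, hf⟩ := exists_zOf_eq
      (ψ ≫ (DerivedCategory.homologyFunctor A 0).map eL.hom ≫ (hF I).hom ≫ inv (I.homologyπ 0))
    refine ⟨qm f ≫ eL.inv, ?_⟩
    rw [h0_postcomp, h0_qm, hf]
    simp only [Category.assoc, IsIso.inv_hom_id_assoc, Iso.hom_inv_id_assoc]
    rw [e1, Category.comp_id]

/-- maps from `S[0]` to a negative shift of an object of `D^{≥0}` vanish -/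
theorem eq_zero_of_isGE (M : DerivedCategory A) [M.IsGE 0] (S : A) (i : ℤ) (hi : i < 0)
    (φ : (DerivedCategory.singleFunctor A 0).obj S ⟶ (CategoryTheory.shiftFunctor (DerivedCategory A) i).obj M) :
    φ = 0 := by
  have : (M⟦i⟧).IsGE (-i) := TStructure.t.isGE_shift M 0 i (-i) (by lia)
  exact TStructure.t.zero_of_isLE_of_isGE φ 0 (-i) (by lia) inferInstance this

end Groth.Agent.Lib.Helper83.H0Bij
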