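import Groth.Prelude.Def_RDerDelta
import Mathlib.Algebra.Homology.HomologySequenceLemmas
import Mathlib.CategoryTheory.Abelian.Refinements

/-!
# Helper library: the horseshoe lemma for injective resolutions

For a short exact short complex `S` in an abelian category and injective resolutions `I₁`, `I₃` of
its outer terms we build `RDer.SESRes S`.
-/

universe v u

open CategoryTheory CategoryTheory.Limits

noncomputable section

set_option backward.isDefEq.respectTransparency false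

namespace Groth.Agent.Lib.Helper83

namespace Horseshoe

variable {C : Type u} [Category.{v} C] [Abelian C]
variable {S : ShortComplex C} (hS : S.ShortExact)
  (I₁ : InjectiveResolution S.X₁) (I₃ : InjectiveResolution S.X₃)

/-- extension of the augmentation of `I₁` to `S.X₂` -/
def α : S.X₂ ⟶ I₁.cocomplex.X 0 :=
  have : Mono S.f := hS.mono_f
  Injective.factorThru (I₁.ι.f 0) S.f

lemma f_α : S.f ≫ α hS I₁ = I₁.ι.f 0 := by
  have : Mono S.f := hS.mono_f
  exact Injective.comp_factorThru _ _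

lemma f_α_d : S.f ≫ α hS I₁ ≫ I₁.cocomplex.d 0 1 = 0 := by
  rw [← Category.assoc, f_α]
  exact I₁.ι_f_zero_comp_complex_d

/-- the obstruction class `S.X₃ ⟶ I₁¹` -/
def β : S.X₃ ⟶ I₁.cocomplex.X 1 :=
  have : Epi S.g := hS.epi_g
  hS.exact.desc (α hS I₁ ≫ I₁.cocomplex.d 0 1) (f_α_d hS I₁)

lemma g_β : S.g ≫ β hS I₁ = α hS I₁ ≫ I₁.cocomplex.d 0 1 := by
  have : Epi S.g := hS.epi_g
  exact hS.exact.g_desc _ _

lemma β_d : β hS I₁ ≫ I₁.cocomplex.d 1 2 = 0 := by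
  have : Epi S.g := hS.epi_g
  rw [← cancel_epi S.g, ← Category.assoc, g_β, Category.assoc, HomologicalComplex.d_comp_d,
    comp_zero, comp_zero]

/-- data of two consecutive components of the twisting cochain -/
structure ThetaStep (n : ℕ) where
  t : I₃.cocomplex.X n ⟶ I₁.cocomplex.X (n + 1)
  t' : I₃.cocomplex.X (n + 1) ⟶ I₁.cocomplex.X (n + 2)
  comm : t ≫ I₁.cocomplex.d (n + 1) (n + 2) + I₃.cocomplex.d n (n + 1) ≫ t' = 0

def θ₀ : I₃.cocomplex.X 0 ⟶ I₁.cocomplex.X 1 :=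
  Injective.factorThru (-β hS I₁) (I₃.ι.f 0)

lemma ι_θ₀ : I₃.ι.f 0 ≫ θ₀ hS I₁ I₃ = -β hS I₁ := Injective.comp_factorThru _ _

def θ₁ : I₃.cocomplex.X 1 ⟶ I₁.cocomplex.X 2 :=
  I₃.exact₀.descToInjective (-(θ₀ hS I₁ I₃ ≫ I₁.cocomplex.d 1 2)) (by
    dsimp
    rw [Preadditive.comp_neg, ← Category.assoc, ι_θ₀, Preadditive.neg_comp, β_d, neg_zero, neg_zero])

lemma d_θ₁ : I₃.cocomplex.d 0 1 ≫ θ₁ hS I₁ I₃ = -(θ₀ hS I₁ I₃ ≫ I₁.cocomplex.d 1 2) :=
  I₃.exact₀.comp_descToInjective _ _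

def thetaStepZero : ThetaStep I₁ I₃ 0 where
  t := θ₀ hS I₁ I₃
  t' := θ₁ hS I₁ I₃
  comm := by rw [d_θ₁, add_neg_cancel]

def thetaStepSucc (n : ℕ) (p : ThetaStep I₁ I₃ n) : ThetaStep I₁ I₃ (n + 1) where
  t := p.t'
  t' := (I₃.exact_succ n).descToInjective (-(p.t' ≫ I₁.cocomplex.d (n + 2) (n + 3))) (by
    dsimp
    have h := p.comm
    rw [add_eq_zero_iff_eq_neg] at h
    rw [Preadditive.comp_neg, ← Category.assoc, neg_eq_zero]
    have h' : I₃.cocomplex.d n (n + 1) ≫ p.t' = -(p.t ≫ I₁.cocomplex.d (n + 1) (n + 2)) := by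
      rw [h, neg_neg]
    rw [h', Preadditive.neg_comp, Category.assoc, HomologicalComplex.d_comp_d, comp_zero, neg_zero])
  comm := by
    rw [(I₃.exact_succ n).comp_descToInjective, add_neg_cancel]

def thetaStep : (n : ℕ) → ThetaStep I₁ I₃ n
  | 0 => thetaStepZero hS I₁ I₃
  | n + 1 => thetaStepSucc I₁ I₃ n (thetaStep n)

/-- the twisting cochain -/
def θ (n : ℕ) : I₃.cocomplex.X n ⟶ I₁.cocomplex.X (n + 1) := (thetaStep hS I₁ I₃ n).t

lemma θ_zero : θ hS I₁ I₃ 0 = θ₀ hS I₁ I₃ := rfl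

lemma θ_succ (n : ℕ) : θ hS I₁ I₃ (n + 1) = (thetaStep hS I₁ I₃ n).t' := rfl

lemma θ_comm (n : ℕ) :
    θ hS I₁ I₃ n ≫ I₁.cocomplex.d (n + 1) (n + 2) +
      I₃.cocomplex.d n (n + 1) ≫ θ hS I₁ I₃ (n + 1) = 0 := by
  rw [θ_succ]
  exact (thetaStep hS I₁ I₃ n).comm

lemma ι_θ : I₃.ι.f 0 ≫ θ hS I₁ I₃ 0 = -β hS I₁ := ι_θ₀ hS I₁ I₃

/-- the objects of the middle complex -/
abbrev midX (n : ℕ) : C := I₁.cocomplex.X n ⊞ I₃.cocomplex.X n

/-- the differential of the twisted sum -/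
def D (n : ℕ) : midX I₁ I₃ n ⟶ midX I₁ I₃ (n + 1) :=
  biprod.desc (I₁.cocomplex.d n (n + 1) ≫ biprod.inl)
    (θ hS I₁ I₃ n ≫ biprod.inl + I₃.cocomplex.d n (n + 1) ≫ biprod.inr)

lemma inl_D (n : ℕ) : biprod.inl ≫ D hS I₁ I₃ n = I₁.cocomplex.d n (n + 1) ≫ biprod.inl :=
  biprod.inl_desc _ _

lemma inr_D (n : ℕ) : biprod.inr ≫ D hS I₁ I₃ n =
    θ hS I₁ I₃ n ≫ biprod.inl + I₃.cocomplex.d n (n + 1) ≫ biprod.inr :=
  biprod.inr_desc _ _

lemma D_snd (n : ℕ) : D hS I₁ I₃ n ≫ biprod.snd = biprod.snd ≫ I₃.cocomplex.d n (n + 1) := by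
  apply biprod.hom_ext'
  · rw [← Category.assoc, inl_D]
    simp
  · rw [← Category.assoc, inr_D]
    simp

lemma D_fst (n : ℕ) : D hS I₁ I₃ n ≫ biprod.fst =
    biprod.fst ≫ I₁.cocomplex.d n (n + 1) + biprod.snd ≫ θ hS I₁ I₃ n := by
  apply biprod.hom_ext'
  · rw [← Category.assoc, inl_D]
    simp
  · rw [← Category.assoc, inr_D]
    simp

lemma D_D (n : ℕ) : D hS I₁ I₃ n ≫ D hS I₁ I₃ (n + 1) = 0 := by
  apply biprod.hom_ext'
  · rw [← Category.assoc, inl_D, Category.assoc, inl_D, ← Category.assoc,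
      HomologicalComplex.d_comp_d, zero_comp, comp_zero]
  · rw [← Category.assoc, inr_D, Preadditive.add_comp, Category.assoc, Category.assoc, inl_D,
      inr_D, Preadditive.comp_add, ← Category.assoc, ← Category.assoc, ← Category.assoc,
      HomologicalComplex.d_comp_d, zero_comp, add_zero, ← Preadditive.add_comp, θ_comm, zero_comp,
      comp_zero]

/-- the middle complex of the horseshoe -/
def mid : CochainComplex C ℕ :=
  CochainComplex.of (midX I₁ I₃) (D hS I₁ I₃) (D_D hS I₁ I₃)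

lemma mid_d (n : ℕ) : (mid hS I₁ I₃).d n (n + 1) = D hS I₁ I₃ n := CochainComplex.of_d _ _ _

/-- the inclusion `I₁ ⟶ mid` -/
def fMap : I₁.cocomplex ⟶ mid hS I₁ I₃ :=
  CochainComplex.ofHom (fun n => (biprod.inl : I₁.cocomplex.X n ⟶ midX I₁ I₃ n)) (fun n => by
    rw [mid_d, inl_D])

/-- the projection `mid ⟶ I₃` -/
def gMap : mid hS I₁ I₃ ⟶ I₃.cocomplex :=
  CochainComplex.ofHom (fun n => (biprod.snd : midX I₁ I₃ n ⟶ I₃.cocomplex.X n)) (fun n => by
    rw [mid_d, D_snd])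

lemma fMap_f (n : ℕ) : (fMap hS I₁ I₃).f n = biprod.inl := rfl

lemma gMap_f (n : ℕ) : (gMap hS I₁ I₃).f n = biprod.snd := rfl

lemma fMap_gMap : fMap hS I₁ I₃ ≫ gMap hS I₁ I₃ = 0 := by
  ext n
  simp [fMap_f, gMap_f]

lemma shortExact_mid : (ShortComplex.mk (fMap hS I₁ I₃) (gMap hS I₁ I₃) (fMap_gMap hS I₁ I₃)).ShortExact := by
  apply HomologicalComplex.shortExact_of_degreewise_shortExact
  intro n
  exact (ShortComplex.Splitting.ofHasBinaryBiproduct (I₁.cocomplex.X n) (I₃.cocomplex.X n)).shortExact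

/-- the augmentation of the middle complex -/
def aug : S.X₂ ⟶ midX I₁ I₃ 0 := biprod.lift (α hS I₁) (S.g ≫ I₃.ι.f 0)

lemma aug_fst : aug hS I₁ I₃ ≫ biprod.fst = α hS I₁ := biprod.lift_fst _ _

lemma aug_snd : aug hS I₁ I₃ ≫ biprod.snd = S.g ≫ I₃.ι.f 0 := biprod.lift_snd _ _

lemma aug_D : aug hS I₁ I₃ ≫ D hS I₁ I₃ 0 = 0 := by
  apply biprod.hom_ext
  · rw [Category.assoc, D_fst, Preadditive.comp_add, ← Category.assoc, aug_fst, ← Category.assoc,
      aug_snd, Category.assoc, ι_θ, Preadditive.comp_neg, g_β, add_neg_cancel, zero_comp]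
  · rw [Category.assoc, D_snd, ← Category.assoc, aug_snd, Category.assoc, zero_comp]
    have := I₃.ι_f_zero_comp_complex_d
    rw [this, comp_zero]

instance mono_aug : Mono (aug hS I₁ I₃) := by
  apply Preadditive.mono_of_cancel_zero
  intro A x hx
  have h1 : x ≫ α hS I₁ = 0 := by
    have := hx =≫ biprod.fst
    rwa [Category.assoc, aug_fst, zero_comp] at this
  have h2 : (x ≫ S.g) ≫ I₃.ι.f 0 = 0 := by
    have := hx =≫ biprod.snd
    rwa [Category.assoc, aug_snd, zero_comp, ← Category.assoc] at this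
  have h3 : x ≫ S.g = 0 := by
    rw [← cancel_mono (I₃.ι.f 0), h2, zero_comp]
  have : Mono S.f := hS.mono_f
  have hy := hS.exact.lift_f x h3
  have h4 : hS.exact.lift x h3 ≫ I₁.ι.f 0 = 0 := by
    rw [← f_α hS I₁, ← Category.assoc, hy, h1]
  have h5 : hS.exact.lift x h3 = 0 := by
    rw [← cancel_mono (I₁.ι.f 0), h4, zero_comp]
  rw [← hy, h5, zero_comp]

lemma exact_aug : (ShortComplex.mk (aug hS I₁ I₃) (D hS I₁ I₃ 0) (aug_D hS I₁ I₃)).Exact := by
  rw [ShortComplex.exact_iff_exact_up_to_refinements]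
  intro A k hk
  dsimp at k hk
  have hc : (k ≫ biprod.snd) ≫ I₃.cocomplex.d 0 1 = 0 := by
    have := hk =≫ biprod.snd
    rwa [Category.assoc, D_snd, zero_comp, ← Category.assoc] at this
  have ha : (k ≫ biprod.fst) ≫ I₁.cocomplex.d 0 1 + (k ≫ biprod.snd) ≫ θ hS I₁ I₃ 0 = 0 := by
    have := hk =≫ biprod.fst
    rwa [Category.assoc, D_fst, zero_comp, Preadditive.comp_add, ← Category.assoc,
      ← Category.assoc] at this
  obtain ⟨c', hc'⟩ : ∃ c' : A ⟶ S.X₃, c' ≫ I₃.ι.f 0 = k ≫ biprod.snd :=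
    ⟨I₃.exact₀.lift _ hc, I₃.exact₀.lift_f _ hc⟩
  have : Epi S.g := hS.epi_g
  obtain ⟨A', π, hπ, x', hx'⟩ := surjective_up_to_refinements_of_epi S.g c'
  have hz : (π ≫ k ≫ biprod.fst - x' ≫ α hS I₁) ≫ I₁.cocomplex.d 0 1 = 0 := by
    have e1 : (k ≫ biprod.fst) ≫ I₁.cocomplex.d 0 1 = -((k ≫ biprod.snd) ≫ θ hS I₁ I₃ 0) :=
      eq_neg_of_add_eq_zero_left ha
    have e2 : (k ≫ biprod.snd) ≫ θ hS I₁ I₃ 0 = -(c' ≫ β hS I₁) := by
      rw [← hc', Category.assoc, ι_θ, Preadditive.comp_neg]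
    have e3 : x' ≫ α hS I₁ ≫ I₁.cocomplex.d 0 1 = π ≫ c' ≫ β hS I₁ := by
      rw [← g_β, ← Category.assoc, ← hx', Category.assoc]
    have e1' : k ≫ biprod.fst ≫ I₁.cocomplex.d 0 1 = c' ≫ β hS I₁ := by
      rw [← Category.assoc, e1, e2, neg_neg]
    rw [Preadditive.sub_comp, Category.assoc, Category.assoc, Category.assoc, e3, e1', sub_self]
  have hy := I₁.exact₀.lift_f _ hz
  dsimp at hy
  set y := I₁.exact₀.lift _ hz
  refine ⟨A', π, hπ, x' + y ≫ S.f, ?_⟩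
  dsimp
  apply biprod.hom_ext
  · rw [Category.assoc, Category.assoc, aug_fst, Preadditive.add_comp, Category.assoc, f_α, hy]
    abel
  · rw [Category.assoc, Category.assoc, aug_snd, Preadditive.add_comp, Category.assoc,
      ← Category.assoc S.f, S.zero, zero_comp, comp_zero, add_zero, ← Category.assoc x', ← hx',
      Category.assoc, hc']

/-- the augmentation as a cochain map -/
def ιMid : (CochainComplex.single₀ C).obj S.X₂ ⟶ mid hS I₁ I₃ :=
  (CochainComplex.fromSingle₀Equiv _ _).symm ⟨aug hS I₁ I₃, by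
    rw [mid_d]
    exact aug_D hS I₁ I₃⟩

lemma ιMid_f_zero : (ιMid hS I₁ I₃).f 0 = aug hS I₁ I₃ := by
  simp [ιMid]

instance (n : ℕ) : Injective ((mid hS I₁ I₃).X n) :=
  inferInstanceAs (Injective (I₁.cocomplex.X n ⊞ I₃.cocomplex.X n))

lemma mid_exactAt_succ (n : ℕ) : (mid hS I₁ I₃).ExactAt (n + 1) :=
  (shortExact_mid hS I₁ I₃).exactAt_X₂ (n + 1) (I₁.cocomplex_exactAt_succ n)
    (I₃.cocomplex_exactAt_succ n)

instance quasiIso_ιMid : QuasiIso (ιMid hS I₁ I₃) := ⟨fun n => by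
  cases n with
  | zero =>
    rw [CochainComplex.quasiIsoAt₀_iff, ShortComplex.quasiIso_iff_of_zeros]
    · refine (ShortComplex.exact_and_mono_f_iff_of_iso ?_).2
        ⟨exact_aug hS I₁ I₃, mono_aug hS I₁ I₃⟩
      exact ShortComplex.isoMk (Iso.refl _) (Iso.refl _) (Iso.refl _)
        (by simp [ιMid_f_zero]) (by simp [mid_d])
    all_goals rfl
  | succ n =>
    rw [quasiIsoAt_iff_exactAt]
    · exact mid_exactAt_succ hS I₁ I₃ n
    · exact CochainComplex.exactAt_succ_single_obj _ _⟩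

/-- the middle resolution -/
def midRes : InjectiveResolution S.X₂ where
  cocomplex := mid hS I₁ I₃
  ι := ιMid hS I₁ I₃

lemma ι_fMap : I₁.ι ≫ fMap hS I₁ I₃ =
    (CochainComplex.single₀ C).map S.f ≫ (midRes hS I₁ I₃).ι := by
  apply HomologicalComplex.from_single_hom_ext
  change I₁.ι.f 0 ≫ (fMap hS I₁ I₃).f 0 =
    ((CochainComplex.single₀ C).map S.f).f 0 ≫ (ιMid hS I₁ I₃).f 0
  rw [fMap_f, ιMid_f_zero, CochainComplex.single₀_map_f_zero]
  apply biprod.hom_ext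
  · rw [Category.assoc, Category.assoc, aug_fst, f_α]
    simp
  · rw [Category.assoc, Category.assoc, aug_snd, ← Category.assoc S.f, S.zero]
    simp

lemma ι_gMap : (midRes hS I₁ I₃).ι ≫ gMap hS I₁ I₃ =
    (CochainComplex.single₀ C).map S.g ≫ I₃.ι := by
  apply HomologicalComplex.from_single_hom_ext
  change (ιMid hS I₁ I₃).f 0 ≫ (gMap hS I₁ I₃).f 0 =
    ((CochainComplex.single₀ C).map S.g).f 0 ≫ I₃.ι.f 0
  rw [gMap_f, ιMid_f_zero, CochainComplex.single₀_map_f_zero, aug_snd]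

/-- **Horseshoe lemma**: a resolution of a short exact sequence with prescribed outer
resolutions. -/
def sesRes : RDer.SESRes S where
  I₁ := I₁
  I₂ := midRes hS I₁ I₃
  I₃ := I₃
  f := fMap hS I₁ I₃
  g := gMap hS I₁ I₃
  zero := fMap_gMap hS I₁ I₃
  ι_f := ι_fMap hS I₁ I₃
  ι_g := ι_gMap hS I₁ I₃
  shortExact := shortExact_mid hS I₁ I₃

end Horseshoe

/-- **Horseshoe lemma** (existence form). -/
theorem nonempty_sesRes {C : Type u} [Category.{v} C] [Abelian C] [HasInjectiveResolutions C]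
    {S : ShortComplex C} (hS : S.ShortExact) : Nonempty (RDer.SESRes S) :=
  ⟨Horseshoe.sesRes hS (injectiveResolution S.X₁) (injectiveResolution S.X₃)⟩

end Groth.Agent.Lib.Helper83
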