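import Groth.Agent.Lib.Helper83.RDer
import Groth.Agent.Lib.Helper83.Horseshoe

/-!
# Helper library: existence of `RDer.DerivedLES F`
-/

universe v u v' u'

open CategoryTheory CategoryTheory.Limits

noncomputable section

set_option linter.unusedVariables false

namespace Groth.Agent.Lib.Helper83

open RDer

variable {C : Type u} [Category.{v} C] [Abelian C] [HasInjectiveResolutions C]
  {D : Type u'} [Category.{v'} D] [Abelian D] (F : C ⥤ D) [F.Additive]

section

variable {S : ShortComplex C} (T : SESRes S)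

lemma hom_nat_f (n : ℕ) :
    (F.rightDerived n).map S.f ≫ (T.I₂.isoRightDerivedObj F n).hom =
      (T.I₁.isoRightDerivedObj F n).hom ≫
        HomologicalComplex.homologyMap ((F.mapHomologicalComplex (ComplexShape.up ℕ)).map T.f) n := by
  have c : T.I₁.ι.f 0 ≫ T.f.f 0 = S.f ≫ T.I₂.ι.f 0 := by
    have := HomologicalComplex.congr_hom T.ι_f 0
    simpa using this
  exact InjectiveResolution.isoRightDerivedObj_hom_naturality S.f T.I₁ T.I₂ T.f c F n

lemma hom_nat_g (n : ℕ) :
    (F.rightDerived n).map S.g ≫ (T.I₃.isoRightDerivedObj F n).hom =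
      (T.I₂.isoRightDerivedObj F n).hom ≫
        HomologicalComplex.homologyMap ((F.mapHomologicalComplex (ComplexShape.up ℕ)).map T.g) n := by
  have c : T.I₂.ι.f 0 ≫ T.g.f 0 = S.g ≫ T.I₃.ι.f 0 := by
    have := HomologicalComplex.congr_hom T.ι_g 0
    simpa using this
  exact InjectiveResolution.isoRightDerivedObj_hom_naturality S.g T.I₂ T.I₃ T.g c F n

include T in
lemma exact₂_of_sesRes (n : ℕ) :
    (ShortComplex.mk ((F.rightDerived n).map S.f) ((F.rightDerived n).map S.g)
      (by rw [← Functor.map_comp, S.zero, Functor.map_zero])).Exact := by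
  refine ShortComplex.exact_of_iso (ShortComplex.isoMk (T.I₁.isoRightDerivedObj F n)
    (T.I₂.isoRightDerivedObj F n) (T.I₃.isoRightDerivedObj F n) ?_ ?_).symm
    ((T.map_shortExact F).homology_exact₂ n)
  · exact (hom_nat_f F T n).symm
  · exact (hom_nat_g F T n).symm

lemma comp_delta (n₀ n₁ : ℕ) (h : n₀ + 1 = n₁) :
    (F.rightDerived n₀).map S.g ≫ T.delta F n₀ n₁ h = 0 := by
  rw [← cancel_mono (T.I₁.isoRightDerivedObj F n₁).hom, zero_comp]
  refine ((Category.assoc _ _ _).trans ((whisker_eq _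
    (SESRes.delta_comp_isoRightDerivedObj_hom T F n₀ n₁ h)).trans
    ((Category.assoc _ _ _).symm.trans ((eq_whisker (hom_nat_g F T n₀) _).trans
    ((Category.assoc _ _ _).trans ?_)))))
  have := (T.map_shortExact F).comp_δ n₀ n₁ h
  exact (whisker_eq _ this).trans comp_zero

lemma delta_comp (n₀ n₁ : ℕ) (h : n₀ + 1 = n₁) :
    T.delta F n₀ n₁ h ≫ (F.rightDerived n₁).map S.f = 0 := by
  rw [← cancel_mono (T.I₂.isoRightDerivedObj F n₁).hom, zero_comp]
  refine ((Category.assoc _ _ _).trans ((whisker_eq _ (hom_nat_f F T n₁)).trans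
    ((Category.assoc _ _ _).symm.trans ((eq_whisker
    (SESRes.delta_comp_isoRightDerivedObj_hom T F n₀ n₁ h) _).trans
    ((Category.assoc _ _ _).trans ?_)))))
  have := (T.map_shortExact F).δ_comp n₀ n₁ h
  exact (whisker_eq _ this).trans comp_zero

lemma exact₃_of_sesRes (n₀ n₁ : ℕ) (h : n₀ + 1 = n₁) :
    (ShortComplex.mk _ _ (comp_delta F T n₀ n₁ h)).Exact := by
  refine ShortComplex.exact_of_iso (ShortComplex.isoMk (T.I₂.isoRightDerivedObj F n₀)
    (T.I₃.isoRightDerivedObj F n₀) (T.I₁.isoRightDerivedObj F n₁) ?_ ?_).symm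
    ((T.map_shortExact F).homology_exact₃ n₀ n₁ h)
  · exact (hom_nat_g F T n₀).symm
  · exact (SESRes.delta_comp_isoRightDerivedObj_hom T F n₀ n₁ h).symm

lemma exact₁_of_sesRes (n₀ n₁ : ℕ) (h : n₀ + 1 = n₁) :
    (ShortComplex.mk _ _ (delta_comp F T n₀ n₁ h)).Exact := by
  refine ShortComplex.exact_of_iso (ShortComplex.isoMk (T.I₃.isoRightDerivedObj F n₀)
    (T.I₁.isoRightDerivedObj F n₁) (T.I₂.isoRightDerivedObj F n₁) ?_ ?_).symm
    ((T.map_shortExact F).homology_exact₁ n₀ n₁ h)
  · exact (SESRes.delta_comp_isoRightDerivedObj_hom T F n₀ n₁ h).symm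
  · exact (hom_nat_f F T n₁).symm

end

/-- a chosen resolution of a short exact sequence -/
def chosenRes {S : ShortComplex C} (hS : S.ShortExact) : SESRes S :=
  Classical.choice (nonempty_sesRes hS)

/-- The connecting morphisms of the right derived functors. -/
def derivedLES : RDer.DerivedLES F where
  δ S hS n₀ n₁ h := (chosenRes hS).delta F n₀ n₁ h
  δ_eq S hS T n₀ n₁ h := delta_indep F _ T n₀ n₁ h
  δ_natural hS hS' φ n₀ n₁ h := delta_natural F φ _ _ n₀ n₁ h
  exact₂ S hS n := exact₂_of_sesRes F (chosenRes hS) n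
  comp_δ S hS n₀ n₁ h := comp_delta F (chosenRes hS) n₀ n₁ h
  exact₃ S hS n₀ n₁ h := exact₃_of_sesRes F (chosenRes hS) n₀ n₁ h
  δ_comp S hS n₀ n₁ h := delta_comp F (chosenRes hS) n₀ n₁ h
  exact₁ S hS n₀ n₁ h := exact₁_of_sesRes F (chosenRes hS) n₀ n₁ h

end Groth.Agent.Lib.Helper83
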