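import Mathlib
import Groth.Agent.Lib.Helper83.SuppTheta
import Groth.Agent.Lib.Helper83.QuotOnExact

/-!
# Ingredients for the spectral sequences of cohomology with supports on a ringed site

* `nonempty_sectOn_Γ_iso`: `Γ(C, Γ_Z(F)) ≅ Hom_ℤ(ℤ/ℤ_U, F)`, naturally in the module `F`;
* `nonempty_rightDerived_Γ_iso`: the derived functors of `Hom_O(O, -)` are the cohomology groups
  `H^p(C, -)` of the underlying abelian sheaf;
* `isZero_rightDerived_Γ_of_totallyAcyclic`;
* `sheafHomSectOnIso`: `Γ_Z ∘ Hom_O(M, -) ≅ Hom_O(M, -) ∘ Γ_Z`.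
-/

set_option autoImplicit false
universe u
open CategoryTheory Limits Opposite Abelian

namespace Groth.Agent.Lib.Helper83.SuppSS

open Groth.Agent.Lib.Helper83.ModCech Groth.Agent.Lib.Helper83.ModCoh
  Groth.Agent.Lib.Helper83.SuppNull Groth.Agent.Lib.Helper83.SuppTheta
  Groth.Agent.Lib.Helper83.QuotOnExact Groth.Agent.Lib.Helper33.ExtRD

/-- Isomorphic additive functors have isomorphic right derived functors. -/
noncomputable def rightDerivedMapIso {A B : Type*} [Category A] [Category B] [Abelian A] [Abelian B]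
    [HasInjectiveResolutions A] {F G : A ⥤ B} [F.Additive] [G.Additive] (α : F ≅ G) (n : ℕ) :
    F.rightDerived n ≅ G.rightDerived n where
  hom := NatTrans.rightDerived α.hom n
  inv := NatTrans.rightDerived α.inv n
  hom_inv_id := by rw [← NatTrans.rightDerived_comp, α.hom_inv_id, NatTrans.rightDerived_id]
  inv_hom_id := by rw [← NatTrans.rightDerived_comp, α.inv_hom_id, NatTrans.rightDerived_id]

variable {C : Type u} [SmallCategory C] {J : GrothendieckTopology C}
  (O : Sheaf J CommRingCat.{u}) (U : C)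

/-- `O/O_U`, as a cokernel of free modules, is `quotOn` of the structure sheaf. -/
theorem exists_Qm_iso : Nonempty (Qm O U ≅ (ModSite.quotOn O U).obj (ModSite.unit O)) := by
  obtain ⟨e, _⟩ := exists_iso_quotOn (U := U) ((L (ModSite.ringSh O)).map (gU (J := J) U).hom)
    (cokernel.π _) (cokernel.condition _) (cokernelIsCokernel _) (isGen_L_eps O U)
    (isNullOn_Qm O U)
  exact ⟨e ≪≫ (ModSite.quotOn O U).mapIso (ptIso O)⟩

/-- global sections of a module, as `Hom_O(O, -)`. -/
noncomputable abbrev Γm : ModSite.Mod O ⥤ AddCommGrpCat.{u} :=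
  preadditiveCoyoneda.obj (op (ModSite.unit O))

/-- the derived functors of `Hom_O(O, -)` are the cohomology groups of the underlying abelian
sheaf. -/
theorem nonempty_rightDerived_Γ_iso [HasInjectiveResolutions (ModSite.Mod O)] (F : ModSite.Mod O)
    (p : ℕ) : Nonempty (((Γm O).rightDerived p).obj F ≅ AddCommGrpCat.of (ModSite.HC O F p)) := by
  have : HasExt.{u} (ModSite.Mod O) := hasExt_of_enoughInjectives _
  obtain ⟨e1⟩ := ext_iso_rightDerived (ModSite.unit O) F p
  obtain ⟨e2⟩ := nonempty_ext_unit_addEquiv_H (ModSite.ringSh O) F p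
  exact ⟨e1 ≪≫ e2.toAddCommGrpIso⟩

/-- modules whose underlying abelian sheaf is totally acyclic are acyclic for `Hom_O(O, -)`. -/
theorem isZero_rightDerived_Γ_of_totallyAcyclic [HasInjectiveResolutions (ModSite.Mod O)]
    (F : ModSite.Mod O) (hF : CohCx.IsTotallyAcyclic (ModSite.toAb F)) (k : ℕ) :
    IsZero (((Γm O).rightDerived (k + 1)).obj F) := by
  have : HasExt.{u} (ModSite.Mod O) := hasExt_of_enoughInjectives _
  obtain ⟨e1⟩ := ext_iso_rightDerived (ModSite.unit O) F (k + 1)
  obtain ⟨e2⟩ := nonempty_ext_addEquiv (ModSite.ringSh O) (N₁ C)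
    (fun I _ k => ModAcyclic.isTotallyAcyclic_toSheaf_of_injective (ModSite.ringSh O) I (K₁ J) k)
    F (k + 1)
  have hsub : Subsingleton (Ext ((LZ J).obj (N₁ C)) (ModSite.toAb F) (k + 1)) := hF (K₁ J) k
  have hsub2 : Subsingleton (Ext (ModSite.unit O) F (k + 1)) :=
    ((extAddEquivOfIsoLeft (unitIso (ModSite.ringSh O)) F (k + 1)).symm.trans e2).injective.subsingleton
  exact IsZero.of_iso (AddCommGrpCat.isZero_of_subsingleton _) e1

section

variable [ModSite.HasPushOver O U]

instance quotOn_additive : (ModSite.quotOn O U).Additive :=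
  (quotSectAdj O U).left_adjoint_additive

/-- `Γ(C, Γ_Z(F)) ≅ Hom_ℤ(ℤ/ℤ_U, F)`, naturally in the module `F`. -/
theorem nonempty_sectOn_Γ_iso : Nonempty (ModSite.sectOn O U ⋙ Γm O ≅
    HZDerived.SZ (ModSite.ringSh O) (ToposFin.eps J U)) := by
  obtain ⟨e⟩ := exists_Qm_iso O U
  exact ⟨coyonedaAdjIso (quotSectAdj O U) (ModSite.unit O) ≪≫
    preadditiveCoyoneda.mapIso e.op ≪≫ Φ₁ O U⟩

open Groth.Agent.Lib.Helper30.ExtZero in
/-- `(G/G_U) ⊗ M ≅ (G ⊗ M)/(G ⊗ M)_U`, naturally in `G`. -/
noncomputable def quotOnTensorIso (M : ModSite.Mod O) [ModSite.HasSheafHom M] :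
    ModSite.quotOn O U ⋙ (ModSite.tensorBi O).flip.obj M ≅
      (ModSite.tensorBi O).flip.obj M ⋙ ModSite.quotOn O U :=
  NatIso.ofComponents (fun G => (exists_quotOn_tensor_iso (U := U) G M).choose) (by
    intro G G' g
    have hepi : Epi (((ModSite.tensorBi O).flip.obj M).map ((ModSite.quotOnπ O U).app G)) :=
      inferInstance
    rw [← cancel_epi (((ModSite.tensorBi O).flip.obj M).map ((ModSite.quotOnπ O U).app G))]
    have h1 := (exists_quotOn_tensor_iso (U := U) G M).choose_spec
    have h2 := (exists_quotOn_tensor_iso (U := U) G' M).choose_spec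
    have hn : (ModSite.quotOnπ O U).app G ≫ (ModSite.quotOn O U).map g =
        g ≫ (ModSite.quotOnπ O U).app G' := ((ModSite.quotOnπ O U).naturality g).symm
    have hn' : (ModSite.quotOnπ O U).app (((ModSite.tensorBi O).flip.obj M).obj G) ≫
        (ModSite.quotOn O U).map (((ModSite.tensorBi O).flip.obj M).map g) =
        ((ModSite.tensorBi O).flip.obj M).map g ≫
          (ModSite.quotOnπ O U).app (((ModSite.tensorBi O).flip.obj M).obj G') :=
      ((ModSite.quotOnπ O U).naturality _).symm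
    dsimp only [Functor.comp_obj, Functor.comp_map]
    rw [← Category.assoc, ← Functor.map_comp, hn, Functor.map_comp, Category.assoc, h2,
      ← Category.assoc, h1, hn'])

open Groth.Agent.Lib.Helper30.ExtZero in
/-- `Γ_Z(Hom_O(M, -)) ≅ Hom_O(M, Γ_Z(-))`. -/
noncomputable def sheafHomSectOnIso (M : ModSite.Mod O) [ModSite.HasSheafHom M] :
    ModSite.sheafHom M ⋙ ModSite.sectOn O U ≅ ModSite.sectOn O U ⋙ ModSite.sheafHom M :=
  conjugateIsoEquiv ((quotSectAdj O U).comp (ModSite.sheafHomAdj M))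
    ((ModSite.sheafHomAdj M).comp (quotSectAdj O U)) (quotOnTensorIso O U M).symm

end

end Groth.Agent.Lib.Helper83.SuppSS
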