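import Groth.Agent.Lib.Helper83.LerayLinSch
import Groth.Agent.Lib.Helper38.SerreVanishPn
import Groth.Agent.Lib.Helper5.ProjFormula
import Groth.Agent.Lib.Helper16.FlatPull.Chart
import Groth.Agent.Lib.Helper11.PullbackTensor
import Groth.Agent.S0019
import Groth.Agent.S0038
import Groth.Agent.S0012

/-!
# Serre finiteness and vanishing for closed subschemes of `P^n_B` (helper83)

For `B` Noetherian, `j : Y ⟶ P^n_B` a closed immersion over `Spec B`, and `F` coherent on `Y`:
* `finite_HH_of_closedImmersion`: `H^p(Y, F)` is a finite `B`-module;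
* `serre_vanishing_of_closedImmersion`: `H^q(Y, F ⊗ j^* O(m)) = 0` for `q ≥ 1`, `m ≫ 0`.
-/

set_option autoImplicit false
universe u
open CategoryTheory CategoryTheory.Limits TopologicalSpace Opposite AlgebraicGeometry

namespace Groth.Agent.Lib.Helper83.SerreClosed

open Groth.Agent.Lib.Helper83.LerayLin Groth.Agent.Lib.Helper17 Groth.Agent.Lib.Helper1

variable (n : ℕ) (B : Type u) [CommRing B] [IsNoetherianRing B] {Y : Scheme.{u}}
  (j : Y ⟶ CohB1.ProjSpace n B) [IsClosedImmersion j]

theorem isCoh_push (F : Y.Modules) (hF : Coh.IsCoh F) : Coh.IsCoh ((Coh.push j).obj F) := by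
  have : IsNoetherian (CohB1.ProjSpace n B) := FinCoh.isNoetherian_projSpace n B
  exact Groth.Agent.S0019.result j F hF

/-- **Finiteness of cohomology on closed subschemes of `P^n_B`.** -/
theorem finite_HH_of_closedImmersion [Y.Over (Spec (CommRingCat.of B))]
    [j.IsOver (Spec (CommRingCat.of B))] (F : Y.Modules) (hF : Coh.IsCoh F) (p : ℕ) :
    Module.Finite B (Coh.HH Y F p) := by
  have hpush := isCoh_push n B j F hF
  have : ((Coh.push j).obj F).IsQuasicoherent := hpush.1
  have : F.IsQuasicoherent := hF.1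
  obtain ⟨e⟩ := nonempty_linearEquiv_push j F (PnCech.U n B) B (PnVanish.iSup_U n B)
    (fun _ a => PnVanish.isAffineOpen_iInf n B a)
    (fun m a q => subsingleton_HU_of_isAffineOpen F _
      ((PnVanish.isAffineOpen_iInf n B a).preimage j) q) p
  have := Groth.Agent.S0038.result n B _ hpush p
  exact Module.Finite.equiv e.symm

/-- **Serre vanishing on closed subschemes of `P^n_B`.** -/
theorem serre_vanishing_of_closedImmersion (F : Y.Modules) (hF : Coh.IsCoh F) :
    ∃ m₀ : ℤ, ∀ m : ℤ, m₀ ≤ m → ∀ q : ℕ, 1 ≤ q →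
      Subsingleton (Coh.HH Y (CohB1.tensorMod F
        ((Scheme.Modules.pullback j).obj (Twist.twistProjSpace n B m))) q) := by
  have hpush := isCoh_push n B j F hF
  have : F.IsQuasicoherent := hF.1
  obtain ⟨m₀, h⟩ := Groth.Agent.Lib.Helper38.SerreVanishPn.serre_vanishing n B _ hpush
  refine ⟨m₀, fun m hm q hq => ?_⟩
  have hO : (Twist.twistProjSpace n B m).IsQuasicoherent := (FinCoh.isCoh_twist n B m).1
  have hpO : ((Scheme.Modules.pullback j).obj (Twist.twistProjSpace n B m)).IsQuasicoherent :=
    Groth.Agent.Lib.Helper16.FlatPull.isQuasicoherent_pullback j _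
  have hG : (CohB1.tensorMod F
      ((Scheme.Modules.pullback j).obj (Twist.twistProjSpace n B m))).IsQuasicoherent :=
    (Groth.Agent.Lib.Helper11.TildeTensor.isQuasicoherent_tensorMod F _).1
  obtain ⟨e⟩ := Groth.Agent.S0012.result j (CohB1.tensorMod F
    ((Scheme.Modules.pullback j).obj (Twist.twistProjSpace n B m))) q
  have h1 := h m hm q hq
  have h2 : Subsingleton (Coh.HH (CohB1.ProjSpace n B) ((Coh.push j).obj (CohB1.tensorMod F
      ((Scheme.Modules.pullback j).obj (Twist.twistProjSpace n B m)))) q) :=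
    Groth.Agent.Lib.Helper38.SerreVanishPn.subsingleton_HH_of_iso B
      (asIso (Groth.Agent.Lib.Helper5.ProjFormula.projMap j F
        (Twist.twistProjSpace n B m))).symm q h1
  exact e.toEquiv.subsingleton

end Groth.Agent.Lib.Helper83.SerreClosed
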