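import Groth.Agent.Lib.Helper83.AmpleEmbed
import Groth.Agent.Lib.Helper83.SerreClosed
import Groth.Agent.Lib.Helper17.TwistTensor

/-!
# Serre finiteness and vanishing for an ample module on a proper scheme over a Noetherian ring
(helper83)

For `B` Noetherian, `Y` proper over `Spec B`, `L` ample on `Y` and `F` coherent:
* `finite_HH_of_isAmple`: `H^p(Y, F)` is a finite `B`-module;
* `serre_vanishing_of_isAmple`: `H^q(Y, F ⊗ L^m) = 0` for `q > 0`, `m ≫ 0`;
* `finite_and_vanishing`: both together (the form requested by helper38 for `S0002`).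
-/

set_option autoImplicit false
set_option linter.unusedSectionVars false
set_option linter.style.haveILetI false
universe u
open CategoryTheory CategoryTheory.Limits TopologicalSpace Opposite AlgebraicGeometry

namespace Groth.Agent.Lib.Helper83.AmpleSerre

open Groth.Agent.Lib.Helper11 Groth.Agent.Lib.Helper11.GenLocus Groth.Agent.Lib.Helper17
  Groth.Agent.Lib.Helper83.AmpleEmbed Groth.Agent.Lib.Helper83.SerreClosed
  Groth.Agent.Lib.Helper38.SerreVanishPn

/-- `r^* O(k) ≅ (r^* O(1))^{⊗ k}` for a morphism `r` to `P^N_B`. -/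
theorem nonempty_pullback_twist_iso {B : Type u} [CommRing B] {Y : Scheme.{u}} (N : ℕ)
    (r : Y ⟶ CohB1.ProjSpace N B) (k : ℕ) :
    Nonempty ((Scheme.Modules.pullback r).obj (Twist.twistProjSpace N B (k : ℤ)) ≅
      CohB1.tensorPow ((Scheme.Modules.pullback r).obj (Twist.twistProjSpace N B 1)) k) := by
  obtain ⟨e⟩ := TwistTensor.nonempty_twist_iso_tensorPow (CohB1.polyGrading N B)
    (FinCoh.iSup_basicOpen_deg_one N B) k
  have h1 : PicF.IsInvertible (Twist.twist (CohB1.polyGrading N B) 1) :=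
    TwistTensor.isInvertible_twist (CohB1.polyGrading N B) (FinCoh.iSup_basicOpen_deg_one N B) 1
  exact ⟨(Scheme.Modules.pullback r).mapIso e ≪≫ PullbackTensor.pullbackTensorPowIso r h1 k⟩

variable (B : Type u) [CommRing B] [IsNoetherianRing B] (Y : Scheme.{u})
  [Y.Over (Spec (CommRingCat.of B))] [IsProper (Y ↘ Spec (CommRingCat.of B))]
  (L : Y.Modules) (hL : CohB1.IsAmple L) (F : Y.Modules) (hF : Coh.IsCoh F)

include B hL hF in
/-- **Finiteness of cohomology** of a coherent module on a scheme proper over a Noetherian ring and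
carrying an ample invertible module. -/
theorem finite_HH_of_isAmple (p : ℕ) : Module.Finite B (Coh.HH Y F p) := by
  obtain ⟨d, N, r, hr, hrf, -⟩ :=
    exists_closedImmersion_of_isAmple (Y ↘ Spec (CommRingCat.of B)) L hL
  have : r.IsOver (Spec (CommRingCat.of B)) := ⟨hrf⟩
  exact finite_HH_of_closedImmersion N B r F hF p

theorem isCoh_tensorMod_tensorPow {Y : Scheme.{u}} {L : Y.Modules} (hL : PicF.IsInvertible L)
    {F : Y.Modules} (hF : Coh.IsCoh F) (m : ℕ) :
    Coh.IsCoh (CohB1.tensorMod F (CohB1.tensorPow L m)) := by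
  have : F.IsQuasicoherent := hF.1
  exact ⟨isQuasicoherent_tensorMod_of_isInvertible F _ (isInvertible_tensorPow hL m),
    isFiniteType_tensorMod_of_isInvertible F _ hF.2 (isInvertible_tensorPow hL m)⟩

include B hL hF in
/-- **Serre vanishing for an ample module**: `H^q(Y, F ⊗ L^m) = 0` for all `q > 0` and `m ≫ 0`. -/
theorem serre_vanishing_of_isAmple :
    ∃ m₀ : ℕ, ∀ m : ℕ, m₀ ≤ m → ∀ q : ℕ, 0 < q →
      Subsingleton (Coh.HH Y (CohB1.tensorMod F (CohB1.tensorPow L m)) q) := by
  classical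
  obtain ⟨d, N, r, hr, hrf, ⟨τ⟩⟩ :=
    exists_closedImmersion_of_isAmple (Y ↘ Spec (CommRingCat.of B)) L hL
  have hLinv : PicF.IsInvertible L := hL.1
  -- vanishing along multiples of `d`
  have key : ∀ G : Y.Modules, Coh.IsCoh G → ∃ k₀ : ℕ, ∀ k : ℕ, k₀ ≤ k → ∀ q : ℕ, 0 < q →
      Subsingleton (Coh.HH Y (CohB1.tensorMod G (CohB1.tensorPow L (d * k))) q) := by
    intro G hG
    obtain ⟨m₀, h⟩ := serre_vanishing_of_closedImmersion N B r G hG
    refine ⟨m₀.toNat, fun k hk q hq => ?_⟩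
    have h1 := h (k : ℤ) (by omega) q hq
    obtain ⟨e⟩ := nonempty_pullback_twist_iso N r k
    exact subsingleton_HH_of_iso B (tensorModCongr (Iso.refl G)
      ((tensorPowMul L d k).symm ≪≫ (tensorPowCongr τ k).symm ≪≫ e.symm)) q h1
  rcases Nat.eq_zero_or_pos d with rfl | hd
  · refine ⟨0, fun m _ q hq => ?_⟩
    obtain ⟨k₀, hk⟩ := key _ (isCoh_tensorMod_tensorPow hLinv hF m)
    have h1 := hk k₀ le_rfl q hq
    have h0 : 0 * k₀ = 0 := Nat.zero_mul k₀
    rw [h0] at h1
    exact subsingleton_HH_of_iso B (tensorUnitIso _).symm q h1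
  · choose k₀ hk₀ using fun ρ : Fin d => key _ (isCoh_tensorMod_tensorPow hLinv hF (ρ : ℕ))
    refine ⟨d * Finset.univ.sup k₀, fun m hm q hq => ?_⟩
    have hρ : m % d < d := Nat.mod_lt _ hd
    have hK : Finset.univ.sup k₀ ≤ m / d := (Nat.le_div_iff_mul_le hd).mpr (by rwa [mul_comm])
    have h1 := hk₀ ⟨m % d, hρ⟩ (m / d)
      ((Finset.le_sup (f := k₀) (Finset.mem_univ _)).trans hK) q hq
    have hm' : m % d + d * (m / d) = m := Nat.mod_add_div m d
    refine subsingleton_HH_of_iso B (tensorModCongr (Iso.refl F)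
      (eqToIso (by rw [hm']) ≪≫ tensorPowAdd L (m % d) (d * (m / d))) ≪≫
      (tensorModAssoc _ _ _).symm) q h1

include B hL hF in
/-- Finiteness and Serre vanishing together. -/
theorem finite_and_vanishing :
    (∀ p : ℕ, Module.Finite B (Coh.HH Y F p)) ∧
    ∃ m₀ : ℕ, ∀ m : ℕ, m₀ ≤ m → ∀ q : ℕ, 0 < q →
      Subsingleton (Coh.HH Y (CohB1.tensorMod F (CohB1.tensorPow L m)) q) :=
  ⟨finite_HH_of_isAmple B Y L hL F hF, serre_vanishing_of_isAmple B Y L hL F hF⟩

end Groth.Agent.Lib.Helper83.AmpleSerre
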