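import Mathlib
import Groth.Prelude.Def_CohCx
import Groth.Agent.Lib.Helper83.TruncTower
import Groth.Agent.S0943

set_option autoImplicit false
universe w w' v u

namespace Groth.Agent.Lib.Helper83.AcyclicHD

open CategoryTheory Limits Pretriangulated Opposite DerivedCategory DerivedCategory.TStructure
open Groth.Agent.Lib.Helper83.TruncTower

section General

variable {A : Type (u + 1)} [Category.{u} A] [Abelian A] [HasDerivedCategory.{w} A]
  [HasExt.{w'} A]

/-- `S` is acyclic for all the cohomology objects of `K`. -/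
def Acyc (S : A) (K : DerivedCategory A) : Prop :=
  ∀ (p : ℕ) (q : ℤ), Subsingleton (Abelian.Ext.{w'} S ((homologyFunctor A q).obj K) (p + 1))

/-- post-composition on `Hom(S[0], -⟦j⟧)` -/
noncomputable abbrev post (S : A) {X Y : DerivedCategory A} (f : X ⟶ Y) (j : ℤ) :
    ((singleFunctor A 0).obj S ⟶ X⟦j⟧) → ((singleFunctor A 0).obj S ⟶ Y⟦j⟧) :=
  fun φ => φ ≫ f⟦j⟧'

omit [HasExt.{w'} A] in
lemma post_comp (S : A) {X Y Z : DerivedCategory A} (f : X ⟶ Y) (g : Y ⟶ Z) (j : ℤ) :
    post S (f ≫ g) j = post S g j ∘ post S f j := by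
  funext φ
  change φ ≫ (f ≫ g)⟦j⟧' = (φ ≫ f⟦j⟧') ≫ g⟦j⟧'
  rw [Functor.map_comp, Category.assoc]

omit [HasExt.{w'} A] in
lemma post_id (S : A) (X : DerivedCategory A) (j : ℤ) : post S (𝟙 X) j = id := by
  funext φ
  change φ ≫ (𝟙 X)⟦j⟧' = φ
  rw [CategoryTheory.Functor.map_id, Category.comp_id]

lemma step_bijective (S : A) (K : DerivedCategory A) (h : Acyc.{w, w'} S K) (a b j : ℤ)
    (hab : a + 1 = b) (hbj : b ≤ j) :
    Function.Bijective (post S ((t.natTransTruncGEOfLE a b (by omega)).app K) j) := by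
  constructor
  · intro φ₁ φ₂ h12
    have h0 : φ₁ - φ₂ = 0 := by
      apply trans_injective S K a b j hab
      · intro k hk
        obtain ⟨p, rfl⟩ : ∃ p : ℕ, k = p + 1 := ⟨k - 1, by omega⟩
        exact h p a
      · rw [Preadditive.sub_comp]
        exact sub_eq_zero.2 h12
    exact sub_eq_zero.1 h0
  · intro ψ
    apply trans_surjective S K a b j hab
    intro k hk
    obtain ⟨p, rfl⟩ : ∃ p : ℕ, k = p + 1 := ⟨k - 1, by omega⟩
    exact h p a

lemma range_bijective (S : A) (K : DerivedCategory A) (h : Acyc.{w, w'} S K) (d : ℕ) :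
    ∀ (a b j : ℤ) (hab : a + d = b) (_ : b ≤ j),
    Function.Bijective (post S ((t.natTransTruncGEOfLE a b (by omega)).app K) j) := by
  induction d with
  | zero =>
    intro a b j hab hbj
    obtain rfl : a = b := by simpa using hab
    rw [t.natTransTruncGEOfLE_refl_app, post_id]
    exact Function.bijective_id
  | succ d ih =>
    intro a b j hab hbj
    have h1 := step_bijective S K h a (a + 1) j rfl (by push_cast at hab; omega)
    have h2 := ih (a + 1) b j (by push_cast at hab; omega) hbj
    rw [← t.natTransTruncGEOfLE_trans_app a (a + 1) b (by omega) (by push_cast at hab; omega),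
      post_comp]
    exact h2.comp h1

end General

end Groth.Agent.Lib.Helper83.AcyclicHD
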