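import Mathlib
import Groth.Prelude.Def_CohCx
import Groth.Agent.Lib.Helper83.TruncTower
import Groth.Agent.Lib.Helper83.AcyclicHD0
import Groth.Agent.S0943

set_option autoImplicit false
universe w w' v u

namespace Groth.Agent.Lib.Helper83.AcyclicHD

open CategoryTheory Limits Pretriangulated Opposite DerivedCategory DerivedCategory.TStructure
open Groth.Agent.Lib.Helper83.TruncTower

section General

variable {A : Type (u + 1)} [Category.{u} A] [Abelian A] [HasDerivedCategory.{w} A]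
  [HasExt.{w'} A]

/-- the map `τ≥-n' K ⟶ τ≥-n K` for `n ≤ n'` -/
noncomputable abbrev τ (K : DerivedCategory A) (n' n : ℕ) (h : n ≤ n') :
    CohCx.truncTower K n' ⟶ CohCx.truncTower K n :=
  (t.natTransTruncGEOfLE (-(n' : ℤ)) (-(n : ℤ)) (by omega)).app K

omit [HasExt.{w'} A] in
lemma τ_refl (K : DerivedCategory A) (n : ℕ) : τ K n n le_rfl = 𝟙 _ :=
  t.natTransTruncGEOfLE_refl_app _ K

omit [HasExt.{w'} A] in
lemma τ_trans (K : DerivedCategory A) (n'' n' n : ℕ) (h' : n' ≤ n'') (h : n ≤ n') :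
    τ K n'' n' h' ≫ τ K n' n h = τ K n'' n (h.trans h') :=
  t.natTransTruncGEOfLE_trans_app _ _ _ _ _ K

omit [HasExt.{w'} A] in
lemma p_τ (K : DerivedCategory A) (n' n : ℕ) (h : n ≤ n') :
    CohCx.toTruncTower K n' ≫ τ K n' n h = CohCx.toTruncTower K n :=
  t.π_natTransTruncGEOfLE_app _ _ _ K

lemma τ_bijective (S : A) (K : DerivedCategory A) (h : Acyc.{w, w'} S K) (q : ℤ) (n' n : ℕ)
    (hn : n ≤ n') (hq : -(n : ℤ) ≤ q) : Function.Bijective (post S (τ K n' n hn) q) :=
  range_bijective S K h (n' - n) (-(n' : ℤ)) (-(n : ℤ)) q (by push_cast [hn]; omega) hq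

lemma toTrunc_bijective (S : A) (K : DerivedCategory A) [HasProduct (CohCx.truncTower K)]
    (hR : CohCx.IsRlimVia (CohCx.truncTower K) (CohCx.truncTowerMap K) K (CohCx.toTruncTower K))
    (h : Acyc.{w, w'} S K) (q : ℤ) (N : ℕ) (hN : -(N : ℤ) ≤ q) :
    Function.Bijective (post S (CohCx.toTruncTower K N) q) := by
  have hmil := Groth.Agent.S0943.milnor ((singleFunctor A 0).obj S) (CohCx.truncTower K)
    (CohCx.truncTowerMap K) K (CohCx.toTruncTower K) hR q
  constructor
  · intro φ₁ φ₂ h12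
    have hy : (φ₁ - φ₂) ≫ (CohCx.toTruncTower K N)⟦q⟧' = 0 := by
      rw [Preadditive.sub_comp]; exact sub_eq_zero.2 h12
    have hall : ∀ n, (φ₁ - φ₂) ≫ (CohCx.toTruncTower K n)⟦q⟧' = 0 := by
      intro n
      by_cases hn : n ≤ N
      · rw [← p_τ K N n hn, Functor.map_comp, ← Category.assoc, hy, zero_comp]
      · have hn' : N ≤ n := Nat.le_of_not_le hn
        apply (τ_bijective S K h q n N hn' hN).1
        change ((φ₁ - φ₂) ≫ (CohCx.toTruncTower K n)⟦q⟧') ≫ (τ K n N hn')⟦q⟧' =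
          0 ≫ (τ K n N hn')⟦q⟧'
        rw [Category.assoc, ← Functor.map_comp, p_τ, hy, zero_comp]
    have hlim : CohCx.LimOneIsZero
        (fun n => (singleFunctor A 0).obj S ⟶ (CohCx.truncTower K n)⟦q - 1⟧)
        (fun n => Preadditive.rightComp _ ((CohCx.truncTowerMap K n)⟦q - 1⟧')) := by
      apply limOneIsZero_of_eventually_surjective N
      intro n hn ψ
      obtain ⟨φ, hφ⟩ := trans_surjective S K (-((n + 1 : ℕ) : ℤ)) (-(n : ℤ)) (q - 1)
        (by push_cast; omega) (fun k hk => by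
          obtain ⟨p, rfl⟩ : ∃ p : ℕ, k = p + 1 := ⟨k - 1, by push_cast at hk; omega⟩
          exact h p _) ψ
      exact ⟨φ, hφ⟩
    exact sub_eq_zero.1 (hmil.2 hlim _ hall)
  · intro x
    classical
    let xs : ∀ n, (singleFunctor A 0).obj S ⟶ (CohCx.truncTower K n)⟦q⟧ := fun n =>
      if hn : n ≤ N then x ≫ (τ K N n hn)⟦q⟧'
      else ((τ_bijective S K h q n N (Nat.le_of_not_le hn) hN).2 x).choose
    have hxs : ∀ n (hn : N ≤ n), xs n ≫ (τ K n N hn)⟦q⟧' = x := by
      intro n hn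
      by_cases hn' : n ≤ N
      · obtain rfl : n = N := le_antisymm hn' hn
        simp only [xs, dif_pos hn']
        rw [Category.assoc, ← Functor.map_comp, τ_trans, τ_refl, CategoryTheory.Functor.map_id,
          Category.comp_id]
      · simp only [xs, dif_neg hn']
        exact ((τ_bijective S K h q n N (Nat.le_of_not_le hn') hN).2 x).choose_spec
    have hcompat : ∀ n, xs (n + 1) ≫ (CohCx.truncTowerMap K n)⟦q⟧' = xs n := by
      intro n
      by_cases hn : n + 1 ≤ N
      · have hn' : n ≤ N := by omega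
        simp only [xs, dif_pos hn, dif_pos hn']
        rw [Category.assoc, ← Functor.map_comp]
        congr 2
        exact τ_trans K N (n + 1) n hn (Nat.le_succ n)
      · have hn' : N ≤ n := by omega
        apply (τ_bijective S K h q n N hn' hN).1
        change (xs (n + 1) ≫ (τ K (n + 1) n (Nat.le_succ n))⟦q⟧') ≫ (τ K n N hn')⟦q⟧' =
          xs n ≫ (τ K n N hn')⟦q⟧'
        rw [Category.assoc, ← Functor.map_comp, τ_trans, hxs n hn', hxs (n + 1) (by omega)]
    obtain ⟨y, hy⟩ := hmil.1 xs hcompat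
    refine ⟨y, ?_⟩
    change y ≫ (CohCx.toTruncTower K N)⟦q⟧' = x
    rw [hy N]
    have := hxs N le_rfl
    rwa [τ_refl, CategoryTheory.Functor.map_id, Category.comp_id] at this

end General

end Groth.Agent.Lib.Helper83.AcyclicHD
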