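import Mathlib
import Groth.Prelude.Def_CohCx
import Groth.Agent.Lib.Helper83.TruncTower
import Groth.Agent.Lib.Helper83.AcyclicHD0
import Groth.Agent.Lib.Helper83.AcyclicHD1
import Groth.Agent.Lib.Helper83.H0Bij
import Groth.Agent.S0943

set_option autoImplicit false
universe w w' v u

namespace Groth.Agent.Lib.Helper83.AcyclicHD

open CategoryTheory Limits Pretriangulated Opposite DerivedCategory DerivedCategory.TStructure
open Groth.Agent.Lib.Helper83.TruncTower Groth.Agent.Lib.Helper83.SingleHom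

section General

variable {A : Type (u + 1)} [Category.{u} A] [Abelian A] [HasDerivedCategory.{w} A]
  [HasExt.{w'} A]

lemma toTruncGE_bijective (S : A) (K : DerivedCategory A) [HasProduct (CohCx.truncTower K)]
    (hR : CohCx.IsRlimVia (CohCx.truncTower K) (CohCx.truncTowerMap K) K (CohCx.toTruncTower K))
    (h : Acyc.{w, w'} S K) (q : ℤ) :
    Function.Bijective (post S ((t.truncGEπ q).app K) q) := by
  have h1 := toTrunc_bijective S K hR h q (-q).toNat (by omega)
  have h2 := range_bijective S K h (q + ((-q).toNat : ℤ)).toNat (-(((-q).toNat : ℕ) : ℤ)) q q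
    (by omega) le_rfl
  have h3 : (t.truncGEπ q).app K = CohCx.toTruncTower K (-q).toNat ≫
      (t.natTransTruncGEOfLE (-(((-q).toNat : ℕ) : ℤ)) q (by omega)).app K :=
    (t.π_natTransTruncGEOfLE_app _ _ _ K).symm
  rw [h3, post_comp]
  exact h2.comp h1

lemma h0_bijective_of_acyc [EnoughInjectives A] (S : A) (K : DerivedCategory A)
    [HasProduct (CohCx.truncTower K)]
    (hR : CohCx.IsRlimVia (CohCx.truncTower K) (CohCx.truncTowerMap K) K (CohCx.toTruncTower K))
    (h : Acyc.{w, w'} S K) (q : ℤ) :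
    Function.Bijective
      (h0 : ((singleFunctor A 0).obj S ⟶ K⟦q⟧) → (S ⟶ (homologyFunctor A 0).obj (K⟦q⟧))) := by
  let f := (t.truncGEπ q).app K
  have hM : (((t.truncGE q).obj K)⟦q⟧).IsGE 0 := t.isGE_shift _ q q 0 (by omega)
  have hpost := toTruncGE_bijective S K hR h q
  have hb := Groth.Agent.Lib.Helper83.H0Bij.h0_bijective (((t.truncGE q).obj K)⟦q⟧) S
  have hiso : IsIso ((homologyFunctor A 0).map (f⟦q⟧')) := by
    have h1 : IsIso ((homologyFunctor A q).map f) :=
      Groth.Agent.Lib.Helper58.isIso_homology_truncGEπ K q q le_rfl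
    exact (NatIso.isIso_map_iff ((homologyFunctor A 0).shiftIso q 0 q (by simp)) f).2 h1
  constructor
  · intro φ₁ φ₂ h12
    apply hpost.1
    apply hb.1
    change h0 (φ₁ ≫ f⟦q⟧') = h0 (φ₂ ≫ f⟦q⟧')
    rw [h0_postcomp, h0_postcomp, h12]
  · intro ψ
    obtain ⟨φ', hφ'⟩ := hb.2 (ψ ≫ (homologyFunctor A 0).map (f⟦q⟧'))
    obtain ⟨φ, hφ⟩ := hpost.2 φ'
    refine ⟨φ, ?_⟩
    have h1 : h0 φ ≫ (homologyFunctor A 0).map (f⟦q⟧') =
        ψ ≫ (homologyFunctor A 0).map (f⟦q⟧') := by
      rw [← h0_postcomp, ← hφ']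
      exact congrArg h0 hφ
    exact (cancel_mono _).1 h1

end General

end Groth.Agent.Lib.Helper83.AcyclicHD
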