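import Mathlib
import Groth.Prelude.Def_CohCx
import Groth.Agent.Lib.Helper83.TruncTower
import Groth.Agent.S0880

/-!
# `E` is the derived limit of its truncations under local bounded vanishing (site version; helper83)
-/

set_option autoImplicit false
universe u

namespace Groth.Agent.Lib.Helper83.TruncTowerSite

open CategoryTheory Limits Opposite DerivedCategory
open Groth.Agent.Lib.Helper83.TruncTower

lemma bijective_of_comp {α β γ : Type*} (f : α → β) (g : β → γ) (h : Function.Bijective (g ∘ f))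
    (hg : Function.Injective g) : Function.Bijective f := by
  refine ⟨fun x y hxy => h.1 (congrArg g hxy), fun y => ?_⟩
  obtain ⟨x, hx⟩ := h.2 (g y)
  exact ⟨x, hg hx⟩

lemma bijective_app_of_isIso {C : Type u} [SmallCategory C] {J : GrothendieckTopology C}
    {F G : Sheaf J AddCommGrpCat.{u}} (φ : F ⟶ G) [IsIso φ] (V : C) :
    Function.Bijective (φ.hom.app (op V)) := by
  rw [Function.bijective_iff_has_inverse]
  refine ⟨(inv φ).hom.app (op V), fun x => ?_, fun x => ?_⟩
  · exact congrArg (fun ψ : F ⟶ F => ψ.hom.app (op V) x) (IsIso.hom_inv_id φ)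
  · exact congrArg (fun ψ : G ⟶ G => ψ.hom.app (op V) x) (IsIso.inv_hom_id φ)

theorem isRlimVia_truncTower_site {C : Type u} [SmallCategory C]
    {J : GrothendieckTopology C} [HasDerivedCategory.{u} (Sheaf J AddCommGrpCat.{u})]
    (E : DerivedCategory (Sheaf J AddCommGrpCat.{u})) [HasProduct (CohCx.truncTower E)] (B : Set C)
    (hB : ∀ U : C, ∃ (ι : Type u) (Y : ι → C) (f : ∀ i, Y i ⟶ U),
      Sieve.ofArrows Y f ∈ J U ∧ ∀ i, Y i ∈ B)
    (h : ∀ V ∈ B, ∀ m : ℤ, ∃ N : ℕ, -(N : ℤ) ≤ m ∧ ∀ T ∈ J V,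
      ∃ (ι : Type u) (Y : ι → C) (f : ∀ i, Y i ⟶ V),
      (∀ i, T.arrows (f i)) ∧ Sieve.ofArrows Y f ∈ J V ∧
      ∀ (i : ι) (n : ℕ), N ≤ n → ∀ k : ℕ, (k : ℤ) = m + n + 1 →
        Subsingleton (CohSite.HU (CohCx.HD E (m - k)) k (Y i))) :
    CohCx.IsRlimVia (CohCx.truncTower E) (CohCx.truncTowerMap E) E (CohCx.toTruncTower E) := by
  apply isRlimVia_truncTower E
  intro L a hL u hu m
  apply isIso_of_bijective_on_cover _ B hB
  intro V hV
  obtain ⟨N, hNm, hN⟩ := h V hV m
  have hinj : Function.Injective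
      (((DerivedCategory.homologyFunctor _ m).map (a N)).hom.app (op V)) := by
    apply Groth.Agent.S0880.result (CohCx.truncTower E) (CohCx.truncTowerMap E) L a hL V m N
    intro T hT
    obtain ⟨ι, Y, f, hfT, hcov, hvan⟩ := hN T hT
    exact ⟨ι, Y, f, hfT, hcov, fun i => tower_hyps (CohCx.freeSheaf J (Y i)) E m N (hvan i)⟩
  have hcomp : (DerivedCategory.homologyFunctor _ m).map u ≫
      (DerivedCategory.homologyFunctor _ m).map (a N) =
      (DerivedCategory.homologyFunctor _ m).map (CohCx.toTruncTower E N) := by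
    rw [← Functor.map_comp, hu]
  have hiso : IsIso ((DerivedCategory.homologyFunctor (Sheaf J AddCommGrpCat.{u}) m).map
      (CohCx.toTruncTower E N)) := isIso_homology_toTruncTower E N m hNm
  have hbij := bijective_app_of_isIso ((DerivedCategory.homologyFunctor
      (Sheaf J AddCommGrpCat.{u}) m).map (CohCx.toTruncTower E N)) V
  rw [← hcomp] at hbij
  exact bijective_of_comp _ _ hbij hinj

end Groth.Agent.Lib.Helper83.TruncTowerSite
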