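import Mathlib
import Groth.Prelude.Def_CohCx
import Groth.Agent.Lib.Helper83.TruncTowerSite
import Groth.Agent.Lib.Helper83.AcyclicHD2
import Groth.Agent.Lib.Helper83.SheafHD
import Groth.Agent.Lib.Helper32.DProdGen

set_option autoImplicit false
universe u

namespace Groth.Agent.Lib.Helper83.AcyclicSite

open CategoryTheory Limits Pretriangulated Opposite DerivedCategory DerivedCategory.TStructure
open Groth.Agent.Lib.Helper83.TruncTower Groth.Agent.Lib.Helper83.SingleHom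
open Groth.Agent.Lib.Helper83.AcyclicHD Groth.Agent.Lib.Helper83.TruncTowerSite
open Groth.Agent.Lib.Helper5.SiteCoh

variable {C : Type u} [SmallCategory C] {J : GrothendieckTopology C}

lemma exists_refinement (B : Set C)
    (hB : ∀ U : C, ∃ (ι : Type u) (Y : ι → C) (f : ∀ i, Y i ⟶ U),
      Sieve.ofArrows Y f ∈ J U ∧ ∀ i, Y i ∈ B) (V : C) (T : Sieve V) (hT : T ∈ J V) :
    ∃ (ι : Type u) (Y : ι → C) (f : ∀ i, Y i ⟶ V),
      (∀ i, T.arrows (f i)) ∧ Sieve.ofArrows Y f ∈ J V ∧ ∀ i, Y i ∈ B := by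
  choose ιW YW fW hcov hYB using hB
  refine ⟨Σ (W : C) (_ : {g : W ⟶ V // T.arrows g}), ιW W, fun x => YW x.1 x.2.2,
    fun x => fW x.1 x.2.2 ≫ x.2.1.1, fun x => T.downward_closed x.2.1.2 _, ?_, fun x => hYB _ _⟩
  refine J.transitive hT _ (fun W g hg => ?_)
  refine J.superset_covering ?_ (hcov W)
  rintro Z a ⟨Z', b, c, hc, rfl⟩
  cases hc with | mk i =>
  change (Sieve.ofArrows _ _).arrows ((b ≫ fW W i) ≫ g)
  rw [Category.assoc]
  exact ⟨_, b, _, ⟨(⟨W, ⟨g, hg⟩, i⟩ : Σ (W : C) (_ : {g : W ⟶ V // T.arrows g}), ιW W)⟩, rfl⟩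

variable [HasDerivedCategory.{u} (Sheaf J AddCommGrpCat.{u})]

lemma hasProduct_derived (K : ℕ → DerivedCategory (Sheaf J AddCommGrpCat.{u})) : HasProduct K :=
  Groth.Agent.Lib.Helper32.DProdGen.hasProduct_of_kInjective_reps K (fun n => by
    obtain ⟨L, hL, ⟨e⟩⟩ := Groth.Agent.Lib.Helper83.SheafHD.exists_kInjective (K n)
    exact ⟨L, hL, ⟨e.symm⟩⟩)

lemma isRlimVia_of_acyc (K : DerivedCategory (Sheaf J AddCommGrpCat.{u}))
    [HasProduct (CohCx.truncTower K)] (B : Set C)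
    (hB : ∀ U : C, ∃ (ι : Type u) (Y : ι → C) (f : ∀ i, Y i ⟶ U),
      Sieve.ofArrows Y f ∈ J U ∧ ∀ i, Y i ∈ B)
    (hAc : ∀ V ∈ B, ∀ (p : ℕ) (q : ℤ), Subsingleton (CohSite.HU (CohCx.HD K q) (p + 1) V)) :
    CohCx.IsRlimVia (CohCx.truncTower K) (CohCx.truncTowerMap K) K (CohCx.toTruncTower K) := by
  apply isRlimVia_truncTower_site K B hB
  intro V hV m
  refine ⟨(-m).toNat, by omega, fun T hT => ?_⟩
  obtain ⟨ι, Y, f, hfT, hcov, hYB⟩ := exists_refinement B hB V T hT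
  refine ⟨ι, Y, f, hfT, hcov, fun i n hn k hk => ?_⟩
  obtain ⟨p, rfl⟩ : ∃ p : ℕ, k = p + 1 := ⟨k - 1, by omega⟩
  exact hAc (Y i) (hYB i) p _

theorem h0_bijective_site (K : DerivedCategory (Sheaf J AddCommGrpCat.{u})) (B : Set C)
    (hB : ∀ U : C, ∃ (ι : Type u) (Y : ι → C) (f : ∀ i, Y i ⟶ U),
      Sieve.ofArrows Y f ∈ J U ∧ ∀ i, Y i ∈ B)
    (hAc : ∀ V ∈ B, ∀ (p : ℕ) (q : ℤ), Subsingleton (CohSite.HU (CohCx.HD K q) (p + 1) V))
    (U : C) (hU : U ∈ B) (q : ℤ) :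
    Function.Bijective (h0 : ((singleFunctor (Sheaf J AddCommGrpCat.{u}) 0).obj (freeSheaf J U) ⟶
      K⟦q⟧) → (freeSheaf J U ⟶ (homologyFunctor _ 0).obj (K⟦q⟧))) := by
  have := hasProduct_derived (CohCx.truncTower K)
  have hR := isRlimVia_of_acyc K B hB hAc
  exact h0_bijective_of_acyc (freeSheaf J U) K hR (fun p q => hAc U hU p q) q

theorem hdu_equiv (K : DerivedCategory (Sheaf J AddCommGrpCat.{u})) (B : Set C)
    (hB : ∀ U : C, ∃ (ι : Type u) (Y : ι → C) (f : ∀ i, Y i ⟶ U),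
      Sieve.ofArrows Y f ∈ J U ∧ ∀ i, Y i ∈ B)
    (hAc : ∀ V ∈ B, ∀ (p : ℕ) (q : ℤ), Subsingleton (CohSite.HU (CohCx.HD K q) (p + 1) V))
    (U : C) (hU : U ∈ B) (q : ℤ) :
    Nonempty (CohCx.HDU K q U ≃+ (CohCx.HD K q).obj.obj (op U)) := by
  have hbij := h0_bijective_site K B hB hAc U hU q
  let e1 : ((singleFunctor (Sheaf J AddCommGrpCat.{u}) 0).obj (freeSheaf J U) ⟶ K⟦q⟧) ≃+
      (freeSheaf J U ⟶ (homologyFunctor _ 0).obj (K⟦q⟧)) :=
    AddEquiv.ofBijective (h0Add (freeSheaf J U) (K⟦q⟧)) hbij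
  let e2 := βAdd U ((homologyFunctor (Sheaf J AddCommGrpCat.{u}) 0).obj (K⟦q⟧))
  let σ := ((homologyFunctor (Sheaf J AddCommGrpCat.{u}) 0).shiftIso q 0 q (by simp)).app K
  let e3 : ((homologyFunctor (Sheaf J AddCommGrpCat.{u}) 0).obj (K⟦q⟧)).obj.obj (op U) ≃+
      (CohCx.HD K q).obj.obj (op U) :=
    (((sheafSections J AddCommGrpCat.{u}).obj (op U)).mapIso σ).addCommGroupIsoToAddEquiv
  exact ⟨(e1.trans e2).trans e3⟩

end Groth.Agent.Lib.Helper83.AcyclicSite
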