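import Mathlib
import Groth.Prelude.Def_CohCx
import Groth.Agent.Lib.Helper83.AcyclicSite

set_option autoImplicit false
universe u

namespace Groth.Agent.Lib.Helper83.AcyclicLim

open CategoryTheory Limits Pretriangulated Opposite DerivedCategory DerivedCategory.TStructure
open Groth.Agent.Lib.Helper83.TruncTower Groth.Agent.Lib.Helper83.SingleHom
open Groth.Agent.Lib.Helper83.AcyclicHD Groth.Agent.Lib.Helper83.TruncTowerSite
open Groth.Agent.Lib.Helper83.AcyclicSite
open Groth.Agent.Lib.Helper5.SiteCoh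

lemma limOneIsZero_of_equiv (A A' : ℕ → Type u) [∀ n, AddCommGroup (A n)] [∀ n, AddCommGroup (A' n)]
    (s : ∀ n, A (n + 1) →+ A n) (s' : ∀ n, A' (n + 1) →+ A' n) (E : ∀ n, A n ≃+ A' n)
    (hE : ∀ n (x : A (n + 1)), E n (s n x) = s' n (E (n + 1) x))
    (h : CohCx.LimOneIsZero A' s') : CohCx.LimOneIsZero A s := by
  intro b
  obtain ⟨a', ha'⟩ := h (fun n => E n (b n))
  refine ⟨fun n => (E n).symm (a' n), ?_⟩
  funext n
  apply (E n).injective
  have := congrFun ha' n
  simp only at this
  rw [map_sub, hE, AddEquiv.apply_symm_apply, AddEquiv.apply_symm_apply]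
  exact this

variable {C : Type u} [SmallCategory C] {J : GrothendieckTopology C}

lemma locallyBijective_of_bijective_on_cover
    {P Q : Cᵒᵖ ⥤ AddCommGrpCat.{u}} (φ : P ⟶ Q) (B : Set C)
    (hB : ∀ U : C, ∃ (ι : Type u) (Y : ι → C) (f : ∀ i, Y i ⟶ U),
      Sieve.ofArrows Y f ∈ J U ∧ ∀ i, Y i ∈ B)
    (h : ∀ V ∈ B, Function.Bijective (φ.app (op V))) :
    Presheaf.IsLocallyInjective J φ ∧ Presheaf.IsLocallySurjective J φ := by
  constructor
  · constructor
    intro X x y hxy
    obtain ⟨ι, Y, f, hcov, hYB⟩ := hB X.unop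
    refine J.superset_covering ?_ hcov
    rintro Z g ⟨W, a, b, hb, rfl⟩
    cases hb with | mk i =>
    change P.map (a ≫ f i).op x = P.map (a ≫ f i).op y
    have h1 : P.map (f i).op x = P.map (f i).op y := by
      apply (h (Y i) (hYB i)).1
      have e1 : φ.app (op (Y i)) (P.map (f i).op x) = Q.map (f i).op (φ.app X x) :=
        (ConcreteCategory.congr_hom (φ.naturality (f i).op) x)
      have e2 : φ.app (op (Y i)) (P.map (f i).op y) = Q.map (f i).op (φ.app X y) :=
        (ConcreteCategory.congr_hom (φ.naturality (f i).op) y)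
      rw [e1, e2, hxy]
    rw [op_comp, Functor.map_comp]
    exact congrArg (P.map a.op) h1
  · constructor
    intro U s
    obtain ⟨ι, Y, f, hcov, hYB⟩ := hB U
    refine J.superset_covering ?_ hcov
    rintro Z g ⟨W, a, b, hb, rfl⟩
    cases hb with | mk i =>
    obtain ⟨t, ht⟩ := (h (Y i) (hYB i)).2 (Q.map (f i).op s)
    refine ⟨P.map a.op t, ?_⟩
    have e1 : φ.app (op Z) (P.map a.op t) = Q.map a.op (φ.app (op (Y i)) t) :=
      (ConcreteCategory.congr_hom (φ.naturality a.op) t)
    rw [e1, ht, op_comp, Functor.map_comp]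
    rfl

end Groth.Agent.Lib.Helper83.AcyclicLim
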