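import Mathlib
import Groth.Prelude.Def_CohCx
import Groth.Agent.Lib.Helper83.AcyclicLim0

/-!
# Quasi-isomorphisms of complexes of abelian sheaves detected on sections over a covering class (helper83)

`quasiIsoAt_of_sections`: a morphism `φ` of complexes of abelian sheaves such that
`H^m(φ(U))` is an isomorphism for all `U` in a class `B` of objects covering every object
is a quasi-isomorphism in degree `m`.
-/

set_option autoImplicit false
universe u

namespace Groth.Agent.Lib.Helper83.SectQis

open CategoryTheory Limits Opposite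
open Groth.Agent.Lib.Helper83.AcyclicLim

variable {C : Type u} [SmallCategory C] (J : GrothendieckTopology C)

/-- `a P ≅ 𝟭` on complexes of sheaves -/
noncomputable def counitCx :
    (sheafToPresheaf J AddCommGrpCat.{u}).mapHomologicalComplex (ComplexShape.up ℤ) ⋙
      (presheafToSheaf J AddCommGrpCat.{u}).mapHomologicalComplex (ComplexShape.up ℤ) ≅ 𝟭 _ :=
  Functor.mapHomologicalComplexCompIso
    (asIso (sheafificationAdjunction J AddCommGrpCat.{u}).counit) (ComplexShape.up ℤ) ≪≫
    Functor.mapHomologicalComplexIdIso _ _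

theorem quasiIsoAt_of_sections {K L : CochainComplex (Sheaf J AddCommGrpCat.{u}) ℤ} (φ : K ⟶ L)
    (m : ℤ) (B : Set C)
    (hB : ∀ U : C, ∃ (ι : Type u) (Y : ι → C) (f : ∀ i, Y i ⟶ U),
      Sieve.ofArrows Y f ∈ J U ∧ ∀ i, Y i ∈ B)
    (h : ∀ U ∈ B, QuasiIsoAt ((CohCx.sectCx J U).map φ) m) : QuasiIsoAt φ m := by
  let P := sheafToPresheaf J AddCommGrpCat.{u}
  let a := presheafToSheaf J AddCommGrpCat.{u}
  let Pφ := (P.mapHomologicalComplex (ComplexShape.up ℤ)).map φ
  let φsc := (HomologicalComplex.shortComplexFunctor _ (ComplexShape.up ℤ) m).map Pφ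
  let γ : ShortComplex.LeftHomologyMapData φsc (ShortComplex.leftHomologyData _)
    (ShortComplex.leftHomologyData _) := default
  -- bijectivity on `B`
  have h1 : ∀ U ∈ B, Function.Bijective (γ.φH.app (op U)) := by
    intro U hU
    have hq := h U hU
    rw [quasiIsoAt_iff] at hq
    have hq' : ShortComplex.QuasiIso
        (((evaluation Cᵒᵖ AddCommGrpCat.{u}).obj (op U)).mapShortComplex.map φsc) := hq
    rw [(γ.map ((evaluation Cᵒᵖ AddCommGrpCat.{u}).obj (op U))).quasiIso_iff,
      ShortComplex.LeftHomologyMapData.map_φH] at hq'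
    have hq'' : IsIso (γ.φH.app (op U)) := hq'
    exact ConcreteCategory.bijective_of_isIso _
  obtain ⟨hi, hs⟩ := locallyBijective_of_bijective_on_cover (J := J) γ.φH B hB h1
  have hW : J.W γ.φH := J.W_of_isLocallyBijective γ.φH
  rw [GrothendieckTopology.W_iff] at hW
  have h2 : ShortComplex.QuasiIso (a.mapShortComplex.map φsc) := by
    rw [(γ.map a).quasiIso_iff, ShortComplex.LeftHomologyMapData.map_φH]
    exact hW
  have h3 : QuasiIsoAt ((a.mapHomologicalComplex (ComplexShape.up ℤ)).map Pφ) m := by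
    rw [quasiIsoAt_iff]
    exact h2
  rw [quasiIsoAt_iff] at h3 ⊢
  refine (ShortComplex.quasiIso_iff_of_arrow_mk_iso _ _ ?_).1 h3
  exact (HomologicalComplex.shortComplexFunctor _ (ComplexShape.up ℤ) m).mapArrow.mapIso
    (Arrow.isoOfNatIso (counitCx J) (Arrow.mk φ))

end Groth.Agent.Lib.Helper83.SectQis
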