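import Groth.Prelude.Def_DerLim
import Mathlib.Algebra.Homology.ShortComplex.ShortExact
import Mathlib.CategoryTheory.Abelian.GrothendieckAxioms.Basic
import Mathlib.CategoryTheory.Functor.OfSequence

/-!
# The sequence `0 → ⨁ Fₙ → ⨁ Fₙ → colim F → 0` under AB5 for `ℕ`

For an abelian category `A` with exact colimits of shape `ℕ`, and a sequence `X n ⟶ X (n+1)`
with a coproduct, `1 - shift` is a monomorphism on `∐ X`, and its cokernel is the colimit.
-/

set_option autoImplicit false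

universe v u

open CategoryTheory CategoryTheory.Limits

namespace Groth.Agent.Lib.Helper83.AB5Seq

variable {A : Type u} [Category.{v} A] [Abelian A]

section Basic

variable (X : ℕ → A) [HasCoproduct X]

/-- The projection of an `ℕ`-indexed coproduct onto a summand. -/
noncomputable def pr (m : ℕ) : ∐ X ⟶ X m :=
  Sigma.desc (fun j => if h : j = m then eqToHom (congrArg X h) else 0)

lemma ι_pr_self (m : ℕ) : Sigma.ι X m ≫ pr X m = 𝟙 _ := by
  unfold pr
  rw [Sigma.ι_desc, dif_pos rfl, eqToHom_refl]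

lemma ι_pr_ne {j m : ℕ} (h : j ≠ m) : Sigma.ι X j ≫ pr X m = 0 := by
  unfold pr
  rw [Sigma.ι_desc, dif_neg h]

/-- The idempotent of `∐ X` which keeps the summands of index `≤ N`. -/
noncomputable def rho (N : ℕ) : ∐ X ⟶ ∐ X :=
  Sigma.desc (fun n => if n ≤ N then Sigma.ι X n else 0)

lemma ι_rho_le {n N : ℕ} (h : n ≤ N) : Sigma.ι X n ≫ rho X N = Sigma.ι X n := by
  unfold rho
  rw [Sigma.ι_desc, if_pos h]

lemma ι_rho_gt {n N : ℕ} (h : N < n) : Sigma.ι X n ≫ rho X N = 0 := by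
  unfold rho
  rw [Sigma.ι_desc, if_neg (Nat.not_le.mpr h)]

lemma rho_rho_le {N M : ℕ} (h : N ≤ M) : rho X N ≫ rho X M = rho X N := by
  apply Sigma.hom_ext
  intro n
  by_cases hn : n ≤ N
  · rw [← Category.assoc, ι_rho_le X hn, ι_rho_le X (hn.trans h)]
  · rw [← Category.assoc, ι_rho_gt X (Nat.lt_of_not_le hn), zero_comp]

lemma rho_zero : rho X 0 = pr X 0 ≫ Sigma.ι X 0 := by
  apply Sigma.hom_ext
  intro n
  by_cases hn : n = 0
  · subst hn
    rw [ι_rho_le X le_rfl, ← Category.assoc, ι_pr_self, Category.id_comp]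
  · rw [ι_rho_gt X (Nat.pos_of_ne_zero hn), ← Category.assoc, ι_pr_ne X hn, zero_comp]

lemma rho_succ (N : ℕ) : rho X (N + 1) = rho X N + pr X (N + 1) ≫ Sigma.ι X (N + 1) := by
  apply Sigma.hom_ext
  intro n
  rw [Preadditive.comp_add, ← Category.assoc (Sigma.ι X n) (pr X (N + 1))]
  rcases Nat.lt_trichotomy n (N + 1) with h | h | h
  · rw [ι_rho_le X (Nat.le_of_lt h), ι_rho_le X (Nat.lt_succ_iff.mp h), ι_pr_ne X (Nat.ne_of_lt h),
      zero_comp, add_zero]
  · subst h
    rw [ι_rho_le X le_rfl, ι_rho_gt X (Nat.lt_succ_self N), ι_pr_self, Category.id_comp, zero_add]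
  · rw [ι_rho_gt X h, ι_rho_gt X (Nat.lt_of_succ_lt h), ι_pr_ne X (Nat.ne_of_gt h), zero_comp,
      add_zero]

lemma comp_rho_eq_zero {T : A} (y : T ⟶ ∐ X) (hy : ∀ n, y ≫ pr X n = 0) (N : ℕ) :
    y ≫ rho X N = 0 := by
  induction N with
  | zero => rw [rho_zero, ← Category.assoc, hy, zero_comp]
  | succ N ih => rw [rho_succ, Preadditive.comp_add, ih, ← Category.assoc, hy, zero_comp, add_zero]

/-- The image of the idempotent `rho X N`, i.e. the "finite sum" `⨁_{n ≤ N} X n`. -/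
noncomputable def S (N : ℕ) : A := kernel (𝟙 (∐ X) - rho X N)

/-- The inclusion of `S X N` in `∐ X`. -/
noncomputable def a (N : ℕ) : S X N ⟶ ∐ X := kernel.ι _

instance (N : ℕ) : Mono (a X N) := inferInstanceAs (Mono (kernel.ι (𝟙 (∐ X) - rho X N)))

lemma a_rho (N : ℕ) : a X N ≫ rho X N = a X N := by
  have h : a X N ≫ (𝟙 (∐ X) - rho X N) = 0 := kernel.condition _
  rw [Preadditive.comp_sub, Category.comp_id] at h
  exact (sub_eq_zero.mp h).symm

lemma a_rho_le {N M : ℕ} (h : N ≤ M) : a X N ≫ rho X M = a X N := by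
  rw [← a_rho X N, Category.assoc, rho_rho_le X h]

/-- The projection of `∐ X` onto `S X N`. -/
noncomputable def p (N : ℕ) : ∐ X ⟶ S X N :=
  kernel.lift _ (rho X N) (by
    rw [Preadditive.comp_sub, Category.comp_id, rho_rho_le X le_rfl, sub_self])

lemma p_a (N : ℕ) : p X N ≫ a X N = rho X N := kernel.lift_ι _ _ _

/-- Lifting a morphism to `S X N`. -/
noncomputable def liftS {T : A} (N : ℕ) (y : T ⟶ ∐ X) (hy : y ≫ rho X N = y) : T ⟶ S X N :=
  kernel.lift _ y (by rw [Preadditive.comp_sub, Category.comp_id, hy, sub_self])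

lemma liftS_a {T : A} (N : ℕ) (y : T ⟶ ∐ X) (hy : y ≫ rho X N = y) :
    liftS X N y hy ≫ a X N = y := kernel.lift_ι _ _ _

/-- The transition morphisms `S X N ⟶ S X (N + 1)`. -/
noncomputable def tS (N : ℕ) : S X N ⟶ S X (N + 1) :=
  liftS X (N + 1) (a X N) (a_rho_le X (Nat.le_succ N))

lemma tS_a (N : ℕ) : tS X N ≫ a X (N + 1) = a X N := liftS_a X _ _ _

end Basic

section Shift

variable (X : ℕ → A) [HasCoproduct X] (t : ∀ n, X n ⟶ X (n + 1))

lemma ι_shiftMap (n : ℕ) :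
    Sigma.ι X n ≫ DerLim.shiftMap X t = t n ≫ Sigma.ι X (n + 1) := by
  unfold DerLim.shiftMap
  rw [Sigma.ι_desc]

/-- `1 - shift`. -/
noncomputable def d : ∐ X ⟶ ∐ X := 𝟙 (∐ X) - DerLim.shiftMap X t

lemma ι_d (n : ℕ) : Sigma.ι X n ≫ d X t = Sigma.ι X n - t n ≫ Sigma.ι X (n + 1) := by
  unfold d
  rw [Preadditive.comp_sub, Category.comp_id, ι_shiftMap]

lemma shiftMap_pr_zero : DerLim.shiftMap X t ≫ pr X 0 = 0 := by
  apply Sigma.hom_ext
  intro j
  rw [← Category.assoc, ι_shiftMap, Category.assoc, ι_pr_ne X (Nat.succ_ne_zero j), comp_zero,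
    comp_zero]

lemma shiftMap_pr_succ (m : ℕ) :
    DerLim.shiftMap X t ≫ pr X (m + 1) = pr X m ≫ t m := by
  apply Sigma.hom_ext
  intro j
  rw [← Category.assoc, ι_shiftMap, Category.assoc, ← Category.assoc (Sigma.ι X j)]
  by_cases h : j = m
  · subst h
    rw [ι_pr_self, ι_pr_self, Category.comp_id, Category.id_comp]
  · have h' : j + 1 ≠ m + 1 := fun h'' => h (Nat.succ_injective h'')
    rw [ι_pr_ne X h, ι_pr_ne X h', comp_zero, zero_comp]

lemma comp_pr_eq_zero_of_comp_d {T : A} (y : T ⟶ ∐ X) (hy : y ≫ d X t = 0) (n : ℕ) :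
    y ≫ pr X n = 0 := by
  have hy' : y = y ≫ DerLim.shiftMap X t := by
    unfold d at hy
    rw [Preadditive.comp_sub, Category.comp_id] at hy
    exact sub_eq_zero.mp hy
  induction n with
  | zero => rw [hy', Category.assoc, shiftMap_pr_zero, comp_zero]
  | succ m ih => rw [hy', Category.assoc, shiftMap_pr_succ, ← Category.assoc, ih, zero_comp]

lemma rho_d (N : ℕ) : rho X N ≫ d X t ≫ rho X (N + 1) = rho X N ≫ d X t := by
  apply Sigma.hom_ext
  intro n
  by_cases hn : n ≤ N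
  · have h1 : Sigma.ι X n ≫ rho X N ≫ d X t ≫ rho X (N + 1) =
        (Sigma.ι X n ≫ rho X N) ≫ d X t ≫ rho X (N + 1) := by rw [Category.assoc]
    have h2 : Sigma.ι X n ≫ rho X N ≫ d X t = (Sigma.ι X n ≫ rho X N) ≫ d X t := by
      rw [Category.assoc]
    rw [h1, h2, ι_rho_le X hn, ← Category.assoc, ι_d, Preadditive.sub_comp,
      Category.assoc, ι_rho_le X (hn.trans (Nat.le_succ N)), ι_rho_le X (Nat.succ_le_succ hn)]
  · have h1 : Sigma.ι X n ≫ rho X N ≫ d X t ≫ rho X (N + 1) =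
        (Sigma.ι X n ≫ rho X N) ≫ d X t ≫ rho X (N + 1) := by rw [Category.assoc]
    have h2 : Sigma.ι X n ≫ rho X N ≫ d X t = (Sigma.ι X n ≫ rho X N) ≫ d X t := by
      rw [Category.assoc]
    rw [h1, h2, ι_rho_gt X (Nat.lt_of_not_le hn), zero_comp, zero_comp]

lemma a_d_rho (N : ℕ) : (a X N ≫ d X t) ≫ rho X (N + 1) = a X N ≫ d X t := by
  have h := a_rho X N
  calc (a X N ≫ d X t) ≫ rho X (N + 1)
      = a X N ≫ rho X N ≫ d X t ≫ rho X (N + 1) := by
        rw [← Category.assoc (a X N) (rho X N), h, Category.assoc]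
    _ = a X N ≫ rho X N ≫ d X t := by rw [rho_d]
    _ = a X N ≫ d X t := by rw [← Category.assoc, h]

/-- The restriction of `1 - shift` to `S X N ⟶ S X (N + 1)`. -/
noncomputable def DD (N : ℕ) : S X N ⟶ S X (N + 1) :=
  liftS X (N + 1) (a X N ≫ d X t) (a_d_rho X t N)

lemma DD_a (N : ℕ) : DD X t N ≫ a X (N + 1) = a X N ≫ d X t := liftS_a X _ _ _

instance mono_DD (N : ℕ) : Mono (DD X t N) := by
  apply Preadditive.mono_of_cancel_zero
  intro T x hx
  have h1 : (x ≫ a X N) ≫ d X t = 0 := by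
    rw [Category.assoc, ← DD_a, ← Category.assoc, hx, zero_comp]
  have h2 : x ≫ a X N = 0 := by
    rw [← a_rho X N, ← Category.assoc]
    exact comp_rho_eq_zero X _ (comp_pr_eq_zero_of_comp_d X t _ h1) N
  rw [← cancel_mono (a X N), h2, zero_comp]

/-- The sequence of "finite sums". -/
noncomputable def Sf : ℕ ⥤ A := Functor.ofSequence (tS X)

/-- The shifted sequence of "finite sums". -/
noncomputable def Sf' : ℕ ⥤ A := Functor.ofSequence (fun n => tS X (n + 1))

/-- `1 - shift` as a natural transformation. -/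
noncomputable def Dn : Sf X ⟶ Sf' X :=
  NatTrans.ofSequence (F := Sf X) (G := Sf' X) (fun n => DD X t n) (by
    intro n
    unfold Sf Sf'
    rw [Functor.ofSequence_map_homOfLE_succ, Functor.ofSequence_map_homOfLE_succ]
    change tS X n ≫ DD X t (n + 1) = DD X t n ≫ tS X (n + 1)
    rw [← cancel_mono (a X (n + 1 + 1)), Category.assoc, Category.assoc, DD_a, tS_a,
      ← Category.assoc, tS_a, DD_a])

end Shift

section Colim

variable [HasColimitsOfShape ℕ A]
variable (X : ℕ → A) [HasCoproduct X] (t : ∀ n, X n ⟶ X (n + 1))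

/-- The cocone of inclusions `S X N ⟶ ∐ X`. -/
noncomputable def aCocone : Cocone (Sf X) where
  pt := ∐ X
  ι := NatTrans.ofSequence (F := Sf X) (G := (Functor.const ℕ).obj (∐ X)) (fun n => a X n) (by
    intro n
    unfold Sf
    rw [Functor.ofSequence_map_homOfLE_succ]
    change tS X n ≫ a X (n + 1) = a X n ≫ 𝟙 _
    rw [tS_a, Category.comp_id])

/-- The canonical map `colim S ⟶ ∐ X`. -/
noncomputable def jj : colimit (Sf X) ⟶ ∐ X := colimit.desc (Sf X) (aCocone X)

/-- The colimit inclusions, with a convenient type. -/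
noncomputable def cι (n : ℕ) : S X n ⟶ colimit (Sf X) := colimit.ι (Sf X) n

/-- The colimit inclusions for the shifted sequence, with a convenient type. -/
noncomputable def cι' (n : ℕ) : S X (n + 1) ⟶ colimit (Sf' X) := colimit.ι (Sf' X) n

lemma cι_jj (n : ℕ) : cι X n ≫ jj X = a X n :=
  colimit.ι_desc (aCocone X) n

lemma cι_colimMap (n : ℕ) : cι X n ≫ colimMap (Dn X t) = DD X t n ≫ cι' X n :=
  ι_colimMap (Dn X t) n

lemma cι'_succ (n : ℕ) : cι' X n = tS X (n + 1) ≫ cι' X (n + 1) := by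
  have h : (Sf' X).map (homOfLE (Nat.le_add_right n 1)) = tS X (n + 1) :=
    Functor.ofSequence_map_homOfLE_succ _ n
  have w := colimit.w (Sf' X) (homOfLE (Nat.le_add_right n 1))
  rw [h] at w
  exact w.symm

/-- A section of `jj`. -/
noncomputable def kk : ∐ X ⟶ colimit (Sf X) :=
  Sigma.desc (fun n => Sigma.ι X n ≫ p X n ≫ cι X n)

lemma kk_jj : kk X ≫ jj X = 𝟙 _ := by
  apply Sigma.hom_ext
  intro n
  unfold kk
  rw [← Category.assoc, Sigma.ι_desc, Category.assoc, Category.assoc, cι_jj, p_a, ι_rho_le X le_rfl,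
    Category.comp_id]

/-- The analogue of `kk` for the shifted sequence. -/
noncomputable def kk' : ∐ X ⟶ colimit (Sf' X) :=
  Sigma.desc (fun n => Sigma.ι X n ≫ p X (n + 1) ≫ cι' X n)

omit [HasColimitsOfShape ℕ A] in
lemma key (n : ℕ) :
    Sigma.ι X n ≫ p X n ≫ DD X t n ≫ tS X (n + 1) =
      Sigma.ι X n ≫ p X (n + 1) ≫ tS X (n + 1) - t n ≫ Sigma.ι X (n + 1) ≫ p X (n + 1 + 1) := by
  rw [← cancel_mono (a X (n + 1 + 1))]
  simp only [Category.assoc, Preadditive.sub_comp]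
  rw [tS_a, DD_a, p_a, p_a, ← Category.assoc (p X n), p_a,
    ← Category.assoc (Sigma.ι X n) (rho X n), ι_rho_le X le_rfl, ι_rho_le X (Nat.le_succ n),
    ι_rho_le X (Nat.le_succ (n + 1)), ι_d]

lemma square : kk X ≫ colimMap (Dn X t) = d X t ≫ kk' X := by
  apply Sigma.hom_ext
  intro n
  have h1 : Sigma.ι X n ≫ kk X ≫ colimMap (Dn X t) =
      (Sigma.ι X n ≫ p X n ≫ DD X t n ≫ tS X (n + 1)) ≫ cι' X (n + 1) := by
    unfold kk
    rw [← Category.assoc, Sigma.ι_desc]
    simp only [Category.assoc]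
    rw [cι_colimMap, cι'_succ]
  have h2 : Sigma.ι X n ≫ d X t ≫ kk' X =
      (Sigma.ι X n ≫ p X (n + 1) ≫ tS X (n + 1) - t n ≫ Sigma.ι X (n + 1) ≫ p X (n + 1 + 1)) ≫
        cι' X (n + 1) := by
    unfold kk'
    rw [← Category.assoc, ι_d, Preadditive.sub_comp, Sigma.ι_desc, Category.assoc, Sigma.ι_desc,
      Preadditive.sub_comp]
    simp only [Category.assoc]
    rw [cι'_succ]
  rw [h1, h2, key]

variable [HasExactColimitsOfShape ℕ A]

instance mono_Dn : Mono (Dn X t) := by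
  have : ∀ n, Mono ((Dn X t).app n) := fun n => by
    change Mono (DD X t n)
    infer_instance
  exact NatTrans.mono_of_mono_app _

instance mono_colimMap_Dn : Mono (colimMap (Dn X t)) := by
  change Mono (colim.map (Dn X t))
  infer_instance

/-- Under AB5 for `ℕ`, `1 - shift` is a monomorphism on `∐ X`. -/
theorem mono_d : Mono (d X t) := by
  apply Preadditive.mono_of_cancel_zero
  intro T x hx
  have h1 : (x ≫ kk X) ≫ colimMap (Dn X t) = 0 := by
    rw [Category.assoc, square, ← Category.assoc, hx, zero_comp]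
  have h2 : x ≫ kk X = 0 := by
    rw [← cancel_mono (colimMap (Dn X t)), h1, zero_comp]
  calc x = x ≫ kk X ≫ jj X := by rw [kk_jj, Category.comp_id]
    _ = 0 := by rw [← Category.assoc, h2, zero_comp]

/-- Under AB5 for `ℕ`, `1 - shift` is a monomorphism on `∐ X`. -/
theorem mono_one_sub_shiftMap : Mono (𝟙 (∐ X) - DerLim.shiftMap X t) := mono_d X t

end Colim

section Cokernel

variable [HasColimitsOfShape ℕ A] (F : ℕ ⥤ A) [HasCoproduct F.obj]

/-- The transition maps of a sequence. -/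
def tr (n : ℕ) : F.obj n ⟶ F.obj (n + 1) := F.map (homOfLE (Nat.le_succ n))

/-- The canonical map `∐ F ⟶ colim F`. -/
noncomputable def πF : ∐ F.obj ⟶ colimit F := Sigma.desc (fun n => colimit.ι F n)

lemma ι_πF (n : ℕ) : Sigma.ι F.obj n ≫ πF F = colimit.ι F n := by
  unfold πF
  rw [Sigma.ι_desc]

lemma d_πF : d F.obj (tr F) ≫ πF F = 0 := by
  apply Sigma.hom_ext
  intro n
  rw [← Category.assoc, ι_d, Preadditive.sub_comp, Category.assoc, ι_πF, ι_πF, comp_zero]
  unfold tr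
  rw [colimit.w, sub_self]

instance epi_πF : Epi (πF F) := by
  constructor
  intro Z g h hgh
  apply colimit.hom_ext
  intro n
  rw [← ι_πF, Category.assoc, Category.assoc, hgh]

/-- The cocone attached to a morphism `g : ∐ F ⟶ Z` killed by `1 - shift`. -/
noncomputable def coconeOf {Z : A} (g : ∐ F.obj ⟶ Z) (hg : d F.obj (tr F) ≫ g = 0) : Cocone F where
  pt := Z
  ι := NatTrans.ofSequence (F := F) (G := (Functor.const ℕ).obj Z) (fun n => Sigma.ι F.obj n ≫ g) (by
    intro n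
    change tr F n ≫ Sigma.ι F.obj (n + 1) ≫ g = (Sigma.ι F.obj n ≫ g) ≫ 𝟙 _
    have h := congrArg (fun z => Sigma.ι F.obj n ≫ z) hg
    simp only [comp_zero] at h
    rw [← Category.assoc, ι_d, Preadditive.sub_comp, sub_eq_zero] at h
    rw [Category.comp_id, h, Category.assoc])

/-- The morphism from the colimit attached to a morphism `g : ∐ F ⟶ Z` killed by `1 - shift`. -/
noncomputable def descOf {Z : A} (g : ∐ F.obj ⟶ Z) (hg : d F.obj (tr F) ≫ g = 0) : colimit F ⟶ Z :=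
  colimit.desc F (coconeOf F g hg)

lemma ι_descOf {Z : A} (g : ∐ F.obj ⟶ Z) (hg : d F.obj (tr F) ≫ g = 0) (n : ℕ) :
    colimit.ι F n ≫ descOf F g hg = Sigma.ι F.obj n ≫ g :=
  colimit.ι_desc (coconeOf F g hg) n

lemma πF_descOf {Z : A} (g : ∐ F.obj ⟶ Z) (hg : d F.obj (tr F) ≫ g = 0) :
    πF F ≫ descOf F g hg = g := by
  apply Sigma.hom_ext
  intro n
  rw [← Category.assoc, ι_πF, ι_descOf]

/-- `colim F` is the cokernel of `1 - shift`. -/
noncomputable def isColimitπF : IsColimit (CokernelCofork.ofπ (πF F) (d_πF F)) :=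
  CokernelCofork.IsColimit.ofπ' _ _ (fun {Z} g hg => ⟨descOf F g hg, πF_descOf F g hg⟩)

variable [HasExactColimitsOfShape ℕ A]

/-- The short exact sequence `0 → ∐ F → ∐ F → colim F → 0`. -/
theorem shortExact : (ShortComplex.mk (d F.obj (tr F)) (πF F) (d_πF F)).ShortExact := by
  have : Mono (d F.obj (tr F)) := mono_d _ _
  exact ShortComplex.ShortExact.mk' (ShortComplex.exact_of_g_is_cokernel _ (isColimitπF F))
    (by assumption) (epi_πF F)

end Cokernel

end Groth.Agent.Lib.Helper83.AB5Seq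

namespace Groth.Agent.Lib.Helper83.AB5Seq

variable {A : Type u} [Category.{v} A] [Abelian A]

/-- Any cokernel of (a conjugate of) `1 - shift` identifies to the colimit. -/
theorem iso_of_cokernel [HasColimitsOfShape ℕ A] (F : ℕ ⥤ A) [HasCoproduct F.obj] {P Q : A}
    (ψ : ∐ F.obj ≅ P) (δ : P ⟶ P) (q : P ⟶ Q) (w : δ ≫ q = 0)
    (hq : IsColimit (CokernelCofork.ofπ q w))
    (hδ : d F.obj (tr F) ≫ ψ.hom = ψ.hom ≫ δ) :
    ∃ e : colimit F ≅ Q, ∀ n, colimit.ι F n ≫ e.hom = Sigma.ι F.obj n ≫ ψ.hom ≫ q := by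
  have hg : d F.obj (tr F) ≫ ψ.hom ≫ q = 0 := by
    rw [← Category.assoc, hδ, Category.assoc, w, comp_zero]
  have hδ' : δ ≫ ψ.inv = ψ.inv ≫ d F.obj (tr F) := by
    rw [← cancel_mono ψ.hom, Category.assoc, Category.assoc, Iso.inv_hom_id, Category.comp_id, hδ,
      Iso.inv_hom_id_assoc]
  have hg' : δ ≫ ψ.inv ≫ πF F = 0 := by
    rw [← Category.assoc, hδ', Category.assoc, d_πF, comp_zero]
  have hepi : Epi q := by
    have : q = Cofork.π (CokernelCofork.ofπ q w) := rfl
    rw [this]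
    exact epi_of_isColimit_cofork hq
  let inv : Q ⟶ colimit F := hq.desc (CokernelCofork.ofπ (ψ.inv ≫ πF F) hg')
  have hinv : q ≫ inv = ψ.inv ≫ πF F := hq.fac (CokernelCofork.ofπ (ψ.inv ≫ πF F) hg') WalkingParallelPair.one
  have hhom : πF F ≫ descOf F (ψ.hom ≫ q) hg = ψ.hom ≫ q := πF_descOf F _ hg
  refine ⟨⟨descOf F (ψ.hom ≫ q) hg, inv, ?_, ?_⟩, fun n => ?_⟩
  · rw [← cancel_epi (πF F), ← Category.assoc, hhom, Category.assoc, hinv, Iso.hom_inv_id_assoc,
      Category.comp_id]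
  · rw [← cancel_epi q, ← Category.assoc, hinv, Category.assoc, hhom, Iso.inv_hom_id_assoc,
      Category.comp_id]
  · exact ι_descOf F _ hg n

end Groth.Agent.Lib.Helper83.AB5Seq
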