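import Mathlib
import Groth.Agent.Lib.Helper32.FAcyclic
import Groth.Agent.Lib.Helper83.ExtAcyc

/-!
# `Ext(S, -)`-acyclic objects when `S` has finite `Ext`-dimension (helper83)

If `Ext^m(S, -) = 0` for `m ≥ n`, then `Hom(S, -)` preserves quasi-isomorphisms between
(unbounded) complexes with `Ext(S, -)`-acyclic terms.
-/

set_option autoImplicit false
universe w v u

namespace Groth.Agent.Lib.Helper83.ExtAcycFin

open CategoryTheory CategoryTheory.Limits Abelian Opposite
open Groth.Agent.Lib.Helper83.ExtAcyc Groth.Agent.Lib.Helper32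

variable {A : Type u} [Category.{v} A] [Abelian A] [HasExt.{w} A]

/-- exactness of `Hom(S, -)` on short exact sequences with acyclic kernel -/
lemma shortExact_map (S : A) (T : ShortComplex A) (hT : T.ShortExact) (h₁ : EA.{w} S T.X₁) :
    (T.map (preadditiveCoyoneda.obj (op S))).ShortExact := by
  have hl := (Functor.preservesFiniteLimits_iff_forall_exact_map_and_mono
    (preadditiveCoyoneda.obj (op S))).1 inferInstance T hT
  have hepi : Epi ((preadditiveCoyoneda.obj (op S)).map T.g) := by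
    rw [AddCommGrpCat.epi_iff_surjective]
    intro (ψ : S ⟶ T.X₃)
    obtain ⟨x₂, hx₂⟩ := Ext.covariant_sequence_exact₃ S hT (Ext.mk₀ ψ) (rfl : 0 + 1 = 1)
      (h₁ 1 (by omega) _)
    obtain ⟨ψ₂, rfl⟩ := (Ext.mk₀_bijective S T.X₂).2 x₂
    rw [Ext.mk₀_comp_mk₀] at hx₂
    exact ⟨ψ₂, (Ext.mk₀_bijective S T.X₃).1 hx₂⟩
  exact { exact := hl.1, mono_f := hl.2, epi_g := hepi }

section Chain

variable (S : A) (Z C : ℕ → A) (c : ∀ j, Z j ⟶ C j) (π : ∀ j, C j ⟶ Z (j + 1))
  (w : ∀ j, c j ≫ π j = 0)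
  (hSE : ∀ j, (ShortComplex.mk (c j) (π j) (w j)).ShortExact)
  (hC : ∀ j, EA.{w} S (C j))
  (n : ℕ) (hn : ∀ (m : ℕ), n ≤ m → ∀ (X : A) (x : Ext.{w} S X m), x = 0)

include hSE hC hn in
lemma chain_aux : ∀ (j m : ℕ), 1 ≤ m → n ≤ m + j → ∀ x : Ext.{w} S (Z j) m, x = 0 := by
  intro j
  induction j with
  | zero =>
    intro m _ hm x
    exact hn m (by omega) _ x
  | succ j ih =>
    intro m hm1 hm x
    obtain ⟨x₂, hx₂⟩ := Ext.covariant_sequence_exact₃ S (hSE j) x (rfl : m + 1 = m + 1)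
      (ih (m + 1) (by omega) (by omega) _)
    rw [← hx₂, hC j m (by omega) x₂, Ext.zero_comp]

include hSE hC hn in
lemma EA_chain : EA.{w} S (Z n) := fun p hp x =>
  chain_aux S Z C c π w hSE hC n hn n p hp (by omega) x

end Chain

section Acyclic

variable [HasInjectiveResolutions A]
variable (S : A) (K : CochainComplex A ℤ)
variable (n : ℕ) (hn : ∀ (m : ℕ), n ≤ m → ∀ (X : A) (x : Ext.{w} S X m), x = 0)
  (hK : K.Acyclic) (hP : ∀ k, EA.{w} S (K.X k))

include hn hK hP in
lemma EA_cycles (i : ℤ) : EA.{w} S (K.cycles i) := by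
  have h := EA_chain S (fun j : ℕ => K.cycles (i - n + j)) (fun j : ℕ => K.X (i - n + j))
    (fun j => K.iCycles _) (fun j => K.toCycles (i - n + j) (i - n + (j + 1 : ℕ)))
    (fun j => (FAcyclic.cyclesSC K _ _).zero)
    (fun j => FAcyclic.cyclesSC_shortExact K _ _ (by push_cast; ring) (hK _))
    (fun j => hP _) n hn
  have e : i - (n : ℤ) + (n : ℤ) = i := by ring
  simpa only [e] using h

include hn hK hP in
/-- `Hom(S, -)` maps acyclic complexes of `Ext(S, -)`-acyclic objects to acyclic complexes -/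
lemma acyclic_map :
    (((preadditiveCoyoneda.obj (op S)).mapHomologicalComplex (ComplexShape.up ℤ)).obj K).Acyclic := by
  intro i
  let F := preadditiveCoyoneda.obj (op S)
  rw [HomologicalComplex.exactAt_iff' _ (i - 1) i (i + 1) (by simp) (by simp)]
  have hepi : Epi (F.map (K.toCycles (i - 1) i)) :=
    (shortExact_map S _ (FAcyclic.cyclesSC_shortExact K (i - 1) i (by ring) (hK i))
      (EA_cycles S K n hn hK hP (i - 1))).epi_g
  let T : ShortComplex AddCommGrpCat := ShortComplex.mk (F.map (K.iCycles i)) (F.map (K.d i (i + 1)))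
    (by rw [← F.map_comp, K.iCycles_d, F.map_zero])
  have hT : T.Exact := ShortComplex.exact_of_f_is_kernel _
    (KernelFork.mapIsLimit _ (K.cyclesIsKernel i (i + 1) (by simp)) F)
  let φ : ((F.mapHomologicalComplex (ComplexShape.up ℤ)).obj K).sc' (i - 1) i (i + 1) ⟶ T :=
    { τ₁ := F.map (K.toCycles (i - 1) i)
      τ₂ := 𝟙 _
      τ₃ := 𝟙 _
      comm₁₂ := by
        change F.map (K.toCycles (i - 1) i) ≫ F.map (K.iCycles i) =
          F.map (K.d (i - 1) i) ≫ 𝟙 (F.obj (K.X i))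
        rw [Category.comp_id, ← F.map_comp, K.toCycles_i]
      comm₂₃ := by
        change 𝟙 (F.obj (K.X i)) ≫ F.map (K.d i (i + 1)) =
          F.map (K.d i (i + 1)) ≫ 𝟙 (F.obj (K.X (i + 1)))
        rw [Category.comp_id, Category.id_comp] }
  have : Epi φ.τ₁ := hepi
  have : IsIso φ.τ₂ := inferInstanceAs (IsIso (𝟙 _))
  have : Mono φ.τ₃ := inferInstanceAs (Mono (𝟙 _))
  rw [ShortComplex.exact_iff_of_epi_of_isIso_of_mono φ]
  exact hT

include hn in
/-- `Hom(S, -)` preserves quasi-isomorphisms between complexes of `Ext(S, -)`-acyclic objects -/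
lemma quasiIso_map {K L : CochainComplex A ℤ} (f : K ⟶ L) [QuasiIso f]
    (hK : ∀ k, EA.{w} S (K.X k)) (hL : ∀ k, EA.{w} S (L.X k)) :
    QuasiIso (((preadditiveCoyoneda.obj (op S)).mapHomologicalComplex (ComplexShape.up ℤ)).map f) := by
  rw [ConeAcyclic.quasiIso_map_iff_acyclic_map_mappingCone]
  refine acyclic_map S _ n hn ((ConeAcyclic.quasiIso_iff_acyclic_mappingCone f).1 inferInstance)
    (fun k => ?_)
  have e : (CochainComplex.mappingCone f).X k ≅ K.X (k + 1) ⊞ L.X k :=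
    HomologicalComplex.homotopyCofiber.XIsoBiprod f k (k + 1) rfl
  exact EA_of_iso S e.symm (EA_biprod S (hK _) (hL _))

end Acyclic

end Groth.Agent.Lib.Helper83.ExtAcycFin
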