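import Groth.Agent.Lib.Helper83.LerayLin

/-!
# Linear Leray isomorphism for schemes from an acyclic cover (helper83)

`exists_equiv_push`: for `g : Y ⟶ X`, an `O_Y`-module `F` with `g_* F` quasi-coherent, and a cover
`V` of `X` with affine finite intersections such that `F` is acyclic on the preimages of these
intersections, there is `e : H^p(Y, F) ≃+ H^p(X, g_* F)` with `e (g^♯ ρ • x) = ρ • e x` for global
functions `ρ` on `X`.  `nonempty_linearEquiv_push` is the version linear over a base ring.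
-/

universe u
open CategoryTheory CategoryTheory.Limits TopologicalSpace Opposite AlgebraicGeometry

namespace Groth.Agent.Lib.Helper83.LerayLin

open Groth.Agent.Lib.Lead Groth.Agent.S0463 Groth.Agent.S0464 Groth.Agent.Lib.Helper17.LerayNat
  Groth.Agent.Lib.Helper17.CechHHLin Groth.Agent.Lib.Helper83.CechPush

variable {X Y : Scheme.{u}} (g : Y ⟶ X) (F : Y.Modules)

theorem smulAb_push (ρ : Coh.Γtop X) :
    Coh.smulAb ((Coh.push g).obj F) ρ =
      (CohTop.push g.base).map (Coh.smulAb F ((g.appTop).hom ρ)) := by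
  apply Sheaf.hom_ext
  ext U m
  rw [Coh.smulAb_app]
  change _ = (Coh.smulAb F ((g.appTop).hom ρ)).hom.app ((Opens.map g.base).op.obj U) m
  rw [Coh.smulAb_app]
  have key : (g.app U.unop).hom (Coh.resTop X U ρ) =
      Coh.resTop Y ((Opens.map g.base).op.obj U) ((g.appTop).hom ρ) := by
    have := g.naturality (homOfLE (le_top (a := U.unop))).op
    exact (ConcreteCategory.congr_hom this ρ)
  rw [← key]
  rfl

variable {ι : Type u} (V : ι → X.Opens)

theorem acyc_preimage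
    (hacyc : ∀ (n : ℕ) (a : Fin (n + 1) → ι) (q : ℕ),
      Subsingleton (CohTop.HU (X := Y.toTopCat) (Coh.toAb F) (q + 1) (g ⁻¹ᵁ ⨅ k, V (a k)))) :
    Acyc (X := Y.toTopCat) (W g.base V) (Coh.toAb F) := by
  intro n x q
  have h1 := hacyc n x q
  rw [← cechOpen_eq (X := X.toTopCat) V x] at h1
  have h2 : g ⁻¹ᵁ (cechOpen (X := X.toTopCat) V x) = cechOpen (X := Y.toTopCat) (W g.base V) x :=
    map_cechOpen g.base V x
  rw [h2] at h1
  exact h1

theorem exists_equiv_push [hq : ((Coh.push g).obj F).IsQuasicoherent] (hV : iSup V = ⊤)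
    (haff : ∀ (p : ℕ) (a : Fin (p + 1) → ι), IsAffineOpen (⨅ k, V (a k)))
    (hacyc : ∀ (n : ℕ) (a : Fin (n + 1) → ι) (q : ℕ),
      Subsingleton (CohTop.HU (X := Y.toTopCat) (Coh.toAb F) (q + 1) (g ⁻¹ᵁ ⨅ k, V (a k))))
    (p : ℕ) :
    ∃ e : Coh.HH Y F p ≃+ Coh.HH X ((Coh.push g).obj F) p,
      ∀ (ρ : Coh.Γtop X) (x : Coh.HH Y F p),
        e ((show Coh.Γtop Y from (g.appTop).hom ρ) • x) = ρ • e x := by
  have hA := acyc_preimage g F V hacyc
  have hB : Acyc (X := X.toTopCat) V ((CohTop.push g.base).obj (Coh.toAb F)) :=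
    acyc_of_isAffineOpen ((Coh.push g).obj F) V haff
  refine ⟨pushEquiv (X := X.toTopCat) (Y := Y.toTopCat) g.base V (Coh.toAb F) hV hA hB p, ?_⟩
  intro ρ x
  change pushEquiv (X := X.toTopCat) (Y := Y.toTopCat) g.base V (Coh.toAb F) hV hA hB p
    (Sheaf.H.map (Coh.smulAb F ((g.appTop).hom ρ)) p x) =
    Sheaf.H.map (Coh.smulAb ((Coh.push g).obj F) ρ) p _
  rw [pushEquiv_naturality (X := X.toTopCat) (Y := Y.toTopCat) g.base V hV
    (Coh.smulAb F ((g.appTop).hom ρ)) hA hB hA hB p x, smulAb_push]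
  rfl

theorem toGlobal_over (B : Type u) [CommRing B] [X.Over (Spec (CommRingCat.of B))]
    [Y.Over (Spec (CommRingCat.of B))] [g.IsOver (Spec (CommRingCat.of B))] (b : B) :
    Coh.toGlobal (Y ↘ Spec (CommRingCat.of B)) b =
      (show Coh.Γtop Y from
        (g.appTop).hom (Coh.toGlobal (X ↘ Spec (CommRingCat.of B)) b)) := by
  unfold Coh.toGlobal
  have h : g ≫ (X ↘ Spec (CommRingCat.of B)) = Y ↘ Spec (CommRingCat.of B) :=
    CategoryTheory.comp_over g (Spec (CommRingCat.of B))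
  rw [← h, Scheme.Hom.comp_appTop]
  rfl

/-- **Linear Leray isomorphism over a base ring.** -/
theorem nonempty_linearEquiv_push (B : Type u) [CommRing B] [X.Over (Spec (CommRingCat.of B))]
    [Y.Over (Spec (CommRingCat.of B))] [g.IsOver (Spec (CommRingCat.of B))]
    [hq : ((Coh.push g).obj F).IsQuasicoherent] (hV : iSup V = ⊤)
    (haff : ∀ (p : ℕ) (a : Fin (p + 1) → ι), IsAffineOpen (⨅ k, V (a k)))
    (hacyc : ∀ (n : ℕ) (a : Fin (n + 1) → ι) (q : ℕ),
      Subsingleton (CohTop.HU (X := Y.toTopCat) (Coh.toAb F) (q + 1) (g ⁻¹ᵁ ⨅ k, V (a k))))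
    (p : ℕ) :
    Nonempty (Coh.HH Y F p ≃ₗ[B] Coh.HH X ((Coh.push g).obj F) p) := by
  obtain ⟨e, he⟩ := exists_equiv_push g F V hV haff hacyc p
  refine ⟨{ e with map_smul' := ?_ }⟩
  intro b x
  change e (Coh.toGlobal (Y ↘ Spec (CommRingCat.of B)) b • x) =
    Coh.toGlobal (X ↘ Spec (CommRingCat.of B)) b • e x
  rw [toGlobal_over g B b]
  exact he _ x

end Groth.Agent.Lib.Helper83.LerayLin
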