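import Groth.Agent.Lib.Helper17.AmpleVeryAmple
import Groth.Agent.Lib.Helper17.VeryAmpleRel

/-!
# Ample on a proper scheme over an affine base gives a closed immersion into `P^N_B` (helper83)

* `exists_closedImmersion_of_sections`: the sections criterion of helper17's `VeryAmpleCrit`, but
  landing in `CohB1.ProjSpace n B = Proj B[T_0..T_n]` (not `P^n_ℤ × S`), and giving a *closed*
  immersion when `X ⟶ Spec B` is proper.
* `exists_closedImmersion_of_isAmple`: for `X` proper over `Spec B` and `L` ample, some power `L^d`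
  is `r^* O(1)` for a closed immersion `r : X ⟶ P^N_B` over `Spec B`.
-/

set_option autoImplicit false
set_option linter.unusedSectionVars false
set_option linter.style.haveILetI false
universe u
open AlgebraicGeometry CategoryTheory Limits TopologicalSpace Opposite

namespace Groth.Agent.Lib.Helper83.AmpleEmbed
open Groth.Agent.Lib.Helper11 Groth.Agent.Lib.Helper11.GenLocus Groth.Agent.Lib.Helper45
  Groth.Agent.Lib.Helper49 Groth.Agent.Lib.Helper17.UPGen Groth.Agent.Lib.Helper17.UPCoef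
  Groth.Agent.Lib.Helper17.VeryAmpleCrit Groth.Agent.Lib.Helper17.RatioGen
  Groth.Agent.Lib.Helper17.VeryAmpleTensor Groth.Agent.Lib.Helper17.AmpleVeryAmple
  Groth.Agent.Lib.Helper17.PnSections Groth.Agent.Lib.Helper17.VeryAmpleRel

variable {B : Type u} [CommRing B] {X : Scheme.{u}} (f : X ⟶ Spec (CommRingCat.of B))
  (L : X.Modules)

/-- the sections criterion, with target `Proj B[T]`; immersion version. -/
theorem exists_immersion_of_sections (n : ℕ) (w : Fin (n + 1) → Γ(L, ⊤))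
    {κ : Type*} (j : κ → Fin (n + 1)) (hcov : ∀ x : X, ∃ k, x ∈ loc (w (j k)))
    (V : κ → (Spec (CommRingCat.of B)).Opens) (hV : ∀ k, IsAffineOpen (V k))
    (hU : ∀ k, IsAffineOpen (loc (w (j k))))
    (hle : ∀ k, loc (w (j k)) ≤ f ⁻¹ᵁ V k)
    (hgen : ∀ k, Subring.closure (Set.range (f.appLE (V k) (loc (w (j k))) (hle k)).hom ∪
      Set.range (fun c' => coef (w (j k)) (w c'))) = ⊤) :
    ∃ r : X ⟶ CohB1.ProjSpace n B, IsImmersion r ∧ r ≫ CohB1.ProjSpace.toSpec n B = f ∧
      Nonempty ((Scheme.Modules.pullback r).obj (Twist.twistProjSpace n B 1) ≅ L) := by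
  classical
  obtain ⟨r, hr, τ, hτ⟩ := Groth.Agent.Lib.Helper17.UPExist.exists_to_projSpace_of_cover (R := B) n
    f L w (fun x => let ⟨k, hk⟩ := hcov x; ⟨j k, hk⟩)
  refine ⟨r, ?_, hr, ⟨τ⟩⟩
  obtain ⟨i, hi1, hi2⟩ : ∃ i : X ⟶ pullback (CohB1.ProjSpace.toSpec n B)
        (𝟙 (Spec (CommRingCat.of B))),
      i ≫ pullback.fst (CohB1.ProjSpace.toSpec n B) (𝟙 (Spec (CommRingCat.of B))) = r ∧
      i ≫ pullback.snd (CohB1.ProjSpace.toSpec n B) (𝟙 (Spec (CommRingCat.of B))) = f :=
    ⟨pullback.lift r f (by rw [hr, Category.comp_id]), pullback.lift_fst _ _ _,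
      pullback.lift_snd _ _ _⟩
  have himm : IsImmersion i := by
    subst hi1 hi2
    refine isImmersion_of_charts _ _ i (fun k => D B n (j k)) V
      (fun k => Proj.isAffineOpen_basicOpen (CohB1.polyGrading n B) _
        (T_mem n B (j k)) one_pos) hV (fun k => loc (w (j k))) hU hcov
      (fun k => loc_eq n _ τ w hτ (j k)) hle (fun k => ?_)
    apply top_unique
    rw [← hgen k]
    apply Subring.closure_mono
    apply Set.union_subset_union_right
    rintro _ ⟨c', rfl⟩
    exact ⟨_, appLE_oFrac n _ τ w hτ (j k) c'⟩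
  rw [← hi1]
  infer_instance

/-- the sections criterion, with target `Proj B[T]`; closed immersion version for proper `f`. -/
theorem exists_closedImmersion_of_sections [IsProper f] (n : ℕ) (w : Fin (n + 1) → Γ(L, ⊤))
    {κ : Type*} (j : κ → Fin (n + 1)) (hcov : ∀ x : X, ∃ k, x ∈ loc (w (j k)))
    (V : κ → (Spec (CommRingCat.of B)).Opens) (hV : ∀ k, IsAffineOpen (V k))
    (hU : ∀ k, IsAffineOpen (loc (w (j k))))
    (hle : ∀ k, loc (w (j k)) ≤ f ⁻¹ᵁ V k)
    (hgen : ∀ k, Subring.closure (Set.range (f.appLE (V k) (loc (w (j k))) (hle k)).hom ∪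
      Set.range (fun c' => coef (w (j k)) (w c'))) = ⊤) :
    ∃ r : X ⟶ CohB1.ProjSpace n B, IsClosedImmersion r ∧ r ≫ CohB1.ProjSpace.toSpec n B = f ∧
      Nonempty ((Scheme.Modules.pullback r).obj (Twist.twistProjSpace n B 1) ≅ L) := by
  obtain ⟨r, himm, hr, hτ⟩ := exists_immersion_of_sections f L n w j hcov V hV hU hle hgen
  refine ⟨r, ?_, hr, hτ⟩
  have : IsProper (r ≫ CohB1.ProjSpace.toSpec n B) := by rw [hr]; infer_instance
  have : IsProper r := IsProper.of_comp r (CohB1.ProjSpace.toSpec n B)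
  exact IsClosedImmersion.of_isPreimmersion r r.isClosedMap.isClosed_range

/-- the criterion with the chart sections named separately. -/
theorem exists_closedImmersion_of_sections_aux [IsProper f] (n : ℕ) (w : Fin (n + 1) → Γ(L, ⊤))
    {κ : Type*} (j : κ → Fin (n + 1)) (c : κ → Γ(L, ⊤)) (hc : ∀ k, c k = w (j k))
    (hcov : ∀ x : X, ∃ k, x ∈ loc (c k))
    (V : κ → (Spec (CommRingCat.of B)).Opens) (hV : ∀ k, IsAffineOpen (V k))
    (hU : ∀ k, IsAffineOpen (loc (c k)))
    (hle : ∀ k, loc (c k) ≤ f ⁻¹ᵁ V k)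
    (hgen : ∀ k, Subring.closure (Set.range (f.appLE (V k) (loc (c k)) (hle k)).hom ∪
      Set.range (fun c' => coef (c k) (w c'))) = ⊤) :
    ∃ r : X ⟶ CohB1.ProjSpace n B, IsClosedImmersion r ∧ r ≫ CohB1.ProjSpace.toSpec n B = f ∧
      Nonempty ((Scheme.Modules.pullback r).obj (Twist.twistProjSpace n B 1) ≅ L) := by
  obtain rfl : c = fun k => w (j k) := funext hc
  exact exists_closedImmersion_of_sections f L n w j hcov V hV hU hle hgen

/-- the criterion for a family of sections indexed by an arbitrary finite type. -/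
theorem exists_closedImmersion_of_fintype [IsProper f] {ι : Type*} [Fintype ι] (w : ι → Γ(L, ⊤))
    {κ : Type*} (j : κ → ι) (hcov : ∀ x : X, ∃ k, x ∈ loc (w (j k)))
    (V : κ → (Spec (CommRingCat.of B)).Opens) (hV : ∀ k, IsAffineOpen (V k))
    (hU : ∀ k, IsAffineOpen (loc (w (j k))))
    (hle : ∀ k, loc (w (j k)) ≤ f ⁻¹ᵁ V k)
    (hgen : ∀ k, Subring.closure (Set.range (f.appLE (V k) (loc (w (j k))) (hle k)).hom ∪
      Set.range (fun i => coef (w (j k)) (w i))) = ⊤) :
    ∃ (n : ℕ) (r : X ⟶ CohB1.ProjSpace n B), IsClosedImmersion r ∧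
      r ≫ CohB1.ProjSpace.toSpec n B = f ∧
      Nonempty ((Scheme.Modules.pullback r).obj (Twist.twistProjSpace n B 1) ≅ L) := by
  classical
  obtain ⟨n, hn⟩ : ∃ n, Fintype.card (Option ι) = n + 1 :=
    ⟨Fintype.card ι, Fintype.card_option⟩
  let e : Fin (n + 1) ≃ Option ι := (Fintype.equivFinOfCardEq hn).symm
  let w' : Option ι → Γ(L, ⊤) := fun o => o.elim 0 w
  refine ⟨n, exists_closedImmersion_of_sections_aux f L n (w' ∘ e) (fun k => e.symm (some (j k)))
    (fun k => w (j k)) (fun k => ?_) hcov V hV hU hle (fun k => ?_)⟩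
  · simp [w']
  · apply top_unique
    rw [← hgen k]
    apply Subring.closure_mono
    apply Set.union_subset_union_right
    rintro _ ⟨i, rfl⟩
    exact ⟨e.symm (some i), by simp [w']⟩

/-- **Ample ⇒ a power is very ample, in closed-immersion form**: for `X` proper over `Spec B` and
`L` ample on `X`, there is a closed immersion `r : X ⟶ P^N_B` over `Spec B` with
`r^* O(1) ≅ L^{⊗ d}`. -/
theorem exists_closedImmersion_of_isAmple [IsProper f] (hL : CohB1.IsAmple L) :
    ∃ (d N : ℕ) (r : X ⟶ CohB1.ProjSpace N B), IsClosedImmersion r ∧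
      r ≫ CohB1.ProjSpace.toSpec N B = f ∧
      Nonempty ((Scheme.Modules.pullback r).obj (Twist.twistProjSpace N B 1) ≅
        CohB1.tensorPow L d) := by
  obtain ⟨M, A, hA, ⟨eA⟩, ι, κ, _, a, jA, V, hle, hcov, hV, hU, hgen⟩ :=
    exists_veryAmple_data f L hL
  obtain ⟨N, r, h1, h2, ⟨τ⟩⟩ := exists_closedImmersion_of_fintype f A a jA hcov V hV hU hle hgen
  exact ⟨M, N, r, h1, h2, ⟨τ ≪≫ eA⟩⟩

end Groth.Agent.Lib.Helper83.AmpleEmbed
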