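import Mathlib.CategoryTheory.Triangulated.Functor
import Mathlib.CategoryTheory.Adjunction.Additive
import Mathlib.CategoryTheory.Adjunction.Limits
import Mathlib.CategoryTheory.Limits.Preserves.Shapes.Products
import Groth.Prelude.Def_CohDer

/-!
# Compact objects: decomposition property and transfer along adjunctions (helper83)
-/

set_option autoImplicit false
set_option linter.unusedSectionVars false
universe v u u' u''
open CategoryTheory CategoryTheory.Limits

namespace Groth.Agent.Lib.Helper83.Cpt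

section Basic

variable {D : Type u} [Category.{v} D] [Preadditive D] [HasCoproducts.{v} D]

open Classical in
/-- Explicit formula for `homSumToHomCoprod`. -/
lemma homSum_apply (K : D) {ι : Type v} (X : ι → D) (s : DirectSum ι (fun i => K ⟶ X i)) :
    CohDer.homSumToHomCoprod K X s = ∑ i ∈ DFinsupp.support s, s i ≫ Sigma.ι X i := by
  conv_lhs => rw [← DirectSum.sum_support_of s]
  rw [map_sum]
  refine Finset.sum_congr rfl (fun i _ => ?_)
  unfold CohDer.homSumToHomCoprod
  rw [DirectSum.toAddMonoid_of]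
  rfl

open Classical in
lemma homSum_of (K : D) {ι : Type v} (X : ι → D) (i : ι) (y : K ⟶ X i) :
    CohDer.homSumToHomCoprod K X (DirectSum.of _ i y) = y ≫ Sigma.ι X i := by
  unfold CohDer.homSumToHomCoprod
  rw [DirectSum.toAddMonoid_of]
  rfl

open Classical in
/-- The "projection" from a coproduct to a summand in a category with zero morphisms. -/
noncomputable def sigmaπ {ι : Type v} (X : ι → D) (j : ι) : ∐ X ⟶ X j :=
  Sigma.desc (fun i => if h : i = j then eqToHom (congrArg X h) else 0)

lemma ι_sigmaπ_self {ι : Type v} (X : ι → D) (j : ι) : Sigma.ι X j ≫ sigmaπ X j = 𝟙 _ := by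
  unfold sigmaπ
  rw [Sigma.ι_desc, dif_pos rfl, eqToHom_refl]

lemma ι_sigmaπ_ne {ι : Type v} (X : ι → D) {i j : ι} (h : i ≠ j) :
    Sigma.ι X i ≫ sigmaπ X j = 0 := by
  unfold sigmaπ
  rw [Sigma.ι_desc, dif_neg h]

end Basic

section DPsec

variable {D : Type u} {D' : Type u'} [Category.{v} D] [Category.{v} D'] [Preadditive D]
  [Preadditive D'] [HasCoproducts.{v} D]

/-- Decomposition property: every morphism `K ⟶ G (∐ X)` is a finite sum of morphisms factoring
through the `G (X i)`. -/
def DP (K : D') (G : D ⥤ D') : Prop :=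
  ∀ (ι : Type v) (X : ι → D) (x : K ⟶ G.obj (∐ X)),
    ∃ (F : Finset ι) (y : ∀ i, K ⟶ G.obj (X i)), (∀ i, i ∉ F → y i = 0) ∧
      x = ∑ i ∈ F, y i ≫ G.map (Sigma.ι X i)

/-- Uniqueness of decompositions. -/
lemma sum_comp_map_ι_eq_zero (G : D ⥤ D') [G.PreservesZeroMorphisms] {K : D'} {ι : Type v}
    (X : ι → D) (F : Finset ι) (t : ∀ i, K ⟶ G.obj (X i))
    (h : ∑ i ∈ F, t i ≫ G.map (Sigma.ι X i) = 0) (j : ι) (hj : j ∈ F) : t j = 0 := by
  have := congrArg (fun z => z ≫ G.map (sigmaπ X j)) h
  simp only [Preadditive.sum_comp, Category.assoc, ← G.map_comp, zero_comp] at this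
  rw [Finset.sum_eq_single j] at this
  · simpa [ι_sigmaπ_self] using this
  · intro i _ hij; rw [ι_sigmaπ_ne X hij, G.map_zero, comp_zero]
  · intro h; exact absurd hj h

/-- `homSumToHomCoprod` is always injective. -/
lemma homSum_injective (K : D) {ι : Type v} (X : ι → D) :
    Function.Injective (CohDer.homSumToHomCoprod K X) := by
  classical
  rw [injective_iff_map_eq_zero]
  intro s hs
  rw [homSum_apply] at hs
  have h0 : ∀ j ∈ DFinsupp.support s, s j = 0 := fun j hj =>
    sum_comp_map_ι_eq_zero (𝟭 D) X _ (fun i => s i) (by simpa using hs) j hj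
  ext j
  by_cases hj : j ∈ DFinsupp.support s
  · rw [h0 j hj]; rfl
  · rw [DFinsupp.notMem_support_iff] at hj
    rw [hj]; rfl

/-- Compactness is the decomposition property for the identity functor. -/
lemma compact_iff_DP (K : D) : CohDer.IsCompactObject K ↔ DP K (𝟭 D) := by
  classical
  constructor
  · intro h ι X x
    obtain ⟨s, hs⟩ := (h ι X).2 x
    refine ⟨DFinsupp.support s, fun i => s i, fun i hi => ?_, ?_⟩
    · exact DFinsupp.notMem_support_iff.mp hi
    · rw [← hs, homSum_apply]; rfl
  · intro h ι X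
    refine ⟨homSum_injective K X, fun x => ?_⟩
    obtain ⟨F, y, _, hy⟩ := h ι X x
    refine ⟨∑ i ∈ F, DirectSum.of _ i (y i), ?_⟩
    rw [map_sum, hy]
    refine Finset.sum_congr rfl (fun i _ => ?_)
    rw [homSum_of]; rfl

end DPsec

section Transfer

variable {D : Type u} {D' : Type u'} {D'' : Type u''} [Category.{v} D] [Category.{v} D']
  [Category.{v} D'']
  [Preadditive D] [Preadditive D'] [Preadditive D''] [HasCoproducts.{v} D]

/-- A compact object has the decomposition property with respect to any coproduct-preserving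
functor. -/
lemma DP_of_compact [HasCoproducts.{v} D'] (L : D ⥤ D') [PreservesColimitsOfSize.{v, v} L]
    (K : D') (hK : CohDer.IsCompactObject K) : DP K L := by
  intro ι X x
  obtain ⟨F, y, hy0, hy⟩ := (compact_iff_DP K).mp hK ι (fun i => L.obj (X i))
    (x ≫ (PreservesCoproduct.iso L X).hom)
  refine ⟨F, y, hy0, ?_⟩
  have hx : x = (x ≫ (PreservesCoproduct.iso L X).hom) ≫ (PreservesCoproduct.iso L X).inv := by
    rw [Category.assoc, Iso.hom_inv_id, Category.comp_id]
  rw [hx, hy, Preadditive.sum_comp]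
  refine Finset.sum_congr rfl (fun i _ => ?_)
  rw [Category.assoc, PreservesCoproduct.inv_hom]
  dsimp only [Functor.id_map]
  rw [ι_comp_sigmaComparison]

/-- Transfer of the decomposition property along an adjunction (to the right adjoint side). -/
lemma DP_adj {L : D' ⥤ D''} {G : D'' ⥤ D'} (adj : L ⊣ G) [L.Additive] (H : D ⥤ D'') (K : D')
    (h : DP (L.obj K) H) : DP K (H ⋙ G) := by
  intro ι X x
  obtain ⟨F, y, hy0, hy⟩ := h ι X ((adj.homEquiv _ _).symm x)
  refine ⟨F, fun i => adj.homEquiv _ _ (y i), fun i hi => ?_, ?_⟩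
  · dsimp only; rw [hy0 i hi]; exact adj.homAddEquiv_zero _ _
  · have hx : x = adj.homAddEquiv _ _ ((adj.homEquiv _ _).symm x) := by
      rw [Adjunction.homAddEquiv_apply, Equiv.apply_symm_apply]
    rw [hx, hy, map_sum]
    refine Finset.sum_congr rfl (fun i _ => ?_)
    rw [Adjunction.homAddEquiv_apply, Adjunction.homEquiv_naturality_right]
    rfl

/-- Transfer of the decomposition property along an adjunction (to the left adjoint side). -/
lemma DP_adj' {L : D' ⥤ D''} {G : D'' ⥤ D'} (adj : L ⊣ G) [L.Additive] (H : D ⥤ D'') (K : D')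
    (h : DP K (H ⋙ G)) : DP (L.obj K) H := by
  intro ι X x
  obtain ⟨F, y, hy0, hy⟩ := h ι X (adj.homEquiv _ _ x)
  refine ⟨F, fun i => (adj.homEquiv _ _).symm (y i), fun i hi => ?_, ?_⟩
  · dsimp only; rw [hy0 i hi]; exact adj.homAddEquiv_symm_zero _ _
  · have hx : x = (adj.homAddEquiv _ _).symm (adj.homEquiv _ _ x) := by
      rw [Adjunction.homAddEquiv_symm_apply, Equiv.symm_apply_apply]
    rw [hx, hy, map_sum]
    refine Finset.sum_congr rfl (fun i _ => ?_)
    rw [Adjunction.homAddEquiv_symm_apply, Functor.comp_map,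
      Adjunction.homEquiv_naturality_right_symm]

/-- Transfer along a natural isomorphism of functors. -/
lemma DP_natIso {H H' : D ⥤ D'} (e : H ≅ H') (K : D') (h : DP K H) : DP K H' := by
  intro ι X x
  obtain ⟨F, y, hy0, hy⟩ := h ι X (x ≫ e.inv.app _)
  refine ⟨F, fun i => y i ≫ e.hom.app _, fun i hi => ?_, ?_⟩
  · dsimp only; rw [hy0 i hi, zero_comp]
  · have hx : x = (x ≫ e.inv.app _) ≫ e.hom.app _ := by simp
    rw [hx, hy, Preadditive.sum_comp]
    refine Finset.sum_congr rfl (fun i _ => ?_)
    simp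

/-- Transfer along an isomorphism of source objects. -/
lemma DP_iso {K K' : D'} (e : K ≅ K') (H : D ⥤ D') (h : DP K H) : DP K' H := by
  intro ι X x
  obtain ⟨F, y, hy0, hy⟩ := h ι X (e.hom ≫ x)
  refine ⟨F, fun i => e.inv ≫ y i, fun i hi => ?_, ?_⟩
  · dsimp only; rw [hy0 i hi, comp_zero]
  · have hx : x = e.inv ≫ (e.hom ≫ x) := by simp
    rw [hx, hy, Preadditive.comp_sum]
    refine Finset.sum_congr rfl (fun i _ => ?_)
    simp

end Transfer

section Shift

variable {D : Type u} [Category.{v} D] [Preadditive D] [HasCoproducts.{v} D] [HasShift D ℤ]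
  [∀ n : ℤ, (shiftFunctor D n).Additive]

/-- The shift of a compact object is compact. -/
lemma compact_shift (K : D) (hK : CohDer.IsCompactObject K) :
    CohDer.IsCompactObject (K⟦(1 : ℤ)⟧) := by
  rw [compact_iff_DP]
  have adj : shiftFunctor D (1 : ℤ) ⊣ shiftFunctor D (-1 : ℤ) :=
    (shiftEquiv D (1 : ℤ)).toAdjunction
  have h1 : DP K (shiftFunctor D (-1 : ℤ)) := DP_of_compact _ K hK
  have h2 : DP K (𝟭 D ⋙ shiftFunctor D (-1 : ℤ)) :=
    DP_natIso (Functor.leftUnitor _).symm K h1
  exact DP_adj' adj (𝟭 D) K h2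

end Shift

section Extra

variable {D : Type u} [Category.{v} D] [Preadditive D] [HasCoproducts.{v} D]

open Classical in
/-- Value of `homSumToHomCoprod` on a finite sum of pure tensors. -/
lemma homSum_sum_of (K : D) {ι : Type v} (X : ι → D) (F : Finset ι) (y : ∀ i, K ⟶ X i) :
    CohDer.homSumToHomCoprod K X (∑ i ∈ F, DirectSum.of _ i (y i)) =
      ∑ i ∈ F, y i ≫ Sigma.ι X i := by
  rw [map_sum]
  exact Finset.sum_congr rfl (fun i _ => homSum_of K X i (y i))

end Extra

section Transfer2

variable {D : Type u} {D' : Type u'} [Category.{v} D] [Category.{v} D']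
  [Preadditive D] [Preadditive D'] [HasCoproducts.{v} D]

/-- Variant of `DP_of_compact` assuming only that coproducts are preserved. -/
lemma DP_of_compact' [HasCoproducts.{v} D'] (L : D ⥤ D')
    [∀ (κ : Type v), PreservesColimitsOfShape (Discrete κ) L]
    (K : D') (hK : CohDer.IsCompactObject K) : DP K L := by
  intro ι X x
  obtain ⟨F, y, hy0, hy⟩ := (compact_iff_DP K).mp hK ι (fun i => L.obj (X i))
    (x ≫ (PreservesCoproduct.iso L X).hom)
  refine ⟨F, y, hy0, ?_⟩
  have hx : x = (x ≫ (PreservesCoproduct.iso L X).hom) ≫ (PreservesCoproduct.iso L X).inv := by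
    rw [Category.assoc, Iso.hom_inv_id, Category.comp_id]
  rw [hx, hy, Preadditive.sum_comp]
  refine Finset.sum_congr rfl (fun i _ => ?_)
  rw [Category.assoc, PreservesCoproduct.inv_hom]
  dsimp only [Functor.id_map]
  rw [ι_comp_sigmaComparison]

end Transfer2

end Groth.Agent.Lib.Helper83.Cpt
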