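import Mathlib.CategoryTheory.Triangulated.Subcategory
import Groth.Agent.Lib.Helper83.Compact

/-!
# Compact objects form a triangulated subcategory (helper83)
-/

set_option autoImplicit false
set_option linter.unusedSectionVars false
universe v u
open CategoryTheory CategoryTheory.Limits

namespace Groth.Agent.Lib.Helper83.Cpt

section Triangulated

open CategoryTheory.Pretriangulated

variable {D : Type u} [Category.{v} D] [Preadditive D] [HasZeroObject D] [HasShift D ℤ]
  [∀ n : ℤ, (shiftFunctor D n).Additive] [Pretriangulated D] [HasCoproducts.{v} D]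

omit [HasZeroObject D] [Pretriangulated D] in
/-- Any shift of a compact object is compact. -/
lemma compact_shift' (K : D) (hK : CohDer.IsCompactObject K) (n : ℤ) :
    CohDer.IsCompactObject (K⟦n⟧) := by
  rw [compact_iff_DP]
  have adj : shiftFunctor D n ⊣ shiftFunctor D (-n) := (shiftEquiv D n).toAdjunction
  have h1 : DP K (shiftFunctor D (-n)) := DP_of_compact _ K hK
  have h2 : DP K (𝟭 D ⋙ shiftFunctor D (-n)) := DP_natIso (Functor.leftUnitor _).symm K h1
  exact DP_adj' adj (𝟭 D) K h2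

omit [HasZeroObject D] [HasShift D ℤ] [∀ n : ℤ, (shiftFunctor D n).Additive]
  [Pretriangulated D] in
/-- Compactness is invariant under isomorphism. -/
lemma compact_of_iso {K K' : D} (e : K ≅ K') (hK : CohDer.IsCompactObject K) :
    CohDer.IsCompactObject K' := by
  rw [compact_iff_DP] at hK ⊢
  exact DP_iso e _ hK

omit [HasZeroObject D] [HasShift D ℤ] [∀ n : ℤ, (shiftFunctor D n).Additive]
  [Pretriangulated D] in
/-- A zero object is compact. -/
lemma compact_of_isZero {K : D} (hK : IsZero K) : CohDer.IsCompactObject K := by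
  rw [compact_iff_DP]
  intro ι X x
  exact ⟨∅, fun _ => 0, fun _ _ => rfl, hK.eq_of_src _ _⟩

/-- The middle term of a distinguished triangle with compact ends is compact. -/
lemma compact_ext₂ (T : Triangle D) (hT : T ∈ distTriang D) (h₁ : CohDer.IsCompactObject T.obj₁)
    (h₃ : CohDer.IsCompactObject T.obj₃) : CohDer.IsCompactObject T.obj₂ := by
  classical
  intro ι X
  refine ⟨homSum_injective _ X, fun x => ?_⟩
  obtain ⟨F, a, _, ha⟩ := (compact_iff_DP _).mp h₁ ι X (T.mor₁ ≫ x)
  dsimp only [Functor.id_obj, Functor.id_map] at a ha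
  -- each `a i` factors through `T.mor₁`
  have hT' := inv_rot_of_distTriang _ hT
  obtain ⟨r, hr1, hr2⟩ : ∃ r : T.obj₃⟦(-1 : ℤ)⟧ ⟶ T.obj₁, r ≫ T.mor₁ = 0 ∧
      ∀ {Z : D} (a : T.obj₁ ⟶ Z), r ≫ a = 0 → ∃ b : T.obj₂ ⟶ Z, a = T.mor₁ ≫ b :=
    ⟨T.invRotate.mor₁, comp_distTriang_mor_zero₁₂ _ hT',
      fun a h => Triangle.yoneda_exact₂ _ hT' a h⟩
  have h0 : ∀ i ∈ F, r ≫ a i = 0 := by
    refine sum_comp_map_ι_eq_zero (𝟭 D) X F (fun i => r ≫ a i) ?_
    dsimp only [Functor.id_obj, Functor.id_map]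
    calc ∑ i ∈ F, (r ≫ a i) ≫ Sigma.ι X i
        = r ≫ ∑ i ∈ F, a i ≫ Sigma.ι X i := by
          rw [Preadditive.comp_sum]
          exact Finset.sum_congr rfl (fun i _ => Category.assoc _ _ _)
      _ = 0 := by rw [← ha, ← Category.assoc, hr1, zero_comp]
  have hb : ∀ i, ∃ b : T.obj₂ ⟶ X i, i ∈ F → a i = T.mor₁ ≫ b := by
    intro i
    by_cases hi : i ∈ F
    · obtain ⟨b, hb⟩ := hr2 (a i) (h0 i hi)
      exact ⟨b, fun _ => hb⟩
    · exact ⟨0, fun h => absurd h hi⟩
  choose b hb using hb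
  have hx' : T.mor₁ ≫ (x - ∑ i ∈ F, b i ≫ Sigma.ι X i) = 0 := by
    rw [Preadditive.comp_sub, ha, Preadditive.comp_sum, sub_eq_zero]
    refine Finset.sum_congr rfl (fun i hi => ?_)
    rw [hb i hi, Category.assoc]
  obtain ⟨c, hc⟩ := Triangle.yoneda_exact₂ _ hT _ hx'
  obtain ⟨F', c', _, hc'⟩ := (compact_iff_DP _).mp h₃ ι X c
  dsimp only [Functor.id_obj, Functor.id_map] at c' hc'
  refine ⟨∑ i ∈ F', DirectSum.of _ i (T.mor₂ ≫ c' i) + ∑ i ∈ F, DirectSum.of _ i (b i), ?_⟩
  rw [map_add, homSum_sum_of, homSum_sum_of]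
  have : ∑ i ∈ F', (T.mor₂ ≫ c' i) ≫ Sigma.ι X i = x - ∑ i ∈ F, b i ≫ Sigma.ι X i := by
    rw [hc, hc', Preadditive.comp_sum]
    exact Finset.sum_congr rfl (fun i _ => Category.assoc _ _ _)
  rw [this, sub_add_cancel]

open ZeroObject in
/-- Compact objects form a triangulated subcategory. -/
theorem compact_isTriangulated :
    ObjectProperty.IsTriangulated (fun K : D => CohDer.IsCompactObject K) := by
  have hiso : ObjectProperty.IsClosedUnderIsomorphisms (fun K : D => CohDer.IsCompactObject K) :=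
    ⟨fun e h => compact_of_iso e h⟩
  have h2 : ObjectProperty.IsTriangulatedClosed₂ (fun K : D => CohDer.IsCompactObject K) :=
    ObjectProperty.IsTriangulatedClosed₂.mk' (fun T hT h₁ h₃ => compact_ext₂ T hT h₁ h₃)
  have hz : ObjectProperty.ContainsZero (fun K : D => CohDer.IsCompactObject K) :=
    ⟨⟨(0 : D), isZero_zero D, compact_of_isZero (isZero_zero D)⟩⟩
  have hs : ObjectProperty.IsStableUnderShift (fun K : D => CohDer.IsCompactObject K) ℤ :=
    ⟨fun n => ⟨fun K hK => compact_shift' K hK n⟩⟩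
  exact { }

end Triangulated

end Groth.Agent.Lib.Helper83.Cpt
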