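import Mathlib.CategoryTheory.Triangulated.Functor
import Mathlib.CategoryTheory.Triangulated.Adjunction
import Mathlib.CategoryTheory.Triangulated.Orthogonal
import Groth.Prelude.Def_W4c3perfectstacksMV

/-!
# Mayer–Vietoris squares of triangulated categories: shared lemmas (helper83)
-/

set_option autoImplicit false
set_option linter.unusedSectionVars false
universe v u
open CategoryTheory CategoryTheory.Limits CategoryTheory.Pretriangulated

namespace Groth.Agent.Lib.Helper83.MV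

section General

variable {C : Type u} [Category.{v} C] [Preadditive C] [HasZeroObject C] [HasShift C ℤ]
  [∀ n : ℤ, (shiftFunctor C n).Additive] [Pretriangulated C]

/-- If `E` lies in `P` and in the right orthogonal of `P`, it is zero. -/
lemma isZero_of_mem_of_rightOrthogonal (P : ObjectProperty C) (E : C) (h₁ : P E)
    (h₂ : P.rightOrthogonal E) : IsZero E := by
  rw [IsZero.iff_id_eq_zero]
  exact h₂ (𝟙 E) h₁

/-- For a distinguished triangle `A ⟶ B ⟶ C' ⟶ A⟦1⟧` with `C'` right orthogonal to a shift-stable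
class `P`, composition with `A ⟶ B` is bijective on morphisms out of objects of `P`. -/
lemma comp_mor₁_bijective (P : ObjectProperty C) [P.IsStableUnderShift ℤ]
    (T : Triangle C) (hT : T ∈ distTriang C) (h₃ : P.rightOrthogonal T.obj₃)
    (W : C) (hW : P W) :
    Function.Bijective (fun x : W ⟶ T.obj₁ => x ≫ T.mor₁) := by
  constructor
  · intro x y hxy
    have h0 : (x - y) ≫ T.mor₁ = 0 := by
      simp only [Preadditive.sub_comp]; exact sub_eq_zero.mpr hxy
    obtain ⟨g, hg⟩ := Triangle.coyoneda_exact₂ _ (inv_rot_of_distTriang _ hT) (x - y) h0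
    have hg0 : g = 0 := by
      have : P.rightOrthogonal (T.obj₃⟦(-1 : ℤ)⟧) := P.rightOrthogonal.le_shift (-1) _ h₃
      exact this g hW
    rw [hg0, zero_comp] at hg
    exact sub_eq_zero.mp hg
  · intro y
    have h0 : y ≫ T.mor₂ = 0 := h₃ _ hW
    obtain ⟨g, hg⟩ := Triangle.coyoneda_exact₂ _ hT y h0
    exact ⟨g, hg.symm⟩

/-- If composition with `T.mor₁` is bijective on morphisms out of all objects of a shift-stable class
`P`, then the cone `T.obj₃` is right orthogonal to `P`. -/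
lemma obj₃_rightOrthogonal (P : ObjectProperty C) [P.IsStableUnderShift ℤ]
    (T : Triangle C) (hT : T ∈ distTriang C)
    (h : ∀ W : C, P W → Function.Bijective (fun x : W ⟶ T.obj₁ => x ≫ T.mor₁)) :
    P.rightOrthogonal T.obj₃ := by
  intro W x hW
  -- step 1: `x ≫ T.mor₃ = 0`
  have h1 : x ≫ T.mor₃ = 0 := by
    set y := x ≫ T.mor₃ with hy
    have hy1 : y ≫ T.mor₁⟦(1 : ℤ)⟧' = 0 := by
      rw [hy, Category.assoc, comp_distTriang_mor_zero₃₁ _ hT, comp_zero]
    let i := shiftFunctorCompIsoId C (1 : ℤ) (-1) (by simp)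
    have hy2 : (y⟦(-1 : ℤ)⟧' ≫ i.hom.app T.obj₁) ≫ T.mor₁ = 0 := by
      have nat := i.hom.naturality T.mor₁
      dsimp at nat
      rw [Category.assoc, ← nat, ← Category.assoc, ← Functor.map_comp, hy1, Functor.map_zero,
        zero_comp]
    have hy3 : y⟦(-1 : ℤ)⟧' ≫ i.hom.app T.obj₁ = 0 := by
      apply (h _ (P.le_shift (-1 : ℤ) _ hW)).1
      simp only [zero_comp]
      exact hy2
    have hy4 : y⟦(-1 : ℤ)⟧' = 0 := by
      rw [← cancel_mono (i.hom.app T.obj₁), hy3, zero_comp]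
    exact (shiftFunctor C (-1 : ℤ)).map_injective (by rw [hy4, Functor.map_zero])
  obtain ⟨z, hz⟩ := Triangle.coyoneda_exact₃ _ hT x h1
  obtain ⟨w, hw⟩ := (h W hW).2 z
  dsimp only at hw
  rw [hz, ← hw, Category.assoc, comp_distTriang_mor_zero₁₂ _ hT, comp_zero]

/-- A morphism between objects right orthogonal to a triangulated class `P`, whose cone lies in `P`,
is an isomorphism. -/
lemma isIso_of_rightOrthogonal (P : ObjectProperty C) [P.IsStableUnderShift ℤ]
    (T : Triangle C) (hT : T ∈ distTriang C) (h₁ : P.rightOrthogonal T.obj₁)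
    (h₂ : P.rightOrthogonal T.obj₂) (h₃ : P T.obj₃) : IsIso T.mor₁ := by
  rw [← Triangle.isZero₃_iff_isIso₁ _ hT]
  apply isZero_of_mem_of_rightOrthogonal P _ h₃
  exact P.rightOrthogonal.ext_of_isTriangulatedClosed₃ T hT h₁ h₂

/-- In a distinguished triangle `X ⟶ Y ⟶ Z ⟶ X⟦1⟧` where `Y` is split as `Y₁ ⊕ Y₂` and the component
`X ⟶ Y₁` is an isomorphism, the component `Y₂ ⟶ Z` is an isomorphism. -/
lemma isIso_inr_comp_mor₂ (T : Triangle C) (hT : T ∈ distTriang C) {Y₁ Y₂ : C}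
    (π : T.obj₂ ⟶ Y₁) (ι : Y₂ ⟶ T.obj₂) (σ : Y₁ ⟶ T.obj₂) (ρ : T.obj₂ ⟶ Y₂)
    (hιρ : ι ≫ ρ = 𝟙 _) (hιπ : ι ≫ π = 0) (htot : ρ ≫ ι + π ≫ σ = 𝟙 _)
    [IsIso (T.mor₁ ≫ π)] : IsIso (ι ≫ T.mor₂) := by
  have hδ : T.mor₃ = 0 := by
    have h1 : T.mor₃ ≫ (T.mor₁ ≫ π)⟦(1 : ℤ)⟧' = 0 := by
      rw [Functor.map_comp, ← Category.assoc, comp_distTriang_mor_zero₃₁ _ hT, zero_comp]
    rw [← cancel_mono ((T.mor₁ ≫ π)⟦(1 : ℤ)⟧'), h1, zero_comp]
  apply isIso_of_yoneda_map_bijective
  intro W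
  constructor
  · intro y y' hyy
    dsimp only at hyy
    have h0 : ((y - y') ≫ ι) ≫ T.mor₂ = 0 := by
      simp only [Preadditive.sub_comp, Category.assoc]; exact sub_eq_zero.mpr hyy
    obtain ⟨x, hx⟩ := Triangle.coyoneda_exact₂ _ hT _ h0
    have hx0 : x = 0 := by
      rw [← cancel_mono (T.mor₁ ≫ π), zero_comp, ← Category.assoc, ← hx, Category.assoc, hιπ,
        comp_zero]
    rw [hx0, zero_comp] at hx
    have : (y - y') = 0 := by
      calc (y - y') = ((y - y') ≫ ι) ≫ ρ := by rw [Category.assoc, hιρ, Category.comp_id]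
        _ = 0 := by rw [hx, zero_comp]
    exact sub_eq_zero.mp this
  · intro z
    obtain ⟨y, hy⟩ := Triangle.coyoneda_exact₃ _ hT z (by rw [hδ, comp_zero])
    let x : W ⟶ T.obj₁ := y ≫ π ≫ inv (T.mor₁ ≫ π)
    have hy' : (y - x ≫ T.mor₁) ≫ π = 0 := by
      simp only [x, Preadditive.sub_comp, Category.assoc, IsIso.inv_hom_id, Category.comp_id,
        sub_self]
    refine ⟨(y - x ≫ T.mor₁) ≫ ρ, ?_⟩
    dsimp only
    have : (y - x ≫ T.mor₁) ≫ ρ ≫ ι = y - x ≫ T.mor₁ := by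
      calc (y - x ≫ T.mor₁) ≫ ρ ≫ ι = (y - x ≫ T.mor₁) ≫ (ρ ≫ ι + π ≫ σ) := by
            rw [Preadditive.comp_add, ← Category.assoc _ π σ, hy', zero_comp, add_zero]
        _ = y - x ≫ T.mor₁ := by rw [htot, Category.comp_id]
    rw [Category.assoc, ← Category.assoc ρ, ← Category.assoc, this, Preadditive.sub_comp,
      Category.assoc, comp_distTriang_mor_zero₁₂ _ hT, comp_zero, sub_zero, hy]

end General

section MV

open W4c3perfectstacks W4c3perfectstacks.MVSq

variable {S S' R R' : Type u} [Category.{v} S] [Category.{v} S'] [Category.{v} R] [Category.{v} R']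
    [Preadditive S] [Preadditive S'] [Preadditive R] [Preadditive R']
    [HasZeroObject S] [HasZeroObject S'] [HasZeroObject R] [HasZeroObject R']
    [HasShift S ℤ] [HasShift S' ℤ] [HasShift R ℤ] [HasShift R' ℤ]
    [∀ n : ℤ, (shiftFunctor S n).Additive] [∀ n : ℤ, (shiftFunctor S' n).Additive]
    [∀ n : ℤ, (shiftFunctor R n).Additive] [∀ n : ℤ, (shiftFunctor R' n).Additive]
    [Pretriangulated S] [Pretriangulated S'] [Pretriangulated R] [Pretriangulated R']
    (q : W4c3perfectstacks.MVSq S S' R R')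
    [q.jst.CommShift ℤ] [q.fst.CommShift ℤ] [q.jpst.CommShift ℤ] [q.gst.CommShift ℤ]
    [q.jst.IsTriangulated] [q.fst.IsTriangulated] [q.jpst.IsTriangulated] [q.gst.IsTriangulated]

/-- The objects of `S` killed by `j^*`. -/
def kerJ : ObjectProperty S := fun N => IsZero (q.jst.obj N)

lemma kerJ_iff (N : S) : kerJ q N ↔ IsZero (q.jst.obj N) := Iff.rfl

instance : (kerJ q).IsStableUnderShift ℤ where
  isStableUnderShiftBy n := ⟨fun N hN => by
    change IsZero (q.jst.obj (N⟦n⟧))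
    have hN' : IsZero (q.jst.obj N) := hN
    exact IsZero.of_iso ((shiftFunctor R n).map_isZero hN') ((q.jst.commShiftIso n).app N)⟩

/-- Base change is natural. -/
lemma bcApp_naturality {M M' : S'} (m : M ⟶ M') :
    q.jst.map (q.fls.map m) ≫ q.bcApp M' = q.bcApp M ≫ q.gls.map (q.jpst.map m) := by
  unfold bcApp
  have h1 := q.adjG.unit.naturality (q.jst.map (q.fls.map m))
  have h2 := q.e.hom.naturality (q.fls.map m)
  have h3 := q.adjF.counit.naturality m
  dsimp at h1 h2 h3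
  rw [reassoc_of% h1]
  simp only [Category.assoc, ← Functor.map_comp]
  congr 2
  rw [reassoc_of% h2, ← Functor.map_comp, h3, Functor.map_comp]

/-- The exchange map is natural. -/
lemma bc2App_naturality {P P' : R} (p : P ⟶ P') :
    q.fst.map (q.jls.map p) ≫ q.bc2App P' = q.bc2App P ≫ q.jpls.map (q.gst.map p) := by
  unfold bc2App
  have h1 := q.adjJp.unit.naturality (q.fst.map (q.jls.map p))
  have h2 := q.e.inv.naturality (q.jls.map p)
  have h3 := q.adjJ.counit.naturality p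
  dsimp at h1 h2 h3
  rw [reassoc_of% h1]
  simp only [Category.assoc, ← Functor.map_comp]
  congr 2
  rw [reassoc_of% h2, ← Functor.map_comp, h3, Functor.map_comp]

variable {q}

/-- `j^*` of the unit of `j` is invertible when the counit is. -/
lemma isIso_jst_map_unitJ (hq : q.IsMV) (N : S) : IsIso (q.jst.map (q.adjJ.unit.app N)) := by
  have := hq.isIso_counitJ
  have h := q.adjJ.left_triangle_components N
  have : IsIso (q.adjJ.counit.app (q.jst.obj N)) := inferInstance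
  exact IsIso.of_isIso_fac_right (h := 𝟙 _) h

/-- `j'^*` of the unit of `j'` is invertible when the counit is. -/
lemma isIso_jpst_map_unitJp (hq : q.IsMV) (M : S') : IsIso (q.jpst.map (q.adjJp.unit.app M)) := by
  have := hq.isIso_counitJp
  have h := q.adjJp.left_triangle_components M
  have : IsIso (q.adjJp.counit.app (q.jpst.obj M)) := inferInstance
  exact IsIso.of_isIso_fac_right (h := 𝟙 _) h

/-- Objects `j_* P` are right orthogonal to the kernel of `j^*`. -/
lemma jls_rightOrthogonal (P : R) : (kerJ q).rightOrthogonal (q.jls.obj P) := by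
  intro K x hK
  apply (q.adjJ.homEquiv K P).symm.injective
  exact (show IsZero (q.jst.obj K) from hK).eq_of_src _ _

/-- If `j^* ψ = 0` then `j'^* f^* ψ = 0`. -/
lemma jpst_fst_map_eq_zero {X Y : S} (ψ : X ⟶ Y) (h : q.jst.map ψ = 0) :
    q.jpst.map (q.fst.map ψ) = 0 := by
  have nat := q.e.hom.naturality ψ
  dsimp at nat
  rw [h, Functor.map_zero, zero_comp] at nat
  rw [← cancel_epi (q.e.hom.app X), ← nat, comp_zero]

/-- A morphism into `f_* f^* j_* P` which dies after `j'^* f^*` is zero. -/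
lemma eq_zero_of_jpst_fst_map_eq_zero (hq : q.IsMV) {X : S} {P : R}
    (ψ : X ⟶ q.fls.obj (q.fst.obj (q.jls.obj P))) (h : q.jpst.map (q.fst.map ψ) = 0) :
    ψ = 0 := by
  have := hq.isIso_bc2App P
  apply (q.adjF.homEquiv _ _).symm.injective
  rw [← cancel_mono (q.bc2App P)]
  apply (q.adjJp.homEquiv _ _).symm.injective
  simp only [Adjunction.homEquiv_counit, Functor.map_comp, h, zero_comp, Functor.map_zero]

/-- A morphism into `f_* f^* j_* P` which dies after `j^*` is zero. -/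
lemma eq_zero_of_jst_map_eq_zero (hq : q.IsMV) {X : S} {P : R}
    (ψ : X ⟶ q.fls.obj (q.fst.obj (q.jls.obj P))) (h : q.jst.map ψ = 0) :
    ψ = 0 :=
  eq_zero_of_jpst_fst_map_eq_zero hq ψ (jpst_fst_map_eq_zero ψ h)

/-- Objects `f_* f^* j_* P` are right orthogonal to the kernel of `j^*`. -/
lemma fls_fst_jls_rightOrthogonal (hq : q.IsMV) (P : R) :
    (kerJ q).rightOrthogonal (q.fls.obj (q.fst.obj (q.jls.obj P))) := by
  intro K x hK
  apply eq_zero_of_jst_map_eq_zero hq
  exact (show IsZero (q.jst.obj K) from hK).eq_of_src _ _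

/-- `j^* f_*` sends `j'^*`-isomorphisms to isomorphisms. -/
lemma isIso_jst_fls_map (hq : q.IsMV) {M M' : S'} (m : M ⟶ M') [IsIso (q.jpst.map m)] :
    IsIso (q.jst.map (q.fls.map m)) := by
  have := hq.isIso_bcApp M
  have := hq.isIso_bcApp M'
  have h := bcApp_naturality q m
  have : IsIso (q.jst.map (q.fls.map m) ≫ q.bcApp M') := by rw [h]; infer_instance
  exact IsIso.of_isIso_comp_right _ (q.bcApp M')

/-- `j'^* f^*` sends `j^*`-isomorphisms to isomorphisms. -/
lemma isIso_jpst_fst_map {N N' : S} (n : N ⟶ N') [IsIso (q.jst.map n)] :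
    IsIso (q.jpst.map (q.fst.map n)) := by
  have nat := q.e.hom.naturality n
  dsimp at nat
  have : IsIso (q.e.hom.app N ≫ q.jpst.map (q.fst.map n)) := by rw [← nat]; infer_instance
  exact IsIso.of_isIso_comp_left (q.e.hom.app N) _

/-- The fibre of the unit `N ⟶ j_* j^* N` lies in the kernel of `j^*`. -/
lemma kerJ_of_distTriang_unitJ (hq : q.IsMV) {N K : S} (k : K ⟶ N)
    (w : q.jls.obj (q.jst.obj N) ⟶ K⟦(1 : ℤ)⟧)
    (hT : Triangle.mk k (q.adjJ.unit.app N) w ∈ distTriang S) : kerJ q K := by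
  have := isIso_jst_map_unitJ hq N
  have hT' := q.jst.map_distinguished _ hT
  exact Triangle.isZero₁_of_isIso₂ _ hT' (show IsIso (q.jst.map (q.adjJ.unit.app N)) by
    infer_instance)

/-- For `K'` killed by `j^*`, composition with the unit `N ⟶ f_* f^* N` is bijective on morphisms out
of `K'`. -/
lemma comp_unitF_bijective (hq : q.IsMV) (K' : S) (hK' : kerJ q K') (N : S) :
    Function.Bijective (fun x : K' ⟶ N => x ≫ q.adjF.unit.app N) := by
  let _ := q.adjF.rightAdjointCommShift ℤ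
  have := q.adjF.commShift_of_leftAdjoint ℤ
  have : q.fls.IsTriangulated := q.adjF.isTriangulated_rightAdjoint
  obtain ⟨K, k, w, hT⟩ := distinguished_cocone_triangle₁ (q.adjJ.unit.app N)
  have hK : kerJ q K := kerJ_of_distTriang_unitJ hq k w hT
  have b1 : Function.Bijective (fun x : K' ⟶ K => x ≫ (show K ⟶ N from k)) :=
    comp_mor₁_bijective (kerJ q) _ hT (jls_rightOrthogonal _) K' hK'
  have b2 : Function.Bijective (fun x : K' ⟶ q.fls.obj (q.fst.obj K) =>
      x ≫ q.fls.map (q.fst.map k)) :=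
    comp_mor₁_bijective (kerJ q) _ ((q.fst ⋙ q.fls).map_distinguished _ hT)
      (fls_fst_jls_rightOrthogonal hq _) K' hK'
  have hiso : IsIso (show K ⟶ q.fls.obj (q.fst.obj K) from q.adjF.unit.app K) :=
    hq.isIso_unitF K hK
  have nat : (show K ⟶ N from k) ≫ q.adjF.unit.app N =
      (show K ⟶ q.fls.obj (q.fst.obj K) from q.adjF.unit.app K) ≫ q.fls.map (q.fst.map k) :=
    q.adjF.unit.naturality k
  revert b1 b2 hiso nat
  generalize (show K ⟶ q.fls.obj (q.fst.obj K) from q.adjF.unit.app K) = ηK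
  generalize (show K ⟶ N from k) = k'
  generalize q.fls.map (q.fst.map k) = Fk
  intro b1 b2 hiso nat
  constructor
  · intro x y hxy
    dsimp only at hxy
    obtain ⟨x', rfl⟩ := b1.2 x
    obtain ⟨y', rfl⟩ := b1.2 y
    dsimp only at hxy ⊢
    congr 1
    rw [Category.assoc, Category.assoc, nat, ← Category.assoc, ← Category.assoc] at hxy
    have := b2.1 hxy
    exact (cancel_mono _).mp this
  · intro z
    obtain ⟨z', rfl⟩ := b2.2 z
    refine ⟨(z' ≫ inv ηK) ≫ k', ?_⟩
    dsimp only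
    rw [Category.assoc, nat]
    simp

/-- `f^*` is bijective on morphisms out of objects killed by `j^*`. -/
lemma fst_map_bijective (hq : q.IsMV) (K' : S) (hK' : kerJ q K') (N : S) :
    Function.Bijective (fun x : K' ⟶ N => q.fst.map x) := by
  have h := comp_unitF_bijective hq K' hK' N
  have : (fun x : K' ⟶ N => q.fst.map x) =
      (q.adjF.homEquiv K' (q.fst.obj N)).symm ∘ (fun x : K' ⟶ N => x ≫ q.adjF.unit.app N) := by
    funext x
    dsimp only [Function.comp]
    rw [Equiv.eq_symm_apply, Adjunction.homEquiv_unit]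
    exact (q.adjF.unit.naturality x).symm
  rw [this]
  exact (Equiv.bijective _).comp h

/-- `f_*` of an object killed by `j'^*` is killed by `j^*`. -/
lemma kerJ_fls (hq : q.IsMV) (M : S') (hM : IsZero (q.jpst.obj M)) : kerJ q (q.fls.obj M) := by
  have := hq.isIso_bcApp M
  have : q.gls.Additive := q.adjG.right_adjoint_additive
  exact IsZero.of_iso (q.gls.map_isZero hM) (asIso (q.bcApp M))

lemma isIso_neg' {C : Type*} [Category C] [Preadditive C] {X Y : C} (f : X ⟶ Y) [IsIso f] :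
    IsIso (-f) :=
  ⟨⟨-inv f, by simp, by simp⟩⟩

/-- For `W` killed by `j^*`, composition with the first map of the Mayer–Vietoris triangle is
bijective on morphisms out of `W`. -/
lemma comp_mvA_bijective (hq : q.IsMV) (W : S) (hW : kerJ q W) (N : S) :
    Function.Bijective (fun x : W ⟶ N =>
      x ≫ biprod.lift (q.adjJ.unit.app N) (q.adjF.unit.app N)) := by
  have h := comp_unitF_bijective hq W hW N
  constructor
  · intro x y hxy
    apply h.1
    dsimp only at hxy ⊢
    have := congrArg (fun t => t ≫ biprod.snd) hxy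
    simpa using this
  · intro z
    obtain ⟨x, hx⟩ := h.2 (z ≫ biprod.snd)
    refine ⟨x, ?_⟩
    dsimp only at hx ⊢
    apply biprod.hom_ext
    · rw [Category.assoc, biprod.lift_fst]
      rw [jls_rightOrthogonal (q := q) _ (x ≫ q.adjJ.unit.app N) hW,
        jls_rightOrthogonal (q := q) _ (z ≫ biprod.fst) hW]
    · rw [Category.assoc, biprod.lift_snd, hx]

/-- The two maps of the Mayer–Vietoris triangle compose to zero. -/
lemma mvA_comp_mvB (N : S) :
    biprod.lift (q.adjJ.unit.app N) (q.adjF.unit.app N) ≫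
      biprod.desc (q.adjF.unit.app (q.jls.obj (q.jst.obj N)))
        (-(q.fls.map (q.fst.map (q.adjJ.unit.app N)))) = 0 := by
  have nat := q.adjF.unit.naturality (q.adjJ.unit.app N)
  dsimp at nat
  rw [biprod.lift_desc, Preadditive.comp_neg, ← sub_eq_add_neg, sub_eq_zero]
  exact nat

/-- Abstract existence criterion for a distinguished triangle `N ⟶ Y ⟶ T ⟶ N⟦1⟧` with prescribed
first two maps. -/
lemma exists_distTriang_aux (N Y T : S) (a : N ⟶ Y) (b : Y ⟶ T) (hab : a ≫ b = 0)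
    (hbij : ∀ W : S, kerJ q W → Function.Bijective (fun x : W ⟶ N => x ≫ a))
    (hTo : (kerJ q).rightOrthogonal T)
    {Y₁ Y₂ : S} (π : Y ⟶ Y₁) (ι : Y₂ ⟶ Y) (σ : Y₁ ⟶ Y) (ρ : Y ⟶ Y₂)
    (hιρ : ι ≫ ρ = 𝟙 _) (hιπ : ι ≫ π = 0) (htot : ρ ≫ ι + π ≫ σ = 𝟙 _)
    (h1 : IsIso (q.jst.map (a ≫ π))) (h2 : IsIso (q.jst.map (ι ≫ b))) :
    ∃ d : T ⟶ N⟦(1 : ℤ)⟧, Triangle.mk a b d ∈ distTriang S := by
  obtain ⟨C, c, δ, hT⟩ := distinguished_cocone_triangle a
  obtain ⟨φ, hφ⟩ := Triangle.yoneda_exact₂ _ hT b hab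
  change C ⟶ T at φ
  change b = c ≫ φ at hφ
  have hC : (kerJ q).rightOrthogonal C := obj₃_rightOrthogonal (kerJ q) _ hT hbij
  have hφiso : IsIso φ := by
    obtain ⟨E, ψ, χ, hE⟩ := distinguished_cocone_triangle φ
    refine isIso_of_rightOrthogonal (kerJ q) _ hE hC hTo ?_
    -- the cone of `φ` is killed by `j^*`
    have hE' := q.jst.map_distinguished _ hE
    refine Triangle.isZero₃_of_isIso₁ _ hE' ?_
    change IsIso (q.jst.map φ)
    have hT' := q.jst.map_distinguished _ hT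
    have h3 : IsIso (q.jst.map ι ≫ q.jst.map c) := by
      have : IsIso ((q.jst.mapTriangle.obj (Triangle.mk a c δ)).mor₁ ≫ q.jst.map π) := by
        change IsIso (q.jst.map a ≫ q.jst.map π)
        rw [← Functor.map_comp]; exact h1
      refine isIso_inr_comp_mor₂ (q.jst.mapTriangle.obj (Triangle.mk a c δ)) hT'
        (q.jst.map π) (q.jst.map ι) (q.jst.map σ) (q.jst.map ρ) ?_ ?_ ?_
      · change q.jst.map ι ≫ q.jst.map ρ = 𝟙 _
        rw [← Functor.map_comp, hιρ, q.jst.map_id]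
      · change q.jst.map ι ≫ q.jst.map π = 0
        rw [← Functor.map_comp, hιπ, Functor.map_zero]
      · change q.jst.map ρ ≫ q.jst.map ι + q.jst.map π ≫ q.jst.map σ = 𝟙 (q.jst.obj Y)
        rw [← Functor.map_comp, ← Functor.map_comp, ← Functor.map_add, htot, q.jst.map_id]
    have h4 : (q.jst.map ι ≫ q.jst.map c) ≫ q.jst.map φ = q.jst.map (ι ≫ b) := by
      rw [Category.assoc, ← Functor.map_comp, ← hφ, ← Functor.map_comp]
    have h5 : IsIso ((q.jst.map ι ≫ q.jst.map c) ≫ q.jst.map φ) := by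
      rw [h4]; exact h2
    exact IsIso.of_isIso_comp_left (q.jst.map ι ≫ q.jst.map c) _
  refine ⟨inv φ ≫ δ, ?_⟩
  refine isomorphic_distinguished _ hT _
    (Triangle.isoMk _ _ (Iso.refl _) (Iso.refl _) (asIso φ).symm ?_ ?_ ?_)
  · change a ≫ 𝟙 Y = 𝟙 N ≫ a
    simp
  · change b ≫ inv φ = 𝟙 Y ≫ c
    rw [hφ]; simp
  · change (inv φ ≫ δ) ≫ (𝟙 N)⟦(1 : ℤ)⟧' = inv φ ≫ δ
    simp

/-- Existence of the Mayer–Vietoris triangle. -/
lemma mv_exists (hq : q.IsMV) (N : S) :
    ∃ d : q.fls.obj (q.fst.obj (q.jls.obj (q.jst.obj N))) ⟶ N⟦(1 : ℤ)⟧,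
      Triangle.mk (biprod.lift (q.adjJ.unit.app N) (q.adjF.unit.app N))
        (biprod.desc (q.adjF.unit.app (q.jls.obj (q.jst.obj N)))
          (-(q.fls.map (q.fst.map (q.adjJ.unit.app N))))) d ∈ distTriang S := by
  have := isIso_jst_map_unitJ hq N
  have : IsIso (q.jpst.map (q.fst.map (q.adjJ.unit.app N))) := isIso_jpst_fst_map _
  have h3 : IsIso (q.jst.map (q.fls.map (q.fst.map (q.adjJ.unit.app N)))) :=
    isIso_jst_fls_map hq _
  refine exists_distTriang_aux (q := q) N (q.jls.obj (q.jst.obj N) ⊞ q.fls.obj (q.fst.obj N))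
    (q.fls.obj (q.fst.obj (q.jls.obj (q.jst.obj N))))
    (biprod.lift (q.adjJ.unit.app N) (q.adjF.unit.app N))
    (biprod.desc (q.adjF.unit.app (q.jls.obj (q.jst.obj N)))
          (-(q.fls.map (q.fst.map (q.adjJ.unit.app N)))))
    (mvA_comp_mvB N) (fun W hW => comp_mvA_bijective hq W hW N)
    (fls_fst_jls_rightOrthogonal hq _)
    biprod.fst biprod.inr biprod.inl biprod.snd (biprod.inr_snd) (biprod.inr_fst)
    (by rw [add_comm]; exact biprod.total) ?_ ?_
  · rw [biprod.lift_fst]; infer_instance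
  · rw [biprod.inr_desc, Functor.map_neg]; exact isIso_neg' _

/-- If `j^* x` is invertible then so is `j^* (x⟦1⟧)`. -/
lemma isIso_jst_map_shift {X Y : S} (x : X ⟶ Y) [IsIso (q.jst.map x)] :
    IsIso (q.jst.map (x⟦(1 : ℤ)⟧')) := by
  have nat := (q.jst.commShiftIso (1 : ℤ)).hom.naturality x
  dsimp at nat
  have : IsIso (q.jst.map (x⟦(1 : ℤ)⟧') ≫ (q.jst.commShiftIso (1 : ℤ)).hom.app Y) := by
    rw [nat]; infer_instance
  exact IsIso.of_isIso_comp_right _ ((q.jst.commShiftIso (1 : ℤ)).hom.app Y)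

/-- `j^*` kills the connecting map of a distinguished triangle whose first map becomes a split
monomorphism (with invertible first component) after `j^*`. -/
lemma jst_map_mor₃_eq_zero (T : Triangle S) (hT : T ∈ distTriang S) {Y₁ : S} (π : T.obj₂ ⟶ Y₁)
    (_ : IsIso (q.jst.map (T.mor₁ ≫ π))) : q.jst.map T.mor₃ = 0 := by
  have h0 : T.mor₃ ≫ (T.mor₁ ≫ π)⟦(1 : ℤ)⟧' = 0 := by
    rw [Functor.map_comp, ← Category.assoc, comp_distTriang_mor_zero₃₁ _ hT, zero_comp]
  have := isIso_jst_map_shift (q := q) (T.mor₁ ≫ π)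
  rw [← cancel_mono (q.jst.map ((T.mor₁ ≫ π)⟦(1 : ℤ)⟧')), ← Functor.map_comp, h0, Functor.map_zero,
    zero_comp]

/-- Abstract naturality of connecting maps into shifts, for triangles ending in `f_* f^* j_* P`. -/
lemma mor₃_natural_aux (hq : q.IsMV) {N₁ N₂ Y₁ Y₂ T₁ : S} (P₂ : R)
    (a₁ : N₁ ⟶ Y₁) (b₁ : Y₁ ⟶ T₁) (d₁ : T₁ ⟶ N₁⟦(1 : ℤ)⟧)
    (a₂ : N₂ ⟶ Y₂) (b₂ : Y₂ ⟶ q.fls.obj (q.fst.obj (q.jls.obj P₂)))
    (d₂ : q.fls.obj (q.fst.obj (q.jls.obj P₂)) ⟶ N₂⟦(1 : ℤ)⟧)
    (h₁ : Triangle.mk a₁ b₁ d₁ ∈ distTriang S) (h₂ : Triangle.mk a₂ b₂ d₂ ∈ distTriang S)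
    (φ : N₁ ⟶ N₂) (y : Y₁ ⟶ Y₂) (t : T₁ ⟶ q.fls.obj (q.fst.obj (q.jls.obj P₂)))
    (hay : a₁ ≫ y = φ ≫ a₂) (hbt : b₁ ≫ t = y ≫ b₂)
    {Z : S} (π : Y₁ ⟶ Z) [IsIso (q.jst.map (a₁ ≫ π))] :
    d₁ ≫ φ⟦(1 : ℤ)⟧' = t ≫ d₂ := by
  obtain ⟨γ, hγ₁, hγ₂⟩ := complete_distinguished_triangle_morphism _ _ h₁ h₂ φ y hay
  change T₁ ⟶ q.fls.obj (q.fst.obj (q.jls.obj P₂)) at γ
  change b₁ ≫ γ = y ≫ b₂ at hγ₁
  change d₁ ≫ φ⟦(1 : ℤ)⟧' = γ ≫ d₂ at hγ₂
  have h0 : b₁ ≫ (γ - t) = 0 := by
    rw [Preadditive.comp_sub, hγ₁, hbt, sub_self]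
  obtain ⟨ε, hε⟩ := Triangle.yoneda_exact₃ _ h₁ (γ - t) h0
  change N₁⟦(1 : ℤ)⟧ ⟶ q.fls.obj (q.fst.obj (q.jls.obj P₂)) at ε
  change γ - t = d₁ ≫ ε at hε
  have hd : q.jst.map d₁ = 0 :=
    jst_map_mor₃_eq_zero (q := q) (Triangle.mk a₁ b₁ d₁) h₁ π (by assumption)
  have : d₁ ≫ ε = 0 := by
    apply eq_zero_of_jst_map_eq_zero hq
    rw [Functor.map_comp, hd, zero_comp]
  rw [this, sub_eq_zero] at hε
  rw [hγ₂, hε]

end MV

section General2

variable {C : Type u} [Category.{v} C] [Preadditive C] [HasZeroObject C] [HasShift C ℤ]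
  [∀ n : ℤ, (shiftFunctor C n).Additive] [Pretriangulated C]

/-- In a distinguished triangle `X ⟶ Y ⟶ Z ⟶ X⟦1⟧` where `Y` is split as `Y₁ ⊕ Y₂` and the component
`Y₂ ⟶ Z` is an isomorphism, the component `X ⟶ Y₁` is an isomorphism. -/
lemma isIso_mor₁_comp_fst (T : Triangle C) (hT : T ∈ distTriang C) {Y₁ Y₂ : C}
    (π : T.obj₂ ⟶ Y₁) (ι : Y₂ ⟶ T.obj₂) (σ : Y₁ ⟶ T.obj₂) (ρ : T.obj₂ ⟶ Y₂)
    (hσπ : σ ≫ π = 𝟙 _) (hιπ : ι ≫ π = 0) (htot : ρ ≫ ι + π ≫ σ = 𝟙 _)
    (_ : IsIso (ι ≫ T.mor₂)) : IsIso (T.mor₁ ≫ π) := by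
  have hδ : T.mor₃ = 0 := by
    rw [← cancel_epi (ι ≫ T.mor₂), Category.assoc, comp_distTriang_mor_zero₂₃ _ hT, comp_zero,
      comp_zero]
  have hmono : Mono T.mor₁ := Triangle.mono₁ _ hT hδ
  apply isIso_of_yoneda_map_bijective
  intro W
  constructor
  · intro x x' hxx
    dsimp only at hxx
    rw [← cancel_mono T.mor₁]
    have hy1 : ((x - x') ≫ T.mor₁) ≫ π = 0 := by
      simp only [Preadditive.sub_comp, Category.assoc]; exact sub_eq_zero.mpr hxx
    have hy2 : ((x - x') ≫ T.mor₁) ≫ T.mor₂ = 0 := by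
      rw [Category.assoc, comp_distTriang_mor_zero₁₂ _ hT, comp_zero]
    suffices h0 : (x - x') ≫ T.mor₁ = 0 by
      rw [Preadditive.sub_comp] at h0; exact sub_eq_zero.mp h0
    generalize (x - x') ≫ T.mor₁ = y at hy1 hy2
    have hy3 : y = (y ≫ ρ) ≫ ι := by
      calc y = y ≫ (ρ ≫ ι + π ≫ σ) := by rw [htot, Category.comp_id]
        _ = (y ≫ ρ) ≫ ι := by
            rw [Preadditive.comp_add, ← Category.assoc y π σ, hy1, zero_comp, add_zero,
              Category.assoc]
    have hy4 : y ≫ ρ = 0 := by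
      rw [← cancel_mono (ι ≫ T.mor₂), zero_comp, ← Category.assoc, ← hy3, hy2]
    rw [hy4, zero_comp] at hy3
    exact hy3
  · intro y₁
    let y : W ⟶ T.obj₂ := y₁ ≫ σ - (y₁ ≫ σ ≫ T.mor₂ ≫ inv (ι ≫ T.mor₂)) ≫ ι
    have hy : y ≫ T.mor₂ = 0 := by
      simp only [y, Preadditive.sub_comp, Category.assoc, IsIso.inv_hom_id, Category.comp_id,
        sub_self]
    obtain ⟨x, hx⟩ := Triangle.coyoneda_exact₂ _ hT y hy
    refine ⟨x, ?_⟩
    dsimp only
    rw [← Category.assoc, ← hx]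
    simp only [y, Preadditive.sub_comp, Category.assoc, hσπ, hιπ, comp_zero, sub_zero,
      Category.comp_id]

/-- A morphism `T.mor₁` whose cone lies in a shift-stable class `P` and which induces bijections on
morphisms out of all objects of `P` is an isomorphism. -/
lemma isIso_mor₁_of_bijective (P : ObjectProperty C) [P.IsStableUnderShift ℤ]
    (T : Triangle C) (hT : T ∈ distTriang C) (h₃ : P T.obj₃)
    (h : ∀ W : C, P W → Function.Bijective (fun x : W ⟶ T.obj₁ => x ≫ T.mor₁)) :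
    IsIso T.mor₁ := by
  rw [← Triangle.isZero₃_iff_isIso₁ _ hT]
  exact isZero_of_mem_of_rightOrthogonal P _ h₃ (obj₃_rightOrthogonal P T hT h)

end General2

section General3

variable {C D : Type u} [Category.{v} C] [Preadditive C] [HasZeroObject C] [HasShift C ℤ]
  [∀ n : ℤ, (shiftFunctor C n).Additive] [Pretriangulated C]
  [Category.{v} D] [Preadditive D] [HasZeroObject D] [HasShift D ℤ]
  [∀ n : ℤ, (shiftFunctor D n).Additive] [Pretriangulated D]
  (F : C ⥤ D) [F.CommShift ℤ] [F.IsTriangulated]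

/-- Functor version of `isIso_mor₁_comp_fst`. -/
lemma isIso_map_mor₁_comp_fst {X Y Z Y₁ Y₂ : C} (a : X ⟶ Y) (b : Y ⟶ Z) (d : Z ⟶ X⟦(1 : ℤ)⟧)
    (hT : Triangle.mk a b d ∈ distTriang C)
    (π : Y ⟶ Y₁) (ι : Y₂ ⟶ Y) (σ : Y₁ ⟶ Y) (ρ : Y ⟶ Y₂)
    (hσπ : σ ≫ π = 𝟙 _) (hιπ : ι ≫ π = 0) (htot : ρ ≫ ι + π ≫ σ = 𝟙 _)
    (h : IsIso (F.map (ι ≫ b))) : IsIso (F.map (a ≫ π)) := by
  have hT' := F.map_distinguished _ hT
  have h3 : IsIso (F.map ι ≫ (F.mapTriangle.obj (Triangle.mk a b d)).mor₂) := by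
    change IsIso (F.map ι ≫ F.map b)
    rw [← Functor.map_comp]; exact h
  have h4 := isIso_mor₁_comp_fst (F.mapTriangle.obj (Triangle.mk a b d)) hT'
    (show F.obj Y ⟶ F.obj Y₁ from F.map π) (show F.obj Y₂ ⟶ F.obj Y from F.map ι)
    (show F.obj Y₁ ⟶ F.obj Y from F.map σ) (show F.obj Y ⟶ F.obj Y₂ from F.map ρ)
    (by change F.map σ ≫ F.map π = 𝟙 _; rw [← Functor.map_comp, hσπ, F.map_id])
    (by change F.map ι ≫ F.map π = 0; rw [← Functor.map_comp, hιπ, Functor.map_zero])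
    (by
      change F.map ρ ≫ F.map ι + F.map π ≫ F.map σ = 𝟙 (F.obj Y)
      rw [← Functor.map_comp, ← Functor.map_comp, ← Functor.map_add, htot, F.map_id]) h3
  rw [Functor.map_comp]
  exact h4

end General3

section MV2

open W4c3perfectstacks W4c3perfectstacks.MVSq

variable {S S' R R' : Type u} [Category.{v} S] [Category.{v} S'] [Category.{v} R] [Category.{v} R']
    [Preadditive S] [Preadditive S'] [Preadditive R] [Preadditive R']
    [HasZeroObject S] [HasZeroObject S'] [HasZeroObject R] [HasZeroObject R']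
    [HasShift S ℤ] [HasShift S' ℤ] [HasShift R ℤ] [HasShift R' ℤ]
    [∀ n : ℤ, (shiftFunctor S n).Additive] [∀ n : ℤ, (shiftFunctor S' n).Additive]
    [∀ n : ℤ, (shiftFunctor R n).Additive] [∀ n : ℤ, (shiftFunctor R' n).Additive]
    [Pretriangulated S] [Pretriangulated S'] [Pretriangulated R] [Pretriangulated R']
    (q : W4c3perfectstacks.MVSq S S' R R')
    [q.jst.CommShift ℤ] [q.fst.CommShift ℤ] [q.jpst.CommShift ℤ] [q.gst.CommShift ℤ]
    [q.jst.IsTriangulated] [q.fst.IsTriangulated] [q.jpst.IsTriangulated] [q.gst.IsTriangulated]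

/-- The objects of `S'` killed by `j'^*`. -/
def kerJp : ObjectProperty S' := fun M => IsZero (q.jpst.obj M)

instance : (kerJp q).IsStableUnderShift ℤ where
  isStableUnderShiftBy n := ⟨fun M hM => by
    change IsZero (q.jpst.obj (M⟦n⟧))
    have hM' : IsZero (q.jpst.obj M) := hM
    exact IsZero.of_iso ((shiftFunctor R' n).map_isZero hM') ((q.jpst.commShiftIso n).app M)⟩

variable {q}

/-- `f^*` sends the kernel of `j^*` into the kernel of `j'^*`. -/
lemma kerJp_fst (K : S) (hK : kerJ q K) : kerJp q (q.fst.obj K) := by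
  have hK' : IsZero (q.jst.obj K) := hK
  exact IsZero.of_iso (q.gst.map_isZero hK') (q.e.app K).symm

/-- Objects `f_* j'_* Q` are right orthogonal to the kernel of `j^*`. -/
lemma fls_jpls_rightOrthogonal (Q : R') :
    (kerJ q).rightOrthogonal (q.fls.obj (q.jpls.obj Q)) := by
  intro K x hK
  apply (q.adjF.homEquiv _ _).symm.injective
  apply (q.adjJp.homEquiv _ _).symm.injective
  exact (show IsZero (q.jpst.obj (q.fst.obj K)) from kerJp_fst K hK).eq_of_src _ _

/-- `f_*` is bijective on morphisms out of objects killed by `j'^*`. -/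
lemma fls_map_bijective (hq : q.IsMV) (K : S') (hK : kerJp q K) (X : S') :
    Function.Bijective (fun x : K ⟶ X => q.fls.map x) := by
  have hiso : IsIso (q.adjF.counit.app K) := hq.isIso_counitF K hK
  have : (fun x : K ⟶ X => q.fls.map x) =
      (q.adjF.homEquiv (q.fls.obj K) X) ∘ (fun x : K ⟶ X => q.adjF.counit.app K ≫ x) := by
    funext x
    dsimp only [Function.comp]
    rw [Adjunction.homEquiv_unit, Functor.map_comp, ← Category.assoc,
      q.adjF.right_triangle_components, Category.id_comp]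
  rw [this]
  refine (Equiv.bijective _).comp ⟨fun x y hxy => ?_, fun z => ?_⟩
  · exact (cancel_epi _).mp hxy
  · exact ⟨inv (q.adjF.counit.app K) ≫ z, by simp⟩


/-- Glueing along a Mayer–Vietoris square: first part (restriction to `U`). -/
lemma glue_isIso_jst (hq : q.IsMV) (NU : R) (N' : S') (δ : q.jpst.obj N' ≅ q.gst.obj NU) (N : S)
    (a : N ⟶ q.jls.obj NU ⊞ q.fls.obj N')
    (d : q.fls.obj (q.jpls.obj (q.gst.obj NU)) ⟶ N⟦(1 : ℤ)⟧)
    (hT : Triangle.mk a
      (biprod.desc (q.adjF.unit.app (q.jls.obj NU) ≫ q.fls.map (q.bc2App NU))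
        (-(q.fls.map (q.adjJp.unit.app N' ≫ q.jpls.map δ.hom)))) d ∈ distTriang S) :
    IsIso (q.jst.map (a ≫ biprod.fst)) := by
  have := isIso_jpst_map_unitJp hq N'
  have hm : IsIso (q.jpst.map (q.adjJp.unit.app N' ≫ q.jpls.map δ.hom)) := by
    rw [Functor.map_comp]; infer_instance
  have h2 : IsIso (q.jst.map (q.fls.map (q.adjJp.unit.app N' ≫ q.jpls.map δ.hom))) :=
    isIso_jst_fls_map hq _
  refine isIso_map_mor₁_comp_fst q.jst a _ d hT biprod.fst biprod.inr biprod.inl biprod.snd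
    biprod.inl_fst biprod.inr_fst (by rw [add_comm]; exact biprod.total) ?_
  rw [biprod.inr_desc, Functor.map_neg]
  exact isIso_neg' _

/-- The compatibility between the two components of the first map of a glueing triangle. -/
lemma glue_compat (NU : R) (N' : S') (δ : q.jpst.obj N' ≅ q.gst.obj NU) (N : S)
    (a : N ⟶ q.jls.obj NU ⊞ q.fls.obj N')
    (d : q.fls.obj (q.jpls.obj (q.gst.obj NU)) ⟶ N⟦(1 : ℤ)⟧)
    (hT : Triangle.mk a
      (biprod.desc (q.adjF.unit.app (q.jls.obj NU) ≫ q.fls.map (q.bc2App NU))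
        (-(q.fls.map (q.adjJp.unit.app N' ≫ q.jpls.map δ.hom)))) d ∈ distTriang S) :
    q.fst.map (a ≫ biprod.fst) ≫ q.bc2App NU =
      (q.adjF.homEquiv N N').symm (a ≫ biprod.snd) ≫ q.adjJp.unit.app N' ≫ q.jpls.map δ.hom := by
  have hab : a ≫ biprod.desc (q.adjF.unit.app (q.jls.obj NU) ≫ q.fls.map (q.bc2App NU))
        (-(q.fls.map (q.adjJp.unit.app N' ≫ q.jpls.map δ.hom))) = 0 :=
    comp_distTriang_mor_zero₁₂ _ hT
  have h : (a ≫ biprod.fst) ≫ q.adjF.unit.app (q.jls.obj NU) ≫ q.fls.map (q.bc2App NU) =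
      (a ≫ biprod.snd) ≫ q.fls.map (q.adjJp.unit.app N' ≫ q.jpls.map δ.hom) := by
    rw [biprod.desc_eq, Preadditive.comp_add, Preadditive.comp_neg, Preadditive.comp_neg,
      ← sub_eq_add_neg, sub_eq_zero] at hab
    simpa only [Category.assoc] using hab
  have h' := congrArg (q.adjF.homEquiv _ _).symm h
  simp only [Adjunction.homEquiv_counit, Functor.map_comp, Category.assoc,
    Adjunction.counit_naturality, Adjunction.left_triangle_components_assoc] at h'
  have nat := q.adjF.counit.naturality (q.adjJp.unit.app N')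
  dsimp at nat
  dsimp only [Functor.comp_obj] at h'
  rw [reassoc_of% nat] at h'
  simp only [Adjunction.homEquiv_counit, Functor.map_comp, Category.assoc]
  exact h'

/-- Glueing along a Mayer–Vietoris square: second part (pullback to `X'`). -/
lemma glue_isIso_fst (hq : q.IsMV) (NU : R) (N' : S') (δ : q.jpst.obj N' ≅ q.gst.obj NU) (N : S)
    (a : N ⟶ q.jls.obj NU ⊞ q.fls.obj N')
    (d : q.fls.obj (q.jpls.obj (q.gst.obj NU)) ⟶ N⟦(1 : ℤ)⟧)
    (hT : Triangle.mk a
      (biprod.desc (q.adjF.unit.app (q.jls.obj NU) ≫ q.fls.map (q.bc2App NU))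
        (-(q.fls.map (q.adjJp.unit.app N' ≫ q.jpls.map δ.hom)))) d ∈ distTriang S) :
    IsIso ((q.adjF.homEquiv N N').symm (a ≫ biprod.snd)) := by
  have h1 := glue_isIso_jst hq NU N' δ N a d hT
  have hcompat := glue_compat NU N' δ N a d hT
  have hη : q.adjF.unit.app N ≫ q.fls.map ((q.adjF.homEquiv N N').symm (a ≫ biprod.snd)) =
      a ≫ biprod.snd := by
    have := (q.adjF.homEquiv N N').apply_symm_apply (a ≫ biprod.snd)
    rw [Adjunction.homEquiv_unit] at this
    exact this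
  have hbij : ∀ W : S, kerJ q W → Function.Bijective (fun u : W ⟶ N => u ≫ (a ≫ biprod.snd)) := by
    intro W hW
    have b := comp_mor₁_bijective (kerJ q) _ hT (fls_jpls_rightOrthogonal _) W hW
    change Function.Bijective (fun u : W ⟶ N => u ≫ a) at b
    constructor
    · intro u u' huu
      apply b.1
      dsimp only at huu ⊢
      apply biprod.hom_ext
      · rw [jls_rightOrthogonal (q := q) _ ((u ≫ a) ≫ biprod.fst) hW,
          jls_rightOrthogonal (q := q) _ ((u' ≫ a) ≫ biprod.fst) hW]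
      · simpa only [Category.assoc] using huu
    · intro z
      obtain ⟨u, hu⟩ := b.2 (z ≫ biprod.inr)
      refine ⟨u, ?_⟩
      dsimp only at hu ⊢
      rw [← Category.assoc, hu, Category.assoc, biprod.inr_snd, Category.comp_id]
  revert hη hcompat hbij
  generalize (q.adjF.homEquiv N N').symm (a ≫ biprod.snd) = θ
  generalize a ≫ biprod.snd = a₂
  intro hcompat hη hbij
  -- (i) `j'^* θ` is invertible
  have hjθ : IsIso (q.jpst.map θ) := by
    have := isIso_jpst_map_unitJp hq N'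
    have := hq.isIso_bc2App NU
    have : IsIso (q.jpst.map (q.fst.map (a ≫ biprod.fst))) := isIso_jpst_fst_map _
    have e1 : q.jpst.map (q.fst.map (a ≫ biprod.fst)) ≫ q.jpst.map (q.bc2App NU) =
        q.jpst.map θ ≫ q.jpst.map (q.adjJp.unit.app N' ≫ q.jpls.map δ.hom) := by
      rw [← Functor.map_comp, hcompat, Functor.map_comp]
    have : IsIso (q.jpst.map θ ≫ q.jpst.map (q.adjJp.unit.app N' ≫ q.jpls.map δ.hom)) := by
      rw [← e1]; infer_instance
    have : IsIso (q.jpst.map (q.adjJp.unit.app N' ≫ q.jpls.map δ.hom)) := by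
      rw [Functor.map_comp]; infer_instance
    exact IsIso.of_isIso_comp_right _ (q.jpst.map (q.adjJp.unit.app N' ≫ q.jpls.map δ.hom))
  obtain ⟨E, ψ, χ, hE⟩ := distinguished_cocone_triangle θ
  have hE3 : kerJp q E := Triangle.isZero₃_of_isIso₁ _ (q.jpst.map_distinguished _ hE) hjθ
  refine isIso_mor₁_of_bijective (kerJp q) (Triangle.mk θ ψ χ) hE hE3 (fun W hW => ?_)
  -- (ii) bijectivity on morphisms out of the kernel of `j'^*`
  change Function.Bijective (fun x : W ⟶ q.fst.obj N => x ≫ θ)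
  have hK : kerJ q (q.fls.obj W) := kerJ_fls hq W hW
  have b1 := fls_map_bijective hq W hW (q.fst.obj N)
  have b2 := fls_map_bijective hq W hW N'
  have b3 := comp_unitF_bijective hq (q.fls.obj W) hK N
  have b4 := hbij (q.fls.obj W) hK
  constructor
  · intro x x' hxx
    dsimp only at hxx
    apply b1.1
    dsimp only
    obtain ⟨u, hu⟩ := b3.2 (q.fls.map x)
    obtain ⟨u', hu'⟩ := b3.2 (q.fls.map x')
    dsimp only at hu hu'
    have huu : u = u' := by
      apply b4.1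
      dsimp only
      rw [← hη, ← Category.assoc, ← Category.assoc, hu, hu', ← Functor.map_comp,
        ← Functor.map_comp, hxx]
    rw [← hu, ← hu', huu]
  · intro z
    obtain ⟨u, hu⟩ := b4.2 (q.fls.map z)
    obtain ⟨x, hx⟩ := b1.2 (u ≫ q.adjF.unit.app N)
    dsimp only at hu hx
    refine ⟨x, ?_⟩
    apply b2.1
    dsimp only
    rw [Functor.map_comp, hx, Category.assoc, hη, hu]

end MV2

section MV3

open W4c3perfectstacks W4c3perfectstacks.MVSq

variable {S S' R R' : Type u} [Category.{v} S] [Category.{v} S'] [Category.{v} R] [Category.{v} R']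
    [Preadditive S] [Preadditive S'] [Preadditive R] [Preadditive R']
    [HasZeroObject S] [HasZeroObject S'] [HasZeroObject R] [HasZeroObject R']
    [HasShift S ℤ] [HasShift S' ℤ] [HasShift R ℤ] [HasShift R' ℤ]
    [∀ n : ℤ, (shiftFunctor S n).Additive] [∀ n : ℤ, (shiftFunctor S' n).Additive]
    [∀ n : ℤ, (shiftFunctor R n).Additive] [∀ n : ℤ, (shiftFunctor R' n).Additive]
    [Pretriangulated S] [Pretriangulated S'] [Pretriangulated R] [Pretriangulated R']
    {q : W4c3perfectstacks.MVSq S S' R R'}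
    [q.jst.CommShift ℤ] [q.fst.CommShift ℤ] [q.jpst.CommShift ℤ] [q.gst.CommShift ℤ]
    [q.jst.IsTriangulated] [q.fst.IsTriangulated] [q.jpst.IsTriangulated] [q.gst.IsTriangulated]

/-- Naturality of the first map of the Mayer–Vietoris triangle. -/
lemma mvA_natural {N₁ N₂ : S} (φ : N₁ ⟶ N₂) :
    biprod.lift (q.adjJ.unit.app N₁) (q.adjF.unit.app N₁) ≫
      biprod.map (q.jls.map (q.jst.map φ)) (q.fls.map (q.fst.map φ)) =
    φ ≫ biprod.lift (q.adjJ.unit.app N₂) (q.adjF.unit.app N₂) := by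
  have natJ := q.adjJ.unit.naturality φ
  have natF := q.adjF.unit.naturality φ
  dsimp at natJ natF
  apply biprod.hom_ext
  · simp only [Category.assoc, biprod.map_fst, biprod.lift_fst_assoc]
    refine natJ.symm.trans ?_
    congr 1
    exact (biprod.lift_fst _ _).symm
  · simp only [Category.assoc, biprod.map_snd, biprod.lift_snd_assoc]
    refine natF.symm.trans ?_
    congr 1
    exact (biprod.lift_snd _ _).symm

/-- Naturality of the second map of the Mayer–Vietoris triangle. -/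
lemma mvB_natural {N₁ N₂ : S} (φ : N₁ ⟶ N₂) :
    biprod.desc (q.adjF.unit.app (q.jls.obj (q.jst.obj N₁)))
          (-(q.fls.map (q.fst.map (q.adjJ.unit.app N₁)))) ≫
      q.fls.map (q.fst.map (q.jls.map (q.jst.map φ))) =
    biprod.map (q.jls.map (q.jst.map φ)) (q.fls.map (q.fst.map φ)) ≫
      biprod.desc (q.adjF.unit.app (q.jls.obj (q.jst.obj N₂)))
          (-(q.fls.map (q.fst.map (q.adjJ.unit.app N₂)))) := by
  have natJ := q.adjJ.unit.naturality φ
  have natF' := q.adjF.unit.naturality (q.jls.map (q.jst.map φ))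
  dsimp at natJ natF'
  apply biprod.hom_ext'
  · simp only [biprod.inl_desc_assoc, biprod.inl_map_assoc, biprod.inl_desc]
    exact natF'.symm
  · simp only [biprod.inr_desc_assoc, biprod.inr_map_assoc, biprod.inr_desc,
      Preadditive.neg_comp, Preadditive.comp_neg, neg_inj]
    rw [← Functor.map_comp, ← Functor.map_comp, ← Functor.map_comp, ← Functor.map_comp, natJ]

/-- Naturality of the connecting maps of Mayer–Vietoris triangles. -/
lemma mvD_natural (hq : q.IsMV) {N₁ N₂ : S} (φ : N₁ ⟶ N₂)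
    (d₁ : q.fls.obj (q.fst.obj (q.jls.obj (q.jst.obj N₁))) ⟶ N₁⟦(1 : ℤ)⟧)
    (d₂ : q.fls.obj (q.fst.obj (q.jls.obj (q.jst.obj N₂))) ⟶ N₂⟦(1 : ℤ)⟧)
    (h₁ : Triangle.mk (biprod.lift (q.adjJ.unit.app N₁) (q.adjF.unit.app N₁))
        (biprod.desc (q.adjF.unit.app (q.jls.obj (q.jst.obj N₁)))
          (-(q.fls.map (q.fst.map (q.adjJ.unit.app N₁))))) d₁ ∈ distTriang S)
    (h₂ : Triangle.mk (biprod.lift (q.adjJ.unit.app N₂) (q.adjF.unit.app N₂))
        (biprod.desc (q.adjF.unit.app (q.jls.obj (q.jst.obj N₂)))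
          (-(q.fls.map (q.fst.map (q.adjJ.unit.app N₂))))) d₂ ∈ distTriang S) :
    d₁ ≫ (shiftFunctor S (1 : ℤ)).map φ = q.fls.map (q.fst.map (q.jls.map (q.jst.map φ))) ≫ d₂ := by
  have hiso : IsIso (q.jst.map (biprod.lift (q.adjJ.unit.app N₁) (q.adjF.unit.app N₁) ≫
      biprod.fst)) := by
    rw [biprod.lift_fst]
    exact isIso_jst_map_unitJ hq N₁
  exact mor₃_natural_aux hq (q.jst.obj N₂)
    (biprod.lift (q.adjJ.unit.app N₁) (q.adjF.unit.app N₁))
    (biprod.desc (q.adjF.unit.app (q.jls.obj (q.jst.obj N₁)))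
          (-(q.fls.map (q.fst.map (q.adjJ.unit.app N₁))))) d₁
    (biprod.lift (q.adjJ.unit.app N₂) (q.adjF.unit.app N₂))
    (biprod.desc (q.adjF.unit.app (q.jls.obj (q.jst.obj N₂)))
          (-(q.fls.map (q.fst.map (q.adjJ.unit.app N₂))))) d₂ h₁ h₂ φ
    (biprod.map (q.jls.map (q.jst.map φ)) (q.fls.map (q.fst.map φ)))
    (q.fls.map (q.fst.map (q.jls.map (q.jst.map φ)))) (mvA_natural φ) (mvB_natural φ) biprod.fst

end MV3

end Groth.Agent.Lib.Helper83.MV
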