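import Mathlib.CategoryTheory.Triangulated.Yoneda
import Groth.Agent.Lib.Helper83.CompactTri
import Groth.Agent.Lib.Helper83.MVSq
import Groth.Prelude.Def_DerLim

/-!
# Brown representability for compactly generated triangulated categories (helper83)
-/

set_option autoImplicit false
set_option linter.unusedSectionVars false
universe v u
open CategoryTheory CategoryTheory.Limits CategoryTheory.Pretriangulated

namespace Groth.Agent.Lib.Helper83.Brown

open Groth.Agent.Lib.Helper83.Cpt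

variable {D : Type u} [Category.{v} D] [Preadditive D] [HasZeroObject D] [HasShift D ℤ]
  [∀ n : ℤ, (shiftFunctor D n).Additive] [Pretriangulated D] [HasCoproducts.{v} D]

variable (D) in
/-- An abstract cohomological functor `Dᵒᵖ ⥤ Ab` turning coproducts into products, in unbundled
element-wise form. -/
structure CohFun where
  /-- values -/
  h : D → Type v
  /-- group structure on the values -/
  grp : ∀ Y, AddCommGroup (h Y)
  /-- pull-back along a morphism -/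
  pull : ∀ {Y Y' : D} (_ : Y ⟶ Y'), h Y' →+ h Y
  pull_id : ∀ (Y : D) (a : h Y), pull (𝟙 Y) a = a
  pull_comp : ∀ {Y Y' Y'' : D} (f : Y ⟶ Y') (g : Y' ⟶ Y'') (a : h Y''),
    pull (f ≫ g) a = pull f (pull g a)
  pull_sub : ∀ {Y Y' : D} (f g : Y ⟶ Y') (a : h Y'), pull (f - g) a = pull f a - pull g a
  exact : ∀ (T : Triangle D), T ∈ distTriang D → ∀ b : h T.obj₂, pull T.mor₁ b = 0 →
    ∃ c : h T.obj₃, pull T.mor₂ c = b
  prod_inj : ∀ {κ : Type v} (Y : κ → D) (a b : h (∐ Y)),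
    (∀ k, pull (Sigma.ι Y k) a = pull (Sigma.ι Y k) b) → a = b
  prod_surj : ∀ {κ : Type v} (Y : κ → D) (a : ∀ k, h (Y k)),
    ∃ b : h (∐ Y), ∀ k, pull (Sigma.ι Y k) b = a k

attribute [instance] CohFun.grp

namespace CohFun

variable (H : CohFun D)

lemma pull_zero {Y Y' : D} (a : H.h Y') : H.pull (0 : Y ⟶ Y') a = 0 := by
  have := H.pull_sub (0 : Y ⟶ Y') 0 a
  rwa [sub_zero, sub_self] at this

lemma pull_neg {Y Y' : D} (f : Y ⟶ Y') (a : H.h Y') : H.pull (-f) a = - H.pull f a := by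
  have := H.pull_sub (0 : Y ⟶ Y') f a
  rwa [zero_sub, pull_zero, zero_sub] at this

lemma pull_add {Y Y' : D} (f g : Y ⟶ Y') (a : H.h Y') :
    H.pull (f + g) a = H.pull f a + H.pull g a := by
  have := H.pull_sub f (-g) a
  rwa [sub_neg_eq_add, pull_neg, sub_neg_eq_add] at this

lemma pull_sum {Y Y' : D} {κ : Type*} (F : Finset κ) (f : κ → (Y ⟶ Y')) (a : H.h Y') :
    H.pull (∑ k ∈ F, f k) a = ∑ k ∈ F, H.pull (f k) a := by
  classical
  induction F using Finset.induction_on with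
  | empty => simp [pull_zero]
  | insert k F hk ih => rw [Finset.sum_insert hk, Finset.sum_insert hk, pull_add, ih]

/-- The Yoneda-type map attached to an element. -/
def tau {X : D} (α : H.h X) (Y : D) : (Y ⟶ X) → H.h Y := fun f => H.pull f α

lemma tau_sub {X : D} (α : H.h X) {Y : D} (f g : Y ⟶ X) :
    H.tau α Y (f - g) = H.tau α Y f - H.tau α Y g := H.pull_sub f g α

lemma tau_comp {X : D} (α : H.h X) {Y Y' : D} (f : Y ⟶ Y') (g : Y' ⟶ X) :
    H.tau α Y (f ≫ g) = H.pull f (H.tau α Y' g) := H.pull_comp f g α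

lemma tau_zero {X : D} (α : H.h X) (Y : D) : H.tau α Y 0 = 0 := H.pull_zero α

end CohFun

/-- The representable cohomological functor `Hom(-, Y)`. -/
def homCohFun (Y : D) : CohFun D where
  h Z := (Z ⟶ Y)
  grp Z := inferInstance
  pull f := Preadditive.leftComp Y f
  pull_id Z a := Category.id_comp a
  pull_comp f g a := Category.assoc f g a
  pull_sub f g a := Preadditive.sub_comp f g a
  exact T hT b hb := by
    obtain ⟨c, hc⟩ := Triangle.yoneda_exact₂ T hT b hb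
    exact ⟨c, hc.symm⟩
  prod_inj Z a b hab := Sigma.hom_ext _ _ hab
  prod_surj Z a := ⟨Sigma.desc a, fun k => Sigma.ι_desc a k⟩


/-! ### Coproducts indexed by `ℕ` -/

section NatIndexed

variable [HasColimitsOfShape (Discrete ℕ) D]

/-- Reindexing a sequence along `ULift ℕ ≃ ℕ`. -/
noncomputable def natReindex (K : ℕ → D) : (∐ (K ∘ (Equiv.ulift.{v, 0} : ULift.{v, 0} ℕ ≃ ℕ))) ≅ ∐ K :=
  Sigma.reindex (Equiv.ulift.{v, 0} : ULift.{v, 0} ℕ ≃ ℕ) K

lemma ι_natReindex_hom (K : ℕ → D) (k : ULift.{v, 0} ℕ) :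
    Sigma.ι (K ∘ (Equiv.ulift.{v, 0} : ULift.{v, 0} ℕ ≃ ℕ)) k ≫ (natReindex K).hom =
      Sigma.ι K k.down :=
  Sigma.ι_reindex_hom _ _ _

lemma ι_natReindex_inv (K : ℕ → D) (n : ℕ) :
    Sigma.ι K n ≫ (natReindex K).inv =
      Sigma.ι (K ∘ (Equiv.ulift.{v, 0} : ULift.{v, 0} ℕ ≃ ℕ)) ⟨n⟩ :=
  Sigma.ι_reindex_inv (Equiv.ulift.{v, 0} : ULift.{v, 0} ℕ ≃ ℕ) K ⟨n⟩

lemma CohFun.prod_inj_nat (H : CohFun D) (K : ℕ → D) (a b : H.h (∐ K))
    (hab : ∀ n, H.pull (Sigma.ι K n) a = H.pull (Sigma.ι K n) b) : a = b := by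
  have h1 : H.pull (natReindex K).hom a = H.pull (natReindex K).hom b := by
    apply H.prod_inj
    intro k
    rw [← H.pull_comp, ← H.pull_comp, ι_natReindex_hom]
    exact hab k.down
  have h2 := congrArg (H.pull (natReindex K).inv) h1
  rwa [← H.pull_comp, ← H.pull_comp, Iso.inv_hom_id, H.pull_id, H.pull_id] at h2

lemma CohFun.prod_surj_nat (H : CohFun D) (K : ℕ → D) (a : ∀ n, H.h (K n)) :
    ∃ b : H.h (∐ K), ∀ n, H.pull (Sigma.ι K n) b = a n := by
  obtain ⟨b', hb'⟩ := H.prod_surj (K ∘ (Equiv.ulift.{v, 0} : ULift.{v, 0} ℕ ≃ ℕ))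
    (fun k => a k.down)
  refine ⟨H.pull (natReindex K).inv b', fun n => ?_⟩
  rw [← H.pull_comp, ι_natReindex_inv]
  exact hb' ⟨n⟩

/-- The "projection" from an `ℕ`-indexed coproduct to a summand. -/
noncomputable def natπ (K : ℕ → D) (m : ℕ) : ∐ K ⟶ K m :=
  Sigma.desc (fun j => if h : j = m then eqToHom (congrArg K h) else 0)

lemma ι_natπ_self (K : ℕ → D) (m : ℕ) : Sigma.ι K m ≫ natπ K m = 𝟙 _ := by
  unfold natπ
  rw [Sigma.ι_desc, dif_pos rfl, eqToHom_refl]

lemma ι_natπ_ne (K : ℕ → D) {j m : ℕ} (h : j ≠ m) : Sigma.ι K j ≫ natπ K m = 0 := by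
  unfold natπ
  rw [Sigma.ι_desc, dif_neg h]

/-- Morphisms from a compact object to an `ℕ`-indexed coproduct are finite sums. -/
lemma decomp_nat (C : D) (hC : CohDer.IsCompactObject C) (K : ℕ → D) (x : C ⟶ ∐ K) :
    ∃ (N : ℕ) (y : ∀ j, C ⟶ K j), x = ∑ j ∈ Finset.range (N + 1), y j ≫ Sigma.ι K j := by
  classical
  obtain ⟨F, y₀, hy0₀, hy⟩ := (compact_iff_DP C).mp hC _
    (K ∘ (Equiv.ulift.{v, 0} : ULift.{v, 0} ℕ ≃ ℕ)) (x ≫ (natReindex K).inv)
  let y : ∀ k : ULift.{v, 0} ℕ, C ⟶ K k.down := y₀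
  have hy0 : ∀ k, k ∉ F → y k = 0 := hy0₀
  change x ≫ (natReindex K).inv =
    ∑ k ∈ F, y k ≫ Sigma.ι (K ∘ (Equiv.ulift.{v, 0} : ULift.{v, 0} ℕ ≃ ℕ)) k at hy
  clear_value y
  clear hy0₀
  have hx : x = ∑ k ∈ F, y k ≫ Sigma.ι K k.down := by
    have h1 : x = (x ≫ (natReindex K).inv) ≫ (natReindex K).hom := by
      rw [Category.assoc, Iso.inv_hom_id, Category.comp_id]
    rw [h1, hy, Preadditive.sum_comp]
    refine Finset.sum_congr rfl (fun k _ => ?_)
    exact (Category.assoc _ _ _).trans (congrArg (fun z => y k ≫ z) (ι_natReindex_hom K k))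
  refine ⟨(F.image ULift.down).sup id, fun j => y ⟨j⟩, ?_⟩
  rw [hx]
  have himg : ∑ k ∈ F, y k ≫ Sigma.ι K k.down =
      ∑ j ∈ F.image ULift.down, y ⟨j⟩ ≫ Sigma.ι K j := by
    rw [Finset.sum_image]
    intro a _ b _ hab
    exact ULift.ext _ _ hab
  rw [himg]
  apply Finset.sum_subset
  · intro j hj
    rw [Finset.mem_range]
    exact Nat.lt_succ_of_le (Finset.le_sup (f := id) hj)
  · intro j _ hj
    have : (⟨j⟩ : ULift.{v, 0} ℕ) ∉ F := by
      intro h
      exact hj (Finset.mem_image.mpr ⟨⟨j⟩, h, rfl⟩)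
    rw [hy0 _ this, zero_comp]

/-- A morphism from a compact object to an `ℕ`-indexed coproduct with vanishing components is zero. -/
lemma eq_zero_of_natπ (C : D) (hC : CohDer.IsCompactObject C) (K : ℕ → D) (x : C ⟶ ∐ K)
    (hx : ∀ m, x ≫ natπ K m = 0) : x = 0 := by
  obtain ⟨N, y, hy⟩ := decomp_nat C hC K x
  have hym : ∀ m, m ∈ Finset.range (N + 1) → y m = 0 := by
    intro m hm
    have := hx m
    rw [hy, Preadditive.sum_comp, Finset.sum_eq_single m] at this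
    · simpa [ι_natπ_self] using this
    · intro j _ hjm; rw [Category.assoc, ι_natπ_ne K hjm, comp_zero]
    · intro h; exact absurd hm h
  rw [hy]
  exact Finset.sum_eq_zero (fun j hj => by rw [hym j hj, zero_comp])

end NatIndexed


/-! ### Homotopy colimits -/

section Hocolim

variable [HasColimitsOfShape (Discrete ℕ) D] (K : ℕ → D) (f : ∀ n, K n ⟶ K (n + 1))

lemma ι_shiftMap (n : ℕ) :
    Sigma.ι K n ≫ DerLim.shiftMap K f = f n ≫ Sigma.ι K (n + 1) := by
  unfold DerLim.shiftMap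
  rw [Sigma.ι_desc]

lemma shiftMap_natπ_zero : DerLim.shiftMap K f ≫ natπ K 0 = 0 := by
  apply Sigma.hom_ext
  intro j
  rw [← Category.assoc, ι_shiftMap, Category.assoc, ι_natπ_ne K (Nat.succ_ne_zero j), comp_zero,
    comp_zero]

lemma shiftMap_natπ_succ (m : ℕ) :
    DerLim.shiftMap K f ≫ natπ K (m + 1) = natπ K m ≫ f m := by
  apply Sigma.hom_ext
  intro j
  rw [← Category.assoc, ι_shiftMap, Category.assoc, ← Category.assoc (Sigma.ι K j)]
  by_cases h : j = m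
  · subst h
    rw [ι_natπ_self, ι_natπ_self, Category.comp_id, Category.id_comp]
  · have h' : j + 1 ≠ m + 1 := fun h'' => h (Nat.succ_injective h'')
    rw [ι_natπ_ne K h, ι_natπ_ne K h', comp_zero, zero_comp]

/-- A morphism from a compact object to `∐ K` killed by `1 - shift` is zero. -/
lemma eq_zero_of_comp_one_sub_shiftMap (C : D) (hC : CohDer.IsCompactObject C) (u : C ⟶ ∐ K)
    (hu : u ≫ (𝟙 (∐ K) - DerLim.shiftMap K f) = 0) : u = 0 := by
  have hu' : u = u ≫ DerLim.shiftMap K f := by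
    rw [Preadditive.comp_sub, Category.comp_id] at hu
    exact sub_eq_zero.mp hu
  apply eq_zero_of_natπ C hC K u
  intro m
  induction m with
  | zero => rw [hu', Category.assoc, shiftMap_natπ_zero, comp_zero]
  | succ m ih => rw [hu', Category.assoc, shiftMap_natπ_succ, ← Category.assoc, ih, zero_comp]

/-- Homotopy colimits exist. -/
lemma exists_isHocolim : ∃ (L : D) (i : ∀ n, K n ⟶ L), DerLim.IsHocolim K f L i := by
  obtain ⟨L, p, c, hT⟩ := distinguished_cocone_triangle (𝟙 (∐ K) - DerLim.shiftMap K f)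
  refine ⟨L, fun n => Sigma.ι K n ≫ p, c, ?_⟩
  have : Sigma.desc (fun n => Sigma.ι K n ≫ p) = p := by
    apply Sigma.hom_ext
    intro n
    rw [Sigma.ι_desc]
  rw [this]
  exact hT

variable {K f}

lemma isHocolim_comp {L : D} {i : ∀ n, K n ⟶ L} (h : DerLim.IsHocolim K f L i) (n : ℕ) :
    i n = f n ≫ i (n + 1) := by
  obtain ⟨c, hT⟩ := h
  have h0 : (𝟙 (∐ K) - DerLim.shiftMap K f) ≫ Sigma.desc i = 0 :=
    comp_distTriang_mor_zero₁₂ _ hT
  have h1 := congrArg (fun z => Sigma.ι K n ≫ z) h0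
  simp only [Preadditive.sub_comp, Preadditive.comp_sub, Category.id_comp, comp_zero,
    Sigma.ι_desc] at h1
  rw [← Category.assoc, ι_shiftMap, Category.assoc, Sigma.ι_desc] at h1
  exact sub_eq_zero.mp h1

/-- Finite sums of morphisms into the stages of a homotopy colimit factor through one stage. -/
lemma isHocolim_sum_factor {L : D} {i : ∀ n, K n ⟶ L} (h : DerLim.IsHocolim K f L i) {C : D}
    (y : ∀ j, C ⟶ K j) (N : ℕ) :
    ∃ g : C ⟶ K N, ∑ j ∈ Finset.range (N + 1), y j ≫ i j = g ≫ i N := by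
  induction N with
  | zero => exact ⟨y 0, by simp⟩
  | succ N ih =>
    obtain ⟨g, hg⟩ := ih
    refine ⟨g ≫ f N + y (N + 1), ?_⟩
    rw [Finset.sum_range_succ, hg, Preadditive.add_comp, Category.assoc, ← isHocolim_comp h N]

/-- A morphism from a compact object to a homotopy colimit factors through some stage. -/
lemma isHocolim_factor {L : D} {i : ∀ n, K n ⟶ L} (h : DerLim.IsHocolim K f L i) (C : D)
    (hC : CohDer.IsCompactObject C) (g : C ⟶ L) : ∃ (N : ℕ) (g' : C ⟶ K N), g = g' ≫ i N := by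
  have h' := h
  obtain ⟨c, hT⟩ := h'
  -- step 1: `g ≫ c = 0`
  have h1 : g ≫ c = 0 := by
    have adj : shiftFunctor D (-1 : ℤ) ⊣ shiftFunctor D (1 : ℤ) :=
      (shiftEquiv D (1 : ℤ)).symm.toAdjunction
    have h31 : c ≫ (𝟙 (∐ K) - DerLim.shiftMap K f)⟦(1 : ℤ)⟧' = 0 :=
      comp_distTriang_mor_zero₃₁ _ hT
    have hu : (adj.homEquiv C (∐ K)).symm (g ≫ c) ≫ (𝟙 (∐ K) - DerLim.shiftMap K f) = 0 := by
      apply (adj.homEquiv C (∐ K)).injective
      rw [Adjunction.homEquiv_naturality_right, Equiv.apply_symm_apply, Category.assoc, h31,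
        comp_zero]
      simp [Adjunction.homEquiv_unit]
    have h0 := eq_zero_of_comp_one_sub_shiftMap K f _ (compact_shift' C hC (-1)) _ hu
    have := congrArg (adj.homEquiv C (∐ K)) h0
    rw [Equiv.apply_symm_apply] at this
    rw [this]
    simp [Adjunction.homEquiv_unit]
  obtain ⟨g', hg'⟩ : ∃ g' : C ⟶ ∐ K, g = g' ≫ Sigma.desc i :=
    Triangle.coyoneda_exact₃ _ hT g h1
  obtain ⟨N, y, hy⟩ := decomp_nat C hC K g'
  obtain ⟨g'', hg''⟩ := isHocolim_sum_factor h y N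
  refine ⟨N, g'', ?_⟩
  rw [← hg'', hg', hy, Preadditive.sum_comp]
  refine Finset.sum_congr rfl (fun j _ => ?_)
  rw [Category.assoc, Sigma.ι_desc]

end Hocolim


/-! ### The tower -/

section Tower

variable (H : CohFun D) {κ : Type v} (G : κ → D)

/-- A stage of the tower: an object with an element of `H`. -/
structure Stage where
  /-- the object -/
  X : D
  /-- the element -/
  α : H.h X

lemma exists_stage0 : ∃ (α : H.h (∐ fun p : (Σ k, H.h (G k)) => G p.1)),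
    ∀ p, H.pull (Sigma.ι (fun p : (Σ k, H.h (G k)) => G p.1) p) α = p.2 :=
  H.prod_surj (fun p : (Σ k, H.h (G k)) => G p.1) (fun p => p.2)

/-- Stage zero of the tower. -/
noncomputable def stage0 : Stage H := ⟨∐ fun p : (Σ k, H.h (G k)) => G p.1, (exists_stage0 H G).choose⟩

lemma stage0_spec (p : Σ k, H.h (G k)) :
    H.pull (Sigma.ι (fun p : (Σ k, H.h (G k)) => G p.1) p) (stage0 H G).α = p.2 :=
  (exists_stage0 H G).choose_spec p

lemma exists_next (S : Stage H) : ∃ (S' : Stage H) (φ : S.X ⟶ S'.X), H.pull φ S'.α = S.α ∧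
    (∀ (k : κ) (g : G k ⟶ S.X), H.pull g S.α = 0 → g ≫ φ = 0) ∧
    ∃ (I : Type v) (a : I → κ) (y : (∐ fun p => G (a p)) ⟶ S.X)
      (z : S'.X ⟶ (∐ fun p => G (a p))⟦(1 : ℤ)⟧), Triangle.mk y φ z ∈ distTriang D := by
  let I : Type v := Σ k, {g : G k ⟶ S.X // H.pull g S.α = 0}
  let a : I → κ := fun p => p.1
  let y : (∐ fun p => G (a p)) ⟶ S.X := Sigma.desc (fun p => p.2.1)
  obtain ⟨X', φ, z, hT⟩ := distinguished_cocone_triangle y
  have hy : H.pull y S.α = 0 := by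
    apply H.prod_inj
    intro p
    rw [← H.pull_comp, Sigma.ι_desc, map_zero]
    exact p.2.2
  obtain ⟨α', hα'⟩ : ∃ α' : H.h X', H.pull φ α' = S.α := H.exact _ hT S.α hy
  refine ⟨⟨X', α'⟩, φ, hα', ?_, I, a, y, z, hT⟩
  intro k g hg
  have h1 : g = Sigma.ι (fun p : I => G (a p)) ⟨k, g, hg⟩ ≫ y := by
    rw [Sigma.ι_desc]
  have h2 : y ≫ φ = 0 := comp_distTriang_mor_zero₁₂ _ hT
  rw [h1, Category.assoc, h2, comp_zero]

/-- The next stage. -/
noncomputable def next (S : Stage H) : Stage H := (exists_next H G S).choose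

/-- The transition map to the next stage. -/
noncomputable def nextMap (S : Stage H) : S.X ⟶ (next H G S).X :=
  (exists_next H G S).choose_spec.choose

lemma next_spec (S : Stage H) : H.pull (nextMap H G S) (next H G S).α = S.α ∧
    (∀ (k : κ) (g : G k ⟶ S.X), H.pull g S.α = 0 → g ≫ nextMap H G S = 0) ∧
    ∃ (I : Type v) (a : I → κ) (y : (∐ fun p => G (a p)) ⟶ S.X)
      (z : (next H G S).X ⟶ (∐ fun p => G (a p))⟦(1 : ℤ)⟧),
      Triangle.mk y (nextMap H G S) z ∈ distTriang D :=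
  (exists_next H G S).choose_spec.choose_spec

/-- The tower. -/
noncomputable def tower : ℕ → Stage H
  | 0 => stage0 H G
  | (n + 1) => next H G (tower n)

/-- The objects of the tower. -/
noncomputable def towerX (n : ℕ) : D := (tower H G n).X

/-- The transition maps of the tower. -/
noncomputable def towerMap (n : ℕ) : towerX H G n ⟶ towerX H G (n + 1) :=
  nextMap H G (tower H G n)

/-- The elements of the tower. -/
noncomputable def towerα (n : ℕ) : H.h (towerX H G n) := (tower H G n).α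

lemma towerMap_spec (n : ℕ) : H.pull (towerMap H G n) (towerα H G (n + 1)) = towerα H G n :=
  (next_spec H G (tower H G n)).1

lemma towerMap_kill (n : ℕ) (k : κ) (g : G k ⟶ towerX H G n) (hg : H.pull g (towerα H G n) = 0) :
    g ≫ towerMap H G n = 0 :=
  (next_spec H G (tower H G n)).2.1 k g hg

lemma towerMap_shape (n : ℕ) : ∃ (I : Type v) (a : I → κ) (y : (∐ fun p => G (a p)) ⟶ towerX H G n)
      (z : towerX H G (n + 1) ⟶ (∐ fun p => G (a p))⟦(1 : ℤ)⟧),
      Triangle.mk y (towerMap H G n) z ∈ distTriang D :=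
  (next_spec H G (tower H G n)).2.2

lemma tower_zero_surj (k : κ) (x : H.h (G k)) :
    ∃ j : G k ⟶ towerX H G 0, H.pull j (towerα H G 0) = x :=
  ⟨Sigma.ι (fun p : (Σ k, H.h (G k)) => G p.1) ⟨k, x⟩, stage0_spec H G ⟨k, x⟩⟩

lemma tower_zero_shape :
    ∃ (I : Type v) (a : I → κ), Nonempty (towerX H G 0 ≅ ∐ fun p => G (a p)) :=
  ⟨(Σ k, H.h (G k)), fun p => p.1, ⟨Iso.refl _⟩⟩

variable [HasColimitsOfShape (Discrete ℕ) D]

/-- Brown representability on the generators: there is a homotopy colimit `L` of a tower built from the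
`G k` and an element `α` of `H L` such that `Hom(G k, L) → H (G k)` is bijective for all `k`. -/
theorem exists_rep_on (hG : ∀ k, CohDer.IsCompactObject (G k)) :
    ∃ (K : ℕ → D) (f : ∀ n, K n ⟶ K (n + 1)) (L : D) (i : ∀ n, K n ⟶ L) (α : H.h L),
      DerLim.IsHocolim K f L i ∧
      (∃ (I : Type v) (a : I → κ), Nonempty (K 0 ≅ ∐ fun p => G (a p))) ∧
      (∀ n, ∃ (I : Type v) (a : I → κ) (y : (∐ fun p => G (a p)) ⟶ K n)
        (z : K (n + 1) ⟶ (∐ fun p => G (a p))⟦(1 : ℤ)⟧), Triangle.mk y (f n) z ∈ distTriang D) ∧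
      ∀ k, Function.Bijective (H.tau α (G k)) := by
  obtain ⟨L, i, hL⟩ := exists_isHocolim (towerX H G) (towerMap H G)
  -- the element on the coproduct
  obtain ⟨b, hb⟩ := H.prod_surj_nat (towerX H G) (towerα H G)
  have hb0 : H.pull (𝟙 (∐ towerX H G) - DerLim.shiftMap (towerX H G) (towerMap H G)) b = 0 := by
    apply H.prod_inj_nat
    intro n
    rw [← H.pull_comp, Preadditive.comp_sub, Category.comp_id, ι_shiftMap, H.pull_sub, map_zero,
      H.pull_comp, hb, hb, towerMap_spec, sub_self]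
  have hL' := hL
  obtain ⟨c, hT⟩ := hL'
  obtain ⟨α, hα⟩ : ∃ α : H.h L, H.pull (Sigma.desc i) α = b := H.exact _ hT b hb0
  have hαn : ∀ n, H.pull (i n) α = towerα H G n := by
    intro n
    rw [← hb n, ← hα, ← H.pull_comp, Sigma.ι_desc]
  refine ⟨towerX H G, towerMap H G, L, i, α, hL, tower_zero_shape H G,
    towerMap_shape H G, fun k => ⟨?_, ?_⟩⟩
  · -- injectivity
    intro g₁ g₂ hg
    have hg0 : H.pull (g₁ - g₂) α = 0 := by
      rw [H.pull_sub]; exact sub_eq_zero.mpr hg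
    obtain ⟨N, g', hg'⟩ := isHocolim_factor hL (G k) (hG k) (g₁ - g₂)
    have h1 : H.pull g' (towerα H G N) = 0 := by
      rw [← hαn N, ← H.pull_comp, ← hg', hg0]
    have h2 := towerMap_kill H G N k g' h1
    have h3 : g₁ - g₂ = 0 := by
      rw [hg', isHocolim_comp hL N, ← Category.assoc, h2, zero_comp]
    exact sub_eq_zero.mp h3
  · -- surjectivity
    intro x
    obtain ⟨j, hj⟩ := tower_zero_surj H G k x
    refine ⟨j ≫ i 0, ?_⟩
    change H.pull _ α = x
    rw [H.pull_comp, hαn 0, hj]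

end Tower


/-! ### Closure properties of the class where `τ_α` is bijective -/

section Closure

variable (H : CohFun D) {X : D} (α : H.h X)

/-- `τ_α` is bijective at `Z`. -/
def P (Z : D) : Prop := Function.Bijective (H.tau α Z)

variable {H α}

lemma P_inj {Z : D} (h : P H α Z) (g : Z ⟶ X) (hg : H.pull g α = 0) : g = 0 :=
  h.1 (hg.trans (H.tau_zero α Z).symm)

lemma P_surj {Z : D} (h : P H α Z) (x : H.h Z) : ∃ g : Z ⟶ X, H.pull g α = x := h.2 x

lemma P_mk {Z : D} (h₁ : ∀ g : Z ⟶ X, H.pull g α = 0 → g = 0)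
    (h₂ : ∀ x : H.h Z, ∃ g : Z ⟶ X, H.pull g α = x) : P H α Z := by
  refine ⟨fun g₁ g₂ hg => ?_, h₂⟩
  have : g₁ - g₂ = 0 := h₁ _ (by rw [H.pull_sub]; exact sub_eq_zero.mpr hg)
  exact sub_eq_zero.mp this

lemma P_iso {Z Z' : D} (e : Z ≅ Z') (h : P H α Z) : P H α Z' := by
  apply P_mk
  · intro g hg
    have : e.hom ≫ g = 0 := P_inj h _ (by rw [H.pull_comp, hg, map_zero])
    rw [← cancel_epi e.hom, this, comp_zero]
  · intro x
    obtain ⟨g, hg⟩ := P_surj h (H.pull e.hom x)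
    refine ⟨e.inv ≫ g, ?_⟩
    rw [H.pull_comp, hg, ← H.pull_comp, Iso.inv_hom_id, H.pull_id]

lemma P_coprod {ι : Type v} (Y : ι → D) (h : ∀ k, P H α (Y k)) : P H α (∐ Y) := by
  apply P_mk
  · intro g hg
    apply Sigma.hom_ext
    intro k
    rw [comp_zero]
    exact P_inj (h k) _ (by rw [H.pull_comp, hg, map_zero])
  · intro x
    choose g hg using fun k => P_surj (h k) (H.pull (Sigma.ι Y k) x)
    refine ⟨Sigma.desc g, ?_⟩
    apply H.prod_inj
    intro k
    rw [← H.pull_comp, Sigma.ι_desc, hg]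

/-- Five lemma. -/
lemma P_five (T : Triangle D) (hT : T ∈ distTriang D) (hA : P H α T.obj₁) (hB : P H α T.obj₂)
    (hA1 : P H α (T.obj₁⟦(1 : ℤ)⟧)) (hB1 : P H α (T.obj₂⟦(1 : ℤ)⟧)) : P H α T.obj₃ := by
  have hT1 : Triangle.mk T.mor₂ T.mor₃ (-T.mor₁⟦(1 : ℤ)⟧') ∈ distTriang D := rot_of_distTriang _ hT
  have hT2 : Triangle.mk T.mor₃ (-T.mor₁⟦(1 : ℤ)⟧') (-T.mor₂⟦(1 : ℤ)⟧') ∈ distTriang D :=
    rot_of_distTriang _ hT1
  apply P_mk
  · intro g hg
    have h1 : T.mor₂ ≫ g = 0 := P_inj hB _ (by rw [H.pull_comp, hg, map_zero])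
    obtain ⟨g', hg'⟩ := Triangle.yoneda_exact₃ T hT g h1
    have h2 : H.pull T.mor₃ (H.pull g' α) = 0 := by rw [← H.pull_comp, ← hg', hg]
    obtain ⟨c, hc⟩ : ∃ c : H.h (T.obj₂⟦(1 : ℤ)⟧), H.pull (-T.mor₁⟦(1 : ℤ)⟧') c = H.pull g' α :=
      H.exact _ hT2 (H.pull g' α) h2
    obtain ⟨g'', hg''⟩ := P_surj hB1 c
    have h3 : g' - (-T.mor₁⟦(1 : ℤ)⟧') ≫ g'' = 0 :=
      P_inj hA1 _ (by rw [H.pull_sub, H.pull_comp, hg'', hc, sub_self])
    have h4 : g' = (-T.mor₁⟦(1 : ℤ)⟧') ≫ g'' := sub_eq_zero.mp h3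
    have h5 : T.mor₃ ≫ T.mor₁⟦(1 : ℤ)⟧' = 0 := comp_distTriang_mor_zero₃₁ _ hT
    rw [hg', h4, Preadditive.neg_comp, Preadditive.comp_neg, ← Category.assoc, h5, zero_comp,
      neg_zero]
  · intro x
    obtain ⟨gB, hgB⟩ := P_surj hB (H.pull T.mor₂ x)
    have h0 : T.mor₁ ≫ T.mor₂ = 0 := comp_distTriang_mor_zero₁₂ _ hT
    have h1 : T.mor₁ ≫ gB = 0 :=
      P_inj hA _ (by rw [H.pull_comp, hgB, ← H.pull_comp, h0, H.pull_zero])
    obtain ⟨gC, hgC⟩ := Triangle.yoneda_exact₂ T hT gB h1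
    have h2 : H.pull T.mor₂ (x - H.pull gC α) = 0 := by
      rw [map_sub, ← H.pull_comp, ← hgC, hgB, sub_self]
    obtain ⟨a, ha⟩ : ∃ a : H.h (T.obj₁⟦(1 : ℤ)⟧), H.pull T.mor₃ a = x - H.pull gC α :=
      H.exact _ hT1 _ h2
    obtain ⟨gA, hgA⟩ := P_surj hA1 a
    refine ⟨gC + T.mor₃ ≫ gA, ?_⟩
    rw [H.pull_add, H.pull_comp, hgA, ha, add_sub_cancel]

variable (H α) in
/-- `τ_α` is bijective at all shifts of `Z`. -/
def CC (Z : D) : Prop := ∀ n : ℤ, P H α (Z⟦n⟧)

lemma CC_iso {Z Z' : D} (e : Z ≅ Z') (h : CC H α Z) : CC H α Z' :=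
  fun n => P_iso ((shiftFunctor D n).mapIso e) (h n)

lemma CC_P {Z : D} (h : CC H α Z) : P H α Z :=
  P_iso ((shiftFunctorZero D ℤ).app Z) (h 0)

lemma CC_of_shifts {Z : D} (h : ∀ n : ℤ, P H α (Z⟦n⟧)) (m : ℤ) : CC H α (Z⟦m⟧) :=
  fun n => P_iso ((shiftFunctorAdd' D m n (m + n) rfl).app Z) (h (m + n))

lemma CC_coprod {ι : Type v} (Y : ι → D) (h : ∀ k, CC H α (Y k)) : CC H α (∐ Y) := by
  intro n
  have h1 : P H α (∐ fun k => (Y k)⟦n⟧) := P_coprod _ (fun k => h k n)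
  exact P_iso (PreservesCoproduct.iso (shiftFunctor D n) Y).symm h1

lemma CC_coprod_nat [HasColimitsOfShape (Discrete ℕ) D] (K : ℕ → D) (h : ∀ n, CC H α (K n)) :
    CC H α (∐ K) :=
  CC_iso (natReindex K) (CC_coprod _ (fun k => h k.down))

lemma CC_tri (T : Triangle D) (hT : T ∈ distTriang D) (hA : CC H α T.obj₁) (hB : CC H α T.obj₂) :
    CC H α T.obj₃ := by
  intro n
  have hTn := Triangle.shift_distinguished T hT n
  have hA1 : P H α ((T.obj₁⟦n⟧)⟦(1 : ℤ)⟧) :=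
    P_iso ((shiftFunctorAdd' D n 1 (n + 1) rfl).app T.obj₁) (hA (n + 1))
  have hB1 : P H α ((T.obj₂⟦n⟧)⟦(1 : ℤ)⟧) :=
    P_iso ((shiftFunctorAdd' D n 1 (n + 1) rfl).app T.obj₂) (hB (n + 1))
  exact P_five _ hTn (hA n) (hB n) hA1 hB1

end Closure


/-! ### Every object is a homotopy colimit of a tower built from the generators -/

section Main

variable {ι : Type v} (E : ι → D)

/-- The family of all shifts of the `E i`. -/
def shiftFam : ι × ℤ → D := fun p => (shiftFunctor D p.2).obj (E p.1)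

lemma shiftFam_compact (hc : ∀ i, CohDer.IsCompactObject (E i)) (p : ι × ℤ) :
    CohDer.IsCompactObject (shiftFam E p) :=
  compact_shift' _ (hc p.1) p.2

/-- Objects isomorphic to a shift of some `E i`. -/
def shiftClass : ObjectProperty D := fun W => ∃ (i : ι) (n : ℤ), Nonempty (W ≅ (E i)⟦n⟧)

instance : (shiftClass E).IsStableUnderShift ℤ where
  isStableUnderShiftBy n := ⟨fun W hW => by
    obtain ⟨i, m, ⟨e⟩⟩ := hW
    exact ⟨i, m + n, ⟨(shiftFunctor D n).mapIso e ≪≫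
      ((shiftFunctorAdd' D m n (m + n) rfl).app (E i)).symm⟩⟩⟩

variable [HasColimitsOfShape (Discrete ℕ) D]

/-- Every object is the homotopy colimit of a tower built from shifts of the generators. -/
theorem exists_tower (hc : ∀ i, CohDer.IsCompactObject (E i)) (hg : CohDer.Generates E) (Y : D) :
    ∃ (K : ℕ → D) (f : ∀ n, K n ⟶ K (n + 1)) (i : ∀ n, K n ⟶ Y),
      DerLim.IsHocolim K f Y i ∧
      (∃ (I : Type v) (a : I → ι × ℤ), Nonempty (K 0 ≅ ∐ fun p => shiftFam E (a p))) ∧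
      (∀ n, ∃ (I : Type v) (a : I → ι × ℤ) (y : (∐ fun p => shiftFam E (a p)) ⟶ K n)
        (z : K (n + 1) ⟶ (∐ fun p => shiftFam E (a p))⟦(1 : ℤ)⟧),
        Triangle.mk y (f n) z ∈ distTriang D) := by
  obtain ⟨K, f, L, i, u₀, hL, h0, hs, hbij⟩ :=
    exists_rep_on (homCohFun Y) (shiftFam E) (shiftFam_compact E hc)
  obtain ⟨u, rfl⟩ : ∃ u : L ⟶ Y, u = u₀ := ⟨u₀, rfl⟩
  obtain ⟨Z, v, w, hT⟩ := distinguished_cocone_triangle u
  have hZ : (shiftClass E).rightOrthogonal Z := by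
    apply MV.obj₃_rightOrthogonal (shiftClass E) _ hT
    intro W hW
    obtain ⟨j, n, ⟨e⟩⟩ := hW
    exact P_iso (H := homCohFun Y) (α := u) e.symm (hbij (j, n))
  have hZ0 : IsZero Z := by
    apply hg
    intro j n x
    have h1 : (shiftClass E).rightOrthogonal (Z⟦n⟧) := (shiftClass E).rightOrthogonal.le_shift n _ hZ
    exact h1 x ⟨j, 0, ⟨((shiftFunctorZero D ℤ).app (E j)).symm⟩⟩
  have hu : IsIso u := (Triangle.isZero₃_iff_isIso₁ _ hT).mp hZ0
  obtain ⟨c, hc'⟩ := hL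
  refine ⟨K, f, fun n => i n ≫ u, ⟨inv u ≫ c, ?_⟩, h0, hs⟩
  refine isomorphic_distinguished _ hc' _ ?_
  refine Triangle.isoMk _ _ (Iso.refl (∐ K)) (Iso.refl (∐ K)) (asIso u).symm ?_ ?_ ?_
  · change (𝟙 (∐ K) - DerLim.shiftMap K f) ≫ 𝟙 (∐ K) = 𝟙 (∐ K) ≫ (𝟙 (∐ K) - DerLim.shiftMap K f)
    rw [Category.comp_id, Category.id_comp]
  · change (Sigma.desc fun n => i n ≫ u) ≫ inv u = 𝟙 (∐ K) ≫ Sigma.desc i
    apply Sigma.hom_ext
    intro n
    rw [Category.id_comp, ← Category.assoc, Sigma.ι_desc, Sigma.ι_desc, Category.assoc,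
      IsIso.hom_inv_id, Category.comp_id]
  · change (inv u ≫ c) ≫ (𝟙 (∐ K))⟦(1 : ℤ)⟧' = inv u ≫ c
    rw [(shiftFunctor D (1 : ℤ)).map_id, Category.comp_id]

end Main


/-! ### Brown representability -/

section BrownThm

variable {ι : Type v} (E : ι → D) [HasColimitsOfShape (Discrete ℕ) D]

/-- Brown representability (element-wise form): every cohomological functor sending coproducts to
products on a compactly generated triangulated category is represented by some `(X, α)`. -/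
theorem brown (hc : ∀ i, CohDer.IsCompactObject (E i)) (hg : CohDer.Generates E) (H : CohFun D) :
    ∃ (X : D) (α : H.h X), ∀ Y : D, Function.Bijective (H.tau α Y) := by
  obtain ⟨K, f, L, i, α, -, -, -, hbij⟩ :=
    exists_rep_on H (shiftFam E) (shiftFam_compact E hc)
  refine ⟨L, α, fun Y => ?_⟩
  have hG : ∀ p : ι × ℤ, CC H α (shiftFam E p) := fun p =>
    CC_of_shifts (Z := E p.1) (fun n => hbij (p.1, n)) p.2
  obtain ⟨K', f', i', ⟨c, hT⟩, ⟨I, a, ⟨e0⟩⟩, hs⟩ := exists_tower E hc hg Y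
  have hK' : ∀ n, CC H α (K' n) := by
    intro n
    induction n with
    | zero => exact CC_iso e0.symm (CC_coprod _ (fun p => hG (a p)))
    | succ n ih =>
      obtain ⟨I', a', y, z, hT'⟩ := hs n
      exact CC_tri _ hT' (CC_coprod _ (fun p => hG (a' p))) ih
  have hsum : CC H α (∐ K') := CC_coprod_nat K' hK'
  exact CC_P (CC_tri _ hT hsum hsum)

end BrownThm

end Groth.Agent.Lib.Helper83.Brown
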