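import Mathlib.CategoryTheory.Triangulated.Opposite.Pretriangulated
import Mathlib.CategoryTheory.Triangulated.HomologicalFunctor
import Mathlib.Algebra.Category.Grp.Basic
import Mathlib.Algebra.Category.Grp.Abelian
import Mathlib.Algebra.Category.Grp.Limits
import Mathlib.Algebra.Homology.ShortComplex.Ab
import Mathlib.CategoryTheory.Limits.Shapes.Opposites.Products
import Mathlib.CategoryTheory.Limits.Types.Limits
import Mathlib.CategoryTheory.Adjunction.Basic
import Groth.Agent.Lib.Helper83.Brown

/-!
# Brown representability: functor forms (helper83)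
-/

set_option autoImplicit false
set_option linter.unusedSectionVars false
universe v u u'
open CategoryTheory CategoryTheory.Limits CategoryTheory.Pretriangulated

namespace Groth.Agent.Lib.Helper83.Brown

open CategoryTheory.Pretriangulated.Opposite

variable {D : Type u} [Category.{v} D] [Preadditive D] [HasZeroObject D] [HasShift D ℤ]
  [∀ n : ℤ, (shiftFunctor D n).Additive] [Pretriangulated D] [HasCoproducts.{v} D]

section Functor

variable (H : Dᵒᵖ ⥤ AddCommGrpCat.{v}) [H.IsHomological]
  [∀ (ι : Type v), PreservesLimitsOfShape (Discrete ι) H]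

lemma functor_prod {κ : Type v} (Y : κ → D) (a : ∀ k, H.obj (Opposite.op (Y k))) :
    ∃! b : H.obj (Opposite.op (∐ Y)), ∀ k, (H.map (Sigma.ι Y k).op).hom b = a k := by
  let c : Cofan Y := Cofan.mk (∐ Y) (Sigma.ι Y)
  have hc : IsColimit c := coproductIsCoproduct Y
  have h1 : IsLimit (H.mapCone c.op) := isLimitOfPreserves H (Cofan.IsColimit.op hc)
  have h2 : IsLimit ((forget AddCommGrpCat.{v}).mapCone (H.mapCone c.op)) :=
    isLimitOfPreserves (forget AddCommGrpCat.{v}) h1
  have h3 := (Types.isLimit_iff _).mp ⟨h2⟩ (fun j => a j.as) (by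
    rintro ⟨j⟩ ⟨j'⟩ f
    obtain rfl : j = j' := Discrete.eq_of_hom f
    have : f = 𝟙 _ := Subsingleton.elim _ _
    subst this
    simp)
  obtain ⟨b, hb, hb'⟩ := h3
  refine ⟨b, fun k => hb ⟨k⟩, fun b' hb'' => hb' b' (fun j => hb'' j.as)⟩

/-- The abstract cohomological functor attached to a homological functor `Dᵒᵖ ⥤ Ab` which sends
coproducts to products. -/
noncomputable def functorCohFun : CohFun D where
  h Y := H.obj (Opposite.op Y)
  grp Y := inferInstance
  pull f := (H.map f.op).hom
  pull_id Y a := by simp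
  pull_comp f g a := by simp
  pull_sub f g a := by
    have : H.map (f - g).op = H.map f.op - H.map g.op := by rw [op_sub, H.map_sub]
    rw [this]
    rfl
  exact T hT b hb := by
    have h := (Functor.IsHomological.exact (F := H) _ (op_distinguished T hT))
    rw [ShortComplex.ab_exact_iff] at h
    exact h b hb
  prod_inj Y a b hab :=
    (functor_prod H Y (fun k => (H.map (Sigma.ι Y k).op).hom b)).unique hab (fun _ => rfl)
  prod_surj Y a := (functor_prod H Y a).exists

omit [HasCoproducts.{v} D] in
lemma hasCoproducts_nat [HasCoproducts.{v} D] : HasColimitsOfShape (Discrete ℕ) D := by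
  have : HasCoproducts.{0} D := has_smallest_coproducts_of_hasCoproducts.{v}
  exact this ℕ

/-- Brown representability for functors `Dᵒᵖ ⥤ Ab`. -/
theorem brown_functor (hD : CohDer.IsCompactlyGenerated D) :
    (H ⋙ forget AddCommGrpCat.{v}).IsRepresentable := by
  obtain ⟨ι, E, hc, hg⟩ := hD
  have : HasColimitsOfShape (Discrete ℕ) D := hasCoproducts_nat
  obtain ⟨X, α, hα⟩ := brown E hc hg (functorCohFun H)
  exact ⟨X, ⟨{ homEquiv := fun {Y} => Equiv.ofBijective _ (hα Y)
               homEquiv_comp := fun {Y Y'} f g => (functorCohFun H).tau_comp α f g }⟩⟩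

end Functor

section Adjoint

variable {D' : Type u'} [Category.{v} D'] [Preadditive D'] [HasZeroObject D'] [HasShift D' ℤ]
  [∀ n : ℤ, (shiftFunctor D' n).Additive] [Pretriangulated D']
  (F : D ⥤ D') [F.CommShift ℤ] [F.IsTriangulated]
  [∀ (ι : Type v), PreservesColimitsOfShape (Discrete ι) F]

/-- `Hom(F -, Y')` as an abstract cohomological functor. -/
noncomputable def adjCohFun (Y' : D') : CohFun D where
  h Z := (F.obj Z ⟶ Y')
  grp Z := inferInstance
  pull f := Preadditive.leftComp Y' (F.map f)
  pull_id Z a := by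
    change F.map (𝟙 Z) ≫ a = a
    rw [F.map_id, Category.id_comp]
  pull_comp f g a := by
    change F.map (f ≫ g) ≫ a = F.map f ≫ F.map g ≫ a
    rw [F.map_comp, Category.assoc]
  pull_sub f g a := by
    change F.map (f - g) ≫ a = F.map f ≫ a - F.map g ≫ a
    rw [F.map_sub, Preadditive.sub_comp]
  exact T hT b hb := by
    obtain ⟨c, hc⟩ := Triangle.yoneda_exact₂ _ (F.map_distinguished T hT) b hb
    exact ⟨c, hc.symm⟩
  prod_inj Z a b hab := by
    have hcol := isColimitOfPreserves F (coproductIsCoproduct Z)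
    exact hcol.hom_ext (fun j => hab j.as)
  prod_surj Z a := by
    have hcol := isColimitOfPreserves F (coproductIsCoproduct Z)
    let s : Cocone (Discrete.functor Z ⋙ F) := ⟨Y', Discrete.natTrans (fun j => a j.as)⟩
    exact ⟨hcol.desc s, fun k => hcol.fac s ⟨k⟩⟩

/-- A triangulated functor out of a compactly generated category which preserves coproducts has a
right adjoint. -/
theorem isLeftAdjoint_of_brown (hD : CohDer.IsCompactlyGenerated D) : F.IsLeftAdjoint := by
  obtain ⟨ι, E, hc, hg⟩ := hD
  have : HasColimitsOfShape (Discrete ℕ) D := hasCoproducts_nat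
  have key : ∀ Y' : D', ∃ (X : D) (α : F.obj X ⟶ Y'),
      ∀ Z, Function.Bijective (fun g : Z ⟶ X => F.map g ≫ α) :=
    fun Y' => brown E hc hg (adjCohFun F Y')
  choose G α hα using key
  let e : ∀ X Y, (F.obj X ⟶ Y) ≃ (X ⟶ G Y) := fun X Y => (Equiv.ofBijective _ (hα Y X)).symm
  have he' : ∀ X Y (g : X ⟶ G Y), (e X Y).symm g = F.map g ≫ α Y := fun X Y g => rfl
  have he : ∀ X' X Y (f : X' ⟶ X) (g : F.obj X ⟶ Y), e X' Y (F.map f ≫ g) = f ≫ e X Y g := by
    intro X' X Y f g
    apply (e X' Y).symm.injective
    rw [Equiv.symm_apply_apply, he', F.map_comp, Category.assoc, ← he', Equiv.symm_apply_apply]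
  exact ⟨_, ⟨Adjunction.adjunctionOfEquivRight e he⟩⟩

end Adjoint

end Groth.Agent.Lib.Helper83.Brown
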