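import Groth.Agent.Lib.Helper83.BrownFunctor

/-!
# Brown representability for perfectly generated triangulated categories (helper83)
-/

set_option autoImplicit false
set_option linter.unusedSectionVars false
universe v u u'
open CategoryTheory CategoryTheory.Limits CategoryTheory.Pretriangulated

namespace Groth.Agent.Lib.Helper83.Brown

variable {D : Type u} [Category.{v} D] [Preadditive D] [HasZeroObject D] [HasShift D ℤ]
  [∀ n : ℤ, (shiftFunctor D n).Additive] [Pretriangulated D] [HasCoproducts.{v} D]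
  [HasColimitsOfShape (Discrete ℕ) D]

section Perf

variable {κ : Type v} (G : κ → D)

/-- The object `s` has the countable factorization property with respect to the family `G`: every
morphism from `s` to a countable coproduct `∐ X` factors through a coproduct of morphisms
`G (j n) ⟶ X n`. -/
def PerfAt (s : D) : Prop :=
  ∀ (X : ℕ → D) (α : s ⟶ ∐ X), ∃ (j : ℕ → κ) (β : ∀ n, G (j n) ⟶ X n)
    (γ : s ⟶ ∐ (fun n => G (j n))), α = γ ≫ Limits.Sigma.map β

variable {G}

lemma PerfAt.of_iso {s s' : D} (e : s ≅ s') (h : PerfAt G s) : PerfAt G s' := by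
  intro X α
  obtain ⟨j, β, γ, hα⟩ := h X (e.hom ≫ α)
  refine ⟨j, β, e.inv ≫ γ, ?_⟩
  rw [Category.assoc, ← hα, ← Category.assoc, e.inv_hom_id, Category.id_comp]

/-- The factorization property is transported along a left adjoint (when both adjoints preserve
countable coproducts). -/
lemma PerfAt.map_adj {L R : D ⥤ D} (adj : L ⊣ R) [PreservesColimitsOfShape (Discrete ℕ) L]
    [PreservesColimitsOfShape (Discrete ℕ) R] {s : D} (h : PerfAt G s) :
    PerfAt (fun k => L.obj (G k)) (L.obj s) := by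
  intro X α
  obtain ⟨j, β₀, γ₀, h⟩ := h (fun m => R.obj (X m))
    (adj.homEquiv _ _ α ≫ (PreservesCoproduct.iso R X).hom)
  refine ⟨j, fun m => (adj.homEquiv _ _).symm (β₀ m),
    L.map γ₀ ≫ (PreservesCoproduct.iso L (fun m => G (j m))).hom, ?_⟩
  have hα : α = L.map (adj.homEquiv _ _ α) ≫ adj.counit.app _ := by
    have := (adj.homEquiv s (∐ X)).symm_apply_apply α
    rw [Adjunction.homEquiv_counit] at this
    exact this.symm
  have h' : adj.homEquiv _ _ α = (γ₀ ≫ Limits.Sigma.map β₀) ≫ (PreservesCoproduct.iso R X).inv := by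
    rw [← h, Category.assoc, Iso.hom_inv_id, Category.comp_id]
  have key : (PreservesCoproduct.iso L (fun m => G (j m))).hom ≫
      Limits.Sigma.map (fun m => (adj.homEquiv _ _).symm (β₀ m)) =
      L.map (Limits.Sigma.map β₀ ≫ (PreservesCoproduct.iso R X).inv) ≫ adj.counit.app _ := by
    rw [← cancel_epi (PreservesCoproduct.iso L (fun m => G (j m))).inv, Iso.inv_hom_id_assoc]
    apply Sigma.hom_ext
    intro m
    have h1 : Sigma.ι (fun m => L.obj (G (j m))) m ≫
        (PreservesCoproduct.iso L (fun m => G (j m))).inv = L.map (Sigma.ι (fun m => G (j m)) m) := by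
      rw [PreservesCoproduct.inv_hom, ι_comp_sigmaComparison]
    have h2 : Sigma.ι (fun m => R.obj (X m)) m ≫ (PreservesCoproduct.iso R X).inv =
        R.map (Sigma.ι X m) := by
      rw [PreservesCoproduct.inv_hom, ι_comp_sigmaComparison]
    have h3 : L.map (R.map (Sigma.ι X m)) ≫ adj.counit.app (∐ X) =
        adj.counit.app (X m) ≫ Sigma.ι X m := adj.counit.naturality (Sigma.ι X m)
    rw [Limits.Sigma.ι_map, reassoc_of% h1, ← L.map_comp_assoc, Limits.Sigma.ι_map_assoc, h2,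
      L.map_comp, Category.assoc, h3, Adjunction.homEquiv_counit, Category.assoc]
  rw [hα, h', Category.assoc, L.map_comp, Category.assoc, ← key, Category.assoc]

end Perf

section ShiftPerf

variable {ι : Type v} (E : ι → D)

/-- The factorization property passes to shifts. -/
lemma perfAt_shiftFam (h2 : ∀ i, PerfAt E (E i)) (i : ι) (n : ℤ) :
    PerfAt (shiftFam E) ((E i)⟦n⟧) := by
  have adj : shiftFunctor D n ⊣ shiftFunctor D (-n) := (shiftEquiv D n).toAdjunction
  have h := (h2 i).map_adj adj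
  intro X α
  obtain ⟨j, β, γ, hα⟩ := h X α
  exact ⟨fun m => (j m, n), β, γ, hα⟩

end ShiftPerf

/-- Weak exactness of coproducts of distinguished triangles: a morphism to `∐ Y` killed by `∐ ψ` factors
through `∐ q`. -/
lemma factor_sigmaMap {J : Type} [HasCoproductsOfShape J D] (Q Y Z : J → D) (q : ∀ j, Q j ⟶ Y j)
    (ψ : ∀ j, Y j ⟶ Z j) (r : ∀ j, Z j ⟶ (Q j)⟦(1 : ℤ)⟧)
    (hT : ∀ j, Triangle.mk (q j) (ψ j) (r j) ∈ distTriang D) {A : D} (w : A ⟶ ∐ Y)
    (hw : w ≫ Limits.Sigma.map ψ = 0) : ∃ w' : A ⟶ ∐ Q, w = w' ≫ Limits.Sigma.map q := by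
  obtain ⟨Z', f₂, f₃, hT'⟩ := distinguished_cocone_triangle (Limits.Sigma.map q)
  have hc : ∀ j, ∃ c : Z j ⟶ Z', ψ j ≫ c = Sigma.ι Y j ≫ f₂ := by
    intro j
    obtain ⟨c, hc, -⟩ := complete_distinguished_triangle_morphism _ _ (hT j) hT'
      (Sigma.ι Q j) (Sigma.ι Y j) (by
        change q j ≫ Sigma.ι Y j = Sigma.ι Q j ≫ Limits.Sigma.map q
        rw [Limits.Sigma.ι_map])
    exact ⟨c, hc⟩
  choose c hc using hc
  have h2 : Limits.Sigma.map ψ ≫ Sigma.desc c = f₂ := by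
    apply Sigma.hom_ext
    intro j
    rw [Limits.Sigma.ι_map_assoc, Sigma.ι_desc, hc]
  have h0 : w ≫ f₂ = 0 := by rw [← h2, reassoc_of% hw, zero_comp]
  obtain ⟨w', hw'⟩ : ∃ w' : A ⟶ ∐ Q, w = w' ≫ Limits.Sigma.map q :=
    Triangle.coyoneda_exact₂ _ hT' w h0
  exact ⟨w', hw'⟩


/-! ### Constant families -/

section ConstFam

/-- The shift endomorphism of a countable copower. -/
noncomputable def cSh (A : D) : (∐ fun _ : ℕ => A) ⟶ ∐ fun _ : ℕ => A :=
  Sigma.desc (fun n => Sigma.ι (fun _ : ℕ => A) (n + 1))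

/-- A retraction of `1 - cSh`. -/
noncomputable def cR (A : D) : (∐ fun _ : ℕ => A) ⟶ ∐ fun _ : ℕ => A :=
  Sigma.desc (fun m => - ∑ k ∈ Finset.range m, Sigma.ι (fun _ : ℕ => A) k)

lemma one_sub_cSh_comp_cR (A : D) : (𝟙 _ - cSh A) ≫ cR A = 𝟙 _ := by
  apply Sigma.hom_ext
  intro n
  rw [Preadditive.sub_comp, Preadditive.comp_sub, Category.id_comp, Category.comp_id]
  unfold cSh cR
  rw [Sigma.ι_desc, Sigma.ι_desc_assoc, Sigma.ι_desc, Finset.sum_range_succ]
  abel

lemma map_comp_cR {A B : D} (ω : A ⟶ B) :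
    Limits.Sigma.map (fun _ : ℕ => ω) ≫ cR B = cR A ≫ Limits.Sigma.map (fun _ : ℕ => ω) := by
  apply Sigma.hom_ext
  intro m
  unfold cR
  rw [Limits.Sigma.ι_map_assoc, Sigma.ι_desc, Sigma.ι_desc_assoc, Preadditive.comp_neg,
    Preadditive.neg_comp, Preadditive.comp_sum, Preadditive.sum_comp]
  congr 1
  refine Finset.sum_congr rfl (fun k _ => ?_)
  rw [Limits.Sigma.ι_map]

end ConstFam

/-! ### Towers -/

section TowerPerf

variable (K : ℕ → D) (f : ∀ n, K n ⟶ K (n + 1))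

/-- The composite `K 0 ⟶ K (n + 1)`. -/
def towerComp : ∀ n, K 0 ⟶ K (n + 1)
  | 0 => f 0
  | (n + 1) => towerComp n ≫ f (n + 1)

/-- The inclusion of the summands of positive index. -/
noncomputable def succIncl : (∐ fun n => K (n + 1)) ⟶ ∐ K :=
  Sigma.desc (fun n => Sigma.ι K (n + 1))

/-- A retraction of `succIncl`. -/
noncomputable def succRetr : (∐ K) ⟶ ∐ fun n => K (n + 1) :=
  Sigma.desc (fun m => match m with
    | 0 => 0
    | (n + 1) => Sigma.ι (fun n => K (n + 1)) n)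

lemma succIncl_succRetr : succIncl K ≫ succRetr K = 𝟙 _ := by
  apply Sigma.hom_ext
  intro n
  unfold succIncl succRetr
  rw [Sigma.ι_desc_assoc, Sigma.ι_desc, Category.comp_id]

end TowerPerf


section MainLemma

variable (K : ℕ → D) (f : ∀ n, K n ⟶ K (n + 1)) {κ : Type v} (G : κ → D)

/-- Key lemma: for a tower whose transition maps kill "kernels", `1 - shift` is injective on morphisms
from objects having the countable factorization property. -/
lemma eq_zero_of_comp_one_sub_shiftMap_perf {W : D} (ω : W ⟶ K 0) (hω : ω ≫ f 0 = 0)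
    (hb : ∀ (k : κ) (n : ℕ) (x : G k ⟶ K 0), x ≫ towerComp K f n = 0 → ∃ x' : G k ⟶ W, x = x' ≫ ω)
    (hc : ∀ (k : κ) (n : ℕ) (β : G k ⟶ K n), ∃ β' : G k ⟶ K 0, β ≫ f n = β' ≫ towerComp K f n)
    (s : D) (hs : PerfAt G s) (u : s ⟶ ∐ K)
    (hu : u ≫ (𝟙 (∐ K) - DerLim.shiftMap K f) = 0) : u = 0 := by
  have hu' : u = u ≫ DerLim.shiftMap K f := by
    rw [Preadditive.comp_sub, Category.comp_id] at hu
    exact sub_eq_zero.mp hu
  obtain ⟨j, β, γ, hβ⟩ := hs K u
  choose β' hβ' using fun n => hc (j n) n (β n)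
  -- the comparison map from the copower of `K 0`
  let Φ : (∐ fun _ : ℕ => K 0) ⟶ ∐ K := Sigma.desc (fun n => towerComp K f n ≫ Sigma.ι K (n + 1))
  have hΦ : Φ = Limits.Sigma.map (towerComp K f) ≫ succIncl K := by
    apply Sigma.hom_ext
    intro n
    unfold succIncl
    rw [Sigma.ι_desc, Limits.Sigma.ι_map_assoc, Sigma.ι_desc]
  let v : s ⟶ ∐ fun _ : ℕ => K 0 := γ ≫ Limits.Sigma.map β'
  have h1 : Limits.Sigma.map β ≫ DerLim.shiftMap K f = Limits.Sigma.map β' ≫ Φ := by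
    apply Sigma.hom_ext
    intro n
    rw [Limits.Sigma.ι_map_assoc, ι_shiftMap, Limits.Sigma.ι_map_assoc, Sigma.ι_desc,
      ← Category.assoc, hβ' n, Category.assoc]
  have hv : u = v ≫ Φ := by
    rw [hu', hβ, Category.assoc, h1, ← Category.assoc]
  have h2 : Φ ≫ DerLim.shiftMap K f = cSh (K 0) ≫ Φ := by
    apply Sigma.hom_ext
    intro n
    unfold cSh
    rw [Sigma.ι_desc_assoc, Sigma.ι_desc_assoc, Sigma.ι_desc, Category.assoc, ι_shiftMap,
      ← Category.assoc]
    rfl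
  have h3 : (v ≫ (𝟙 _ - cSh (K 0))) ≫ Φ = 0 := by
    rw [Category.assoc, Preadditive.sub_comp, Category.id_comp, Preadditive.comp_sub, ← h2,
      ← Category.assoc v, ← hv, ← hu', sub_self]
  have h4 : (v ≫ (𝟙 _ - cSh (K 0))) ≫ Limits.Sigma.map (towerComp K f) = 0 := by
    have := congrArg (fun z => z ≫ succRetr K) h3
    simp only [hΦ, Category.assoc, succIncl_succRetr, Category.comp_id, zero_comp] at this
    rw [Category.assoc]
    exact this
  -- triangles on the `towerComp`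
  choose Q q r hT using fun n => distinguished_cocone_triangle₁ (towerComp K f n)
  obtain ⟨w₁, hw₁⟩ := factor_sigmaMap Q (fun _ : ℕ => K 0) (fun n => K (n + 1)) q (towerComp K f) r hT
    (v ≫ (𝟙 _ - cSh (K 0))) h4
  obtain ⟨j₁, δ, γ₁, hδ⟩ := hs Q w₁
  have hε : ∀ n, ∃ ε : G (j₁ n) ⟶ W, δ n ≫ q n = ε ≫ ω := by
    intro n
    apply hb (j₁ n) n
    have : q n ≫ towerComp K f n = 0 := comp_distTriang_mor_zero₁₂ _ (hT n)
    rw [Category.assoc, this, comp_zero]
  choose ε hε using hε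
  have hw : v ≫ (𝟙 _ - cSh (K 0)) =
      (γ₁ ≫ Limits.Sigma.map ε) ≫ Limits.Sigma.map (fun _ : ℕ => ω) := by
    rw [hw₁, hδ, Category.assoc, Category.assoc, Limits.Sigma.map_comp_map,
      Limits.Sigma.map_comp_map]
    congr 2
    funext n
    exact hε n
  have hωψ : ∀ n, ω ≫ towerComp K f n = 0 := by
    intro n
    induction n with
    | zero => exact hω
    | succ n ih =>
      change ω ≫ towerComp K f n ≫ f (n + 1) = 0
      rw [← Category.assoc, ih, zero_comp]
  have hωΦ : Limits.Sigma.map (fun _ : ℕ => ω) ≫ Φ = 0 := by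
    apply Sigma.hom_ext
    intro n
    rw [Limits.Sigma.ι_map_assoc, Sigma.ι_desc, ← Category.assoc, hωψ, zero_comp, comp_zero]
  have hv' : v = (v ≫ (𝟙 _ - cSh (K 0))) ≫ cR (K 0) := by
    rw [Category.assoc, one_sub_cSh_comp_cR, Category.comp_id]
  rw [hv, hv', hw, Category.assoc, Category.assoc, reassoc_of% (map_comp_cR ω), hωΦ, comp_zero,
    comp_zero]

end MainLemma


section TowerComp0

variable (K : ℕ → D) (f : ∀ n, K n ⟶ K (n + 1))

/-- The composite `K 0 ⟶ K n`. -/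
def towerComp0 : ∀ n, K 0 ⟶ K n
  | 0 => 𝟙 _
  | (n + 1) => towerComp0 n ≫ f n

lemma towerComp0_succ (n : ℕ) : towerComp0 K f (n + 1) = towerComp K f n := by
  induction n with
  | zero => exact Category.id_comp _
  | succ n ih =>
    change towerComp0 K f (n + 1) ≫ f (n + 1) = towerComp K f n ≫ f (n + 1)
    rw [ih]

lemma sigmaMap_add {X Y : ℕ → D} (a b : ∀ n, X n ⟶ Y n) :
    Limits.Sigma.map (fun n => a n + b n) = Limits.Sigma.map a + Limits.Sigma.map b := by
  apply Sigma.hom_ext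
  intro n
  rw [Limits.Sigma.ι_map, Preadditive.comp_add, Limits.Sigma.ι_map, Limits.Sigma.ι_map,
    Preadditive.add_comp]

/-- The "geometric series" map from the copower of `K 0`. -/
noncomputable def geomMap : (∐ fun _ : ℕ => K 0) ⟶ ∐ K :=
  Sigma.desc (fun m => ∑ k ∈ Finset.range m, towerComp0 K f k ≫ Sigma.ι K k)

lemma geomMap_comp (m : ℕ) :
    Sigma.ι (fun _ : ℕ => K 0) m ≫ geomMap K f ≫ (𝟙 (∐ K) - DerLim.shiftMap K f) =
      Sigma.ι K 0 - towerComp0 K f m ≫ Sigma.ι K m := by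
  unfold geomMap
  rw [Sigma.ι_desc_assoc, Preadditive.sum_comp]
  have : ∀ k ∈ Finset.range m, (towerComp0 K f k ≫ Sigma.ι K k) ≫
      (𝟙 (∐ K) - DerLim.shiftMap K f) =
      towerComp0 K f k ≫ Sigma.ι K k - towerComp0 K f (k + 1) ≫ Sigma.ι K (k + 1) := by
    intro k _
    rw [Category.assoc, Preadditive.comp_sub, Category.comp_id, ι_shiftMap, Preadditive.comp_sub,
      ← Category.assoc (towerComp0 K f k)]
    rfl
  rw [Finset.sum_congr rfl this,
    Finset.sum_range_sub' (fun k => towerComp0 K f k ≫ Sigma.ι K k) m]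
  change 𝟙 _ ≫ Sigma.ι K 0 - _ = _
  rw [Category.id_comp]

end TowerComp0


section TowerRep

variable (H : CohFun D) {κ : Type v} (G : κ → D) (K : ℕ → D) (f : ∀ n, K n ⟶ K (n + 1))
  (a : ∀ n, H.h (K n)) (ha : ∀ n, H.pull (f n) (a (n + 1)) = a n)
  (hsurj : ∀ (k : κ) (x : H.h (G k)), ∃ j : G k ⟶ K 0, H.pull j (a 0) = x)
  (hkill : ∀ (n : ℕ) (k : κ) (g : G k ⟶ K n), H.pull g (a n) = 0 → g ≫ f n = 0)

include ha in
lemma towerComp0_spec (n : ℕ) : H.pull (towerComp0 K f n) (a n) = a 0 := by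
  induction n with
  | zero => exact H.pull_id _ _
  | succ n ih =>
    change H.pull (towerComp0 K f n ≫ f n) _ = _
    rw [H.pull_comp, ha, ih]

include ha in
lemma towerComp_spec (n : ℕ) : H.pull (towerComp K f n) (a (n + 1)) = a 0 := by
  rw [← towerComp0_succ]
  exact towerComp0_spec H K f a ha (n + 1)

include ha hsurj hkill in
/-- Condition (c) of the key lemma for a killing tower. -/
lemma tower_hc (k : κ) (n : ℕ) (β : G k ⟶ K n) :
    ∃ β' : G k ⟶ K 0, β ≫ f n = β' ≫ towerComp K f n := by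
  obtain ⟨β', hβ'⟩ := hsurj k (H.pull β (a n))
  refine ⟨β', ?_⟩
  have h1 : H.pull (β - β' ≫ towerComp0 K f n) (a n) = 0 := by
    rw [H.pull_sub, H.pull_comp, towerComp0_spec H K f a ha, hβ', sub_self]
  have h2 := hkill n k _ h1
  rw [Preadditive.sub_comp, sub_eq_zero, Category.assoc] at h2
  rw [h2, ← towerComp0_succ]
  rfl

include ha hkill in
/-- Condition (b) of the key lemma for a killing tower. -/
lemma tower_hb {W : D} (ω : W ⟶ K 0) (z : K 1 ⟶ W⟦(1 : ℤ)⟧)
    (hT : Triangle.mk ω (f 0) z ∈ distTriang D) (k : κ) (n : ℕ) (x : G k ⟶ K 0)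
    (hx : x ≫ towerComp K f n = 0) : ∃ x' : G k ⟶ W, x = x' ≫ ω := by
  have h1 : H.pull x (a 0) = 0 := by
    rw [← towerComp_spec H K f a ha n, ← H.pull_comp, hx, H.pull_zero]
  have h2 := hkill 0 k x h1
  exact Triangle.coyoneda_exact₂ _ hT x h2

include ha hsurj hkill in
/-- Lemma D: a morphism from a generator to the coproduct of the tower which is killed by the
element of the coproduct lies in the image of `1 - shift`. -/
lemma tower_exact_mid (hP : ∀ k, PerfAt G (G k)) (b : H.h (∐ K))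
    (hb : ∀ n, H.pull (Sigma.ι K n) b = a n)
    (hb0 : H.pull (𝟙 (∐ K) - DerLim.shiftMap K f) b = 0)
    (k : κ) (g : G k ⟶ ∐ K) (hg : H.pull g b = 0) :
    ∃ y : G k ⟶ ∐ K, g = y ≫ (𝟙 (∐ K) - DerLim.shiftMap K f) := by
  obtain ⟨j, β, γ, hβ⟩ := hP k K g
  choose β' hβ' using fun n => hsurj (j n) (H.pull (β n) (a n))
  -- the parts killed by the transition maps
  let d : ∀ n, G (j n) ⟶ K n := fun n => β n - β' n ≫ towerComp0 K f n
  have hd : ∀ n, d n ≫ f n = 0 := by
    intro n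
    apply hkill n (j n)
    rw [H.pull_sub, H.pull_comp, towerComp0_spec H K f a ha, hβ', sub_self]
  have hsplit : Limits.Sigma.map β =
      Limits.Sigma.map d + Limits.Sigma.map (fun n => β' n ≫ towerComp0 K f n) := by
    rw [← sigmaMap_add]
    congr 1
    funext n
    simp only [d, sub_add_cancel]
  let g₁ : G k ⟶ ∐ K := γ ≫ Limits.Sigma.map d
  have hg₁ : g₁ ≫ DerLim.shiftMap K f = 0 := by
    have : Limits.Sigma.map d ≫ DerLim.shiftMap K f = 0 := by
      apply Sigma.hom_ext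
      intro n
      rw [Limits.Sigma.ι_map_assoc, ι_shiftMap, ← Category.assoc, hd, zero_comp, comp_zero]
    rw [Category.assoc, this, comp_zero]
  let v : G k ⟶ ∐ fun _ : ℕ => K 0 := γ ≫ Limits.Sigma.map β'
  let Φ₀ : (∐ fun _ : ℕ => K 0) ⟶ ∐ K := Sigma.desc (fun n => towerComp0 K f n ≫ Sigma.ι K n)
  have hΦ₀ : Limits.Sigma.map (fun n => β' n ≫ towerComp0 K f n) = Limits.Sigma.map β' ≫ Φ₀ := by
    apply Sigma.hom_ext
    intro n
    rw [Limits.Sigma.ι_map, Limits.Sigma.ι_map_assoc, Sigma.ι_desc, Category.assoc]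
  let nabla : (∐ fun _ : ℕ => K 0) ⟶ K 0 := Sigma.desc (fun _ => 𝟙 _)
  have hgeo : Φ₀ = nabla ≫ Sigma.ι K 0 -
      geomMap K f ≫ (𝟙 (∐ K) - DerLim.shiftMap K f) := by
    apply Sigma.hom_ext
    intro m
    rw [Preadditive.comp_sub, geomMap_comp, Sigma.ι_desc, Sigma.ι_desc_assoc, Category.id_comp]
    abel
  let b₀ : G k ⟶ K 0 := v ≫ nabla
  have hgsum : g = (g₁ - v ≫ geomMap K f) ≫ (𝟙 (∐ K) - DerLim.shiftMap K f) +
      b₀ ≫ Sigma.ι K 0 := by
    have e1 : g₁ ≫ (𝟙 (∐ K) - DerLim.shiftMap K f) = g₁ := by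
      rw [Preadditive.comp_sub, Category.comp_id, hg₁, sub_zero]
    rw [Preadditive.sub_comp, e1, hβ, hsplit, Preadditive.comp_add, hΦ₀, hgeo,
      Preadditive.comp_sub, Preadditive.comp_sub]
    simp only [g₁, v, b₀, Category.assoc]
    abel
  have hb₀ : H.pull b₀ (a 0) = 0 := by
    have h1 : H.pull g b = H.pull ((g₁ - v ≫ geomMap K f) ≫ (𝟙 (∐ K) - DerLim.shiftMap K f) +
      b₀ ≫ Sigma.ι K 0) b := by rw [← hgsum]
    rw [hg, H.pull_add, H.pull_comp, hb0, map_zero, zero_add, H.pull_comp, hb] at h1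
    exact h1.symm
  have hb₀' : b₀ ≫ f 0 = 0 := hkill 0 k b₀ hb₀
  refine ⟨g₁ - v ≫ geomMap K f + b₀ ≫ Sigma.ι K 0, ?_⟩
  have e2 : (b₀ ≫ Sigma.ι K 0) ≫ (𝟙 (∐ K) - DerLim.shiftMap K f) = b₀ ≫ Sigma.ι K 0 := by
    rw [Preadditive.comp_sub, Category.comp_id, Category.assoc b₀, ι_shiftMap, ← Category.assoc,
      hb₀', zero_comp, sub_zero]
  rw [Preadditive.add_comp, e2]
  exact hgsum

end TowerRep


section RepPerf

variable (H : CohFun D) {κ : Type v} (G : κ → D)

/-- Representability on the generators for a family with the countable factorization property. -/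
theorem exists_rep_on_perf (hP : ∀ k, PerfAt G (G k)) (hP' : ∀ k, PerfAt G ((G k)⟦(-1 : ℤ)⟧)) :
    ∃ (K : ℕ → D) (f : ∀ n, K n ⟶ K (n + 1)) (L : D) (i : ∀ n, K n ⟶ L) (α : H.h L),
      DerLim.IsHocolim K f L i ∧
      (∃ (I : Type v) (a : I → κ), Nonempty (K 0 ≅ ∐ fun p => G (a p))) ∧
      (∀ n, ∃ (I : Type v) (a : I → κ) (y : (∐ fun p => G (a p)) ⟶ K n)
        (z : K (n + 1) ⟶ (∐ fun p => G (a p))⟦(1 : ℤ)⟧), Triangle.mk y (f n) z ∈ distTriang D) ∧
      ∀ k, Function.Bijective (H.tau α (G k)) := by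
  obtain ⟨L, i, hL⟩ := exists_isHocolim (towerX H G) (towerMap H G)
  obtain ⟨b, hb⟩ := H.prod_surj_nat (towerX H G) (towerα H G)
  have hb0 : H.pull (𝟙 (∐ towerX H G) - DerLim.shiftMap (towerX H G) (towerMap H G)) b = 0 := by
    apply H.prod_inj_nat
    intro n
    rw [← H.pull_comp, Preadditive.comp_sub, Category.comp_id, ι_shiftMap, H.pull_sub, map_zero,
      H.pull_comp, hb, hb, towerMap_spec, sub_self]
  have hL' := hL
  obtain ⟨c, hT⟩ := hL'
  obtain ⟨α, hα⟩ : ∃ α : H.h L, H.pull (Sigma.desc i) α = b := H.exact _ hT b hb0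
  have hαn : ∀ n, H.pull (i n) α = towerα H G n := by
    intro n
    rw [← hb n, ← hα, ← H.pull_comp, Sigma.ι_desc]
  refine ⟨towerX H G, towerMap H G, L, i, α, hL, tower_zero_shape H G,
    towerMap_shape H G, fun k => ⟨?_, ?_⟩⟩
  · -- injectivity
    intro g₁ g₂ hg
    have hg0 : H.pull (g₁ - g₂) α = 0 := by
      rw [H.pull_sub]; exact sub_eq_zero.mpr hg
    -- step A: `(g₁ - g₂) ≫ c = 0`
    have h1 : (g₁ - g₂) ≫ c = 0 := by
      have adj : shiftFunctor D (-1 : ℤ) ⊣ shiftFunctor D (1 : ℤ) :=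
        (shiftEquiv D (1 : ℤ)).symm.toAdjunction
      have h31 : c ≫ (𝟙 (∐ towerX H G) -
          DerLim.shiftMap (towerX H G) (towerMap H G))⟦(1 : ℤ)⟧' = 0 :=
        comp_distTriang_mor_zero₃₁ _ hT
      have hu : (adj.homEquiv (G k) (∐ towerX H G)).symm ((g₁ - g₂) ≫ c) ≫
          (𝟙 (∐ towerX H G) - DerLim.shiftMap (towerX H G) (towerMap H G)) = 0 := by
        apply (adj.homEquiv (G k) (∐ towerX H G)).injective
        rw [Adjunction.homEquiv_naturality_right, Equiv.apply_symm_apply, Category.assoc, h31,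
          comp_zero]
        simp [Adjunction.homEquiv_unit]
      obtain ⟨I, a', y, z, hT0⟩ := towerMap_shape H G 0
      have h0 := eq_zero_of_comp_one_sub_shiftMap_perf (towerX H G) (towerMap H G) G y
        (comp_distTriang_mor_zero₁₂ _ hT0)
        (tower_hb H G (towerX H G) (towerMap H G) (towerα H G) (towerMap_spec H G)
          (towerMap_kill H G) y z hT0)
        (tower_hc H G (towerX H G) (towerMap H G) (towerα H G) (towerMap_spec H G)
          (tower_zero_surj H G) (towerMap_kill H G))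
        _ (hP' k) _ hu
      have := congrArg (adj.homEquiv (G k) (∐ towerX H G)) h0
      rw [Equiv.apply_symm_apply] at this
      rw [this]
      simp [Adjunction.homEquiv_unit]
    obtain ⟨g', hg'⟩ : ∃ g' : G k ⟶ ∐ towerX H G, g₁ - g₂ = g' ≫ Sigma.desc i :=
      Triangle.coyoneda_exact₃ _ hT (g₁ - g₂) h1
    have h2 : H.pull g' b = 0 := by
      rw [← hα, ← H.pull_comp, ← hg', hg0]
    obtain ⟨y, hy⟩ := tower_exact_mid H G (towerX H G) (towerMap H G) (towerα H G)
      (towerMap_spec H G) (tower_zero_surj H G) (towerMap_kill H G) hP b hb hb0 k g' h2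
    have h3 : (𝟙 (∐ towerX H G) - DerLim.shiftMap (towerX H G) (towerMap H G)) ≫ Sigma.desc i = 0 :=
      comp_distTriang_mor_zero₁₂ _ hT
    have h4 : g₁ - g₂ = 0 := by
      rw [hg', hy, Category.assoc, h3, comp_zero]
    exact sub_eq_zero.mp h4
  · -- surjectivity
    intro x
    obtain ⟨j, hj⟩ := tower_zero_surj H G k x
    refine ⟨j ≫ i 0, ?_⟩
    change H.pull _ α = x
    rw [H.pull_comp, hαn 0, hj]

end RepPerf


section OfRep

variable {ι : Type v} (E : ι → D)

/-- The hypothesis that every abstract cohomological functor is represented on the shifts of the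
`E i` by the homotopy colimit of a tower built from these shifts. -/
def RepOnShifts : Prop :=
  ∀ H : CohFun D, ∃ (K : ℕ → D) (f : ∀ n, K n ⟶ K (n + 1)) (L : D) (i : ∀ n, K n ⟶ L) (α : H.h L),
    DerLim.IsHocolim K f L i ∧
    (∃ (I : Type v) (a : I → ι × ℤ), Nonempty (K 0 ≅ ∐ fun p => shiftFam E (a p))) ∧
    (∀ n, ∃ (I : Type v) (a : I → ι × ℤ) (y : (∐ fun p => shiftFam E (a p)) ⟶ K n)
      (z : K (n + 1) ⟶ (∐ fun p => shiftFam E (a p))⟦(1 : ℤ)⟧),
      Triangle.mk y (f n) z ∈ distTriang D) ∧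
    ∀ k, Function.Bijective (H.tau α (shiftFam E k))

variable {E}

/-- Under `RepOnShifts`, every object is the homotopy colimit of a tower built from shifts of the
generators. -/
theorem exists_tower_of_rep (hrep : RepOnShifts E) (hg : CohDer.Generates E) (Y : D) :
    ∃ (K : ℕ → D) (f : ∀ n, K n ⟶ K (n + 1)) (i : ∀ n, K n ⟶ Y),
      DerLim.IsHocolim K f Y i ∧
      (∃ (I : Type v) (a : I → ι × ℤ), Nonempty (K 0 ≅ ∐ fun p => shiftFam E (a p))) ∧
      (∀ n, ∃ (I : Type v) (a : I → ι × ℤ) (y : (∐ fun p => shiftFam E (a p)) ⟶ K n)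
        (z : K (n + 1) ⟶ (∐ fun p => shiftFam E (a p))⟦(1 : ℤ)⟧),
        Triangle.mk y (f n) z ∈ distTriang D) := by
  obtain ⟨K, f, L, i, u₀, hL, h0, hs, hbij⟩ := hrep (homCohFun Y)
  obtain ⟨u, rfl⟩ : ∃ u : L ⟶ Y, u = u₀ := ⟨u₀, rfl⟩
  obtain ⟨Z, v, w, hT⟩ := distinguished_cocone_triangle u
  have hZ : (shiftClass E).rightOrthogonal Z := by
    apply MV.obj₃_rightOrthogonal (shiftClass E) _ hT
    intro W hW
    obtain ⟨j, n, ⟨e⟩⟩ := hW
    exact P_iso (H := homCohFun Y) (α := u) e.symm (hbij (j, n))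
  have hZ0 : IsZero Z := by
    apply hg
    intro j n x
    have h1 : (shiftClass E).rightOrthogonal (Z⟦n⟧) := (shiftClass E).rightOrthogonal.le_shift n _ hZ
    exact h1 x ⟨j, 0, ⟨((shiftFunctorZero D ℤ).app (E j)).symm⟩⟩
  have hu : IsIso u := (Triangle.isZero₃_iff_isIso₁ _ hT).mp hZ0
  obtain ⟨c, hc'⟩ := hL
  refine ⟨K, f, fun n => i n ≫ u, ⟨inv u ≫ c, ?_⟩, h0, hs⟩
  refine isomorphic_distinguished _ hc' _ ?_
  refine Triangle.isoMk _ _ (Iso.refl (∐ K)) (Iso.refl (∐ K)) (asIso u).symm ?_ ?_ ?_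
  · change (𝟙 (∐ K) - DerLim.shiftMap K f) ≫ 𝟙 (∐ K) = 𝟙 (∐ K) ≫ (𝟙 (∐ K) - DerLim.shiftMap K f)
    rw [Category.comp_id, Category.id_comp]
  · change (Sigma.desc fun n => i n ≫ u) ≫ inv u = 𝟙 (∐ K) ≫ Sigma.desc i
    apply Sigma.hom_ext
    intro n
    rw [Category.id_comp, ← Category.assoc, Sigma.ι_desc, Sigma.ι_desc, Category.assoc,
      IsIso.hom_inv_id, Category.comp_id]
  · change (inv u ≫ c) ≫ (𝟙 (∐ K))⟦(1 : ℤ)⟧' = inv u ≫ c
    rw [(shiftFunctor D (1 : ℤ)).map_id, Category.comp_id]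

/-- Under `RepOnShifts`, Brown representability holds. -/
theorem brown_of_rep (hrep : RepOnShifts E) (hg : CohDer.Generates E) (H : CohFun D) :
    ∃ (X : D) (α : H.h X), ∀ Y : D, Function.Bijective (H.tau α Y) := by
  obtain ⟨K, f, L, i, α, -, -, -, hbij⟩ := hrep H
  refine ⟨L, α, fun Y => ?_⟩
  have hG : ∀ p : ι × ℤ, CC H α (shiftFam E p) := fun p =>
    CC_of_shifts (Z := E p.1) (fun n => hbij (p.1, n)) p.2
  obtain ⟨K', f', i', ⟨c, hT⟩, ⟨I, a, ⟨e0⟩⟩, hs⟩ := exists_tower_of_rep hrep hg Y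
  have hK' : ∀ n, CC H α (K' n) := by
    intro n
    induction n with
    | zero => exact CC_iso e0.symm (CC_coprod _ (fun p => hG (a p)))
    | succ n ih =>
      obtain ⟨I', a', y, z, hT'⟩ := hs n
      exact CC_tri _ hT' (CC_coprod _ (fun p => hG (a' p))) ih
  have hsum : CC H α (∐ K') := CC_coprod_nat K' hK'
  exact CC_P (CC_tri _ hT hsum hsum)

/-- The perfect-generation hypotheses give `RepOnShifts`. -/
theorem repOnShifts_of_perf (h2 : ∀ i, PerfAt E (E i)) : RepOnShifts E := by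
  intro H
  have hP : ∀ k : ι × ℤ, PerfAt (shiftFam E) (shiftFam E k) := fun k => perfAt_shiftFam E h2 k.1 k.2
  have hP' : ∀ k : ι × ℤ, PerfAt (shiftFam E) ((shiftFam E k)⟦(-1 : ℤ)⟧) := fun k =>
    (perfAt_shiftFam E h2 k.1 (k.2 + (-1))).of_iso
      ((shiftFunctorAdd' D k.2 (-1) (k.2 + (-1)) rfl).app (E k.1))
  exact exists_rep_on_perf H (shiftFam E) hP hP'

/-- Detection of nonzero objects implies generation. -/
lemma generates_of_detects (h1 : ∀ X : D, ¬ IsZero X → ∃ (i : ι) (f : E i ⟶ X), f ≠ 0) :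
    CohDer.Generates E := by
  intro K hK
  by_contra hne
  obtain ⟨i, f, hf⟩ := h1 K hne
  apply hf
  have := hK i 0 (f ≫ (shiftFunctorZero D ℤ).inv.app K)
  rw [← cancel_mono ((shiftFunctorZero D ℤ).inv.app K), this, zero_comp]

/-- Brown representability for perfectly generated triangulated categories (element-wise form). -/
theorem brown_perf (h1 : ∀ X : D, ¬ IsZero X → ∃ (i : ι) (f : E i ⟶ X), f ≠ 0)
    (h2 : ∀ i, PerfAt E (E i)) (H : CohFun D) :
    ∃ (X : D) (α : H.h X), ∀ Y : D, Function.Bijective (H.tau α Y) :=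
  brown_of_rep (repOnShifts_of_perf h2) (generates_of_detects h1) H

end OfRep


section FunctorForms

open CategoryTheory.Pretriangulated.Opposite

variable {ι : Type v} {E : ι → D}

/-- Brown representability for perfectly generated categories, functor form. -/
theorem brown_functor_perf (h1 : ∀ X : D, ¬ IsZero X → ∃ (i : ι) (f : E i ⟶ X), f ≠ 0)
    (h2 : ∀ i, PerfAt E (E i)) (H : Dᵒᵖ ⥤ AddCommGrpCat.{v}) [H.IsHomological]
    [∀ (κ : Type v), PreservesLimitsOfShape (Discrete κ) H] :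
    (H ⋙ forget AddCommGrpCat.{v}).IsRepresentable := by
  obtain ⟨X, α, hα⟩ := brown_perf h1 h2 (functorCohFun H)
  exact ⟨X, ⟨{ homEquiv := fun {Y} => Equiv.ofBijective _ (hα Y)
               homEquiv_comp := fun {Y Y'} f g => (functorCohFun H).tau_comp α f g }⟩⟩

/-- Adjoint functor theorem for perfectly generated categories. -/
theorem isLeftAdjoint_of_brown_perf {D' : Type u'} [Category.{v} D'] [Preadditive D']
    [HasZeroObject D'] [HasShift D' ℤ] [∀ n : ℤ, (shiftFunctor D' n).Additive] [Pretriangulated D']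
    (h1 : ∀ X : D, ¬ IsZero X → ∃ (i : ι) (f : E i ⟶ X), f ≠ 0)
    (h2 : ∀ i, PerfAt E (E i)) (F : D ⥤ D') [F.CommShift ℤ] [F.IsTriangulated]
    [∀ (κ : Type v), PreservesColimitsOfShape (Discrete κ) F] : F.IsLeftAdjoint := by
  have key : ∀ Y' : D', ∃ (X : D) (α : F.obj X ⟶ Y'),
      ∀ Z, Function.Bijective (fun g : Z ⟶ X => F.map g ≫ α) :=
    fun Y' => brown_perf h1 h2 (adjCohFun F Y')
  choose G α hα using key
  let e : ∀ X Y, (F.obj X ⟶ Y) ≃ (X ⟶ G Y) := fun X Y => (Equiv.ofBijective _ (hα Y X)).symm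
  have he' : ∀ X Y (g : X ⟶ G Y), (e X Y).symm g = F.map g ≫ α Y := fun X Y g => rfl
  have he : ∀ X' X Y (f : X' ⟶ X) (g : F.obj X ⟶ Y), e X' Y (F.map f ≫ g) = f ≫ e X Y g := by
    intro X' X Y f g
    apply (e X' Y).symm.injective
    rw [Equiv.symm_apply_apply, he', F.map_comp, Category.assoc, ← he', Equiv.symm_apply_apply]
  exact ⟨_, ⟨Adjunction.adjunctionOfEquivRight e he⟩⟩

end FunctorForms

end Groth.Agent.Lib.Helper83.Brown
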