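import Groth.Agent.Lib.Helper83.BrownW
import Groth.Agent.Lib.Helper83.BrownFunctor

/-!
# Representability of cohomological functors on compact objects (helper83)

Let `D` be a compactly generated triangulated category and `K` a contravariant cohomological
functor on the compact objects of `D` (in unbundled element-wise form, `CptFun`) which is
"linearly compact" (`CptFun.lc`: a system of equations `res (a i) y₀ = y i` is solvable as soon as
all its finite subsystems are; this holds for functors with finite dimensional values).  Then `K`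
is the restriction of a representable functor: `exists_rep`.

The proof: `X ↦ NatFam K X` (natural transformations `Hom(-, X)|_{D_c} ⟹ K`) is a cohomological
functor on `D` turning coproducts into products; the exactness uses Zorn's lemma and linear
compactness.  Then Brown representability (`BrownW.brown`) applies.
-/

set_option autoImplicit false
set_option linter.unusedSectionVars false
universe v u
open CategoryTheory CategoryTheory.Limits CategoryTheory.Pretriangulated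

namespace Groth.Agent.Lib.Helper83.BvdB

open Groth.Agent.Lib.Helper83.Cpt Groth.Agent.Lib.Helper83.Brown

variable {D : Type u} [Category.{v} D] [Preadditive D] [HasZeroObject D] [HasShift D ℤ]
  [∀ n : ℤ, (shiftFunctor D n).Additive] [Pretriangulated D] [HasCoproducts.{v} D]

variable (D) in
/-- the full subcategory of compact objects -/
abbrev Dc : Type u := ObjectProperty.FullSubcategory (fun K : D => CohDer.IsCompactObject K)

variable (D) in
/-- A contravariant additive cohomological functor on the compact objects, in unbundled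
element-wise form, satisfying linear compactness. -/
structure CptFun where
  /-- values -/
  h : Dc D → Type v
  /-- group structure -/
  grp : ∀ C, AddCommGroup (h C)
  /-- restriction along a morphism -/
  res : ∀ {C C' : Dc D} (_ : C'.obj ⟶ C.obj), h C →+ h C'
  res_id : ∀ (C : Dc D) (y : h C), res (𝟙 C.obj) y = y
  res_comp : ∀ {C C' C'' : Dc D} (a : C''.obj ⟶ C'.obj) (b : C'.obj ⟶ C.obj) (y : h C),
    res (a ≫ b) y = res a (res b y)
  res_sub : ∀ {C C' : Dc D} (a b : C'.obj ⟶ C.obj) (y : h C), res (a - b) y = res a y - res b y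
  exact : ∀ (T : Triangle D), T ∈ distTriang D → ∀ (h₁ : CohDer.IsCompactObject T.obj₁)
    (h₂ : CohDer.IsCompactObject T.obj₂) (h₃ : CohDer.IsCompactObject T.obj₃)
    (y : h ⟨T.obj₂, h₂⟩), res (C := ⟨T.obj₂, h₂⟩) (C' := ⟨T.obj₁, h₁⟩) T.mor₁ y = 0 →
      ∃ z : h ⟨T.obj₃, h₃⟩, res (C := ⟨T.obj₃, h₃⟩) (C' := ⟨T.obj₂, h₂⟩) T.mor₂ z = y
  lc : ∀ (C₀ : Dc D) (I : Type (max u v)) (Ci : I → Dc D) (a : ∀ i, (Ci i).obj ⟶ C₀.obj)
    (y : ∀ i, h (Ci i)), (∀ F : Finset I, ∃ y₀ : h C₀, ∀ i ∈ F, res (a i) y₀ = y i) →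
      ∃ y₀ : h C₀, ∀ i, res (a i) y₀ = y i

attribute [instance] CptFun.grp

namespace CptFun

variable (K : CptFun D)

lemma res_zero {C C' : Dc D} (y : K.h C) : K.res (0 : C'.obj ⟶ C.obj) y = 0 := by
  have := K.res_sub (0 : C'.obj ⟶ C.obj) 0 y
  rwa [sub_zero, sub_self] at this

lemma res_neg {C C' : Dc D} (a : C'.obj ⟶ C.obj) (y : K.h C) : K.res (-a) y = - K.res a y := by
  have := K.res_sub (0 : C'.obj ⟶ C.obj) a y
  rwa [zero_sub, res_zero, zero_sub] at this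

lemma res_add {C C' : Dc D} (a b : C'.obj ⟶ C.obj) (y : K.h C) :
    K.res (a + b) y = K.res a y + K.res b y := by
  have := K.res_sub a (-b) y
  rwa [sub_neg_eq_add, res_neg, sub_neg_eq_add] at this

end CptFun

variable (K : CptFun D)

/-- natural transformations from `Hom(-, X)` restricted to compact objects to `K` -/
@[ext]
structure NatFam (X : D) where
  /-- components -/
  app : ∀ C : Dc D, (C.obj ⟶ X) →+ K.h C
  nat : ∀ {C C' : Dc D} (a : C'.obj ⟶ C.obj) (z : C.obj ⟶ X),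
    app C' (a ≫ z) = K.res a (app C z)

namespace NatFam

variable {K} {X : D}

instance : Zero (NatFam K X) := ⟨⟨fun _ => 0, fun a z => by simp⟩⟩

instance : Add (NatFam K X) :=
  ⟨fun η θ => ⟨fun C => η.app C + θ.app C, fun a z => by simp [η.nat, θ.nat]⟩⟩

instance : Neg (NatFam K X) := ⟨fun η => ⟨fun C => -η.app C, fun a z => by simp [η.nat]⟩⟩

instance : Sub (NatFam K X) :=
  ⟨fun η θ => ⟨fun C => η.app C - θ.app C, fun a z => by simp [η.nat, θ.nat]⟩⟩

instance : SMul ℕ (NatFam K X) :=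
  ⟨fun n η => ⟨fun C => n • η.app C, fun a z => by simp [η.nat]⟩⟩

instance : SMul ℤ (NatFam K X) :=
  ⟨fun n η => ⟨fun C => n • η.app C, fun a z => by simp [η.nat]⟩⟩

lemma app_injective : Function.Injective (fun η : NatFam K X => η.app) :=
  fun _ _ h => NatFam.ext h

instance : AddCommGroup (NatFam K X) :=
  Function.Injective.addCommGroup (fun η : NatFam K X => η.app) app_injective rfl
    (fun _ _ => rfl) (fun _ => rfl) (fun _ _ => rfl) (fun _ _ => rfl) (fun _ _ => rfl)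

@[simp] lemma zero_app (C : Dc D) : (0 : NatFam K X).app C = 0 := rfl
@[simp] lemma add_app (η θ : NatFam K X) (C : Dc D) : (η + θ).app C = η.app C + θ.app C := rfl
@[simp] lemma sub_app (η θ : NatFam K X) (C : Dc D) : (η - θ).app C = η.app C - θ.app C := rfl

end NatFam

/-- pull-back of natural families along a morphism -/
def pull {X X' : D} (g : X ⟶ X') : NatFam K X' →+ NatFam K X where
  toFun η := ⟨fun C => (η.app C).comp (Preadditive.rightComp C.obj g), fun a z => by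
    change η.app _ ((a ≫ z) ≫ g) = K.res a (η.app _ (z ≫ g))
    rw [Category.assoc, η.nat]⟩
  map_zero' := by ext C z; rfl
  map_add' η θ := by ext C z; rfl

lemma pull_app {X X' : D} (g : X ⟶ X') (η : NatFam K X') (C : Dc D) (z : C.obj ⟶ X) :
    (pull K g η).app C z = η.app C (z ≫ g) := rfl

/-- the Yoneda bijection -/
def yon (C : Dc D) : NatFam K C.obj ≃ K.h C where
  toFun η := η.app C (𝟙 _)
  invFun y := ⟨fun C' =>
    { toFun := fun z => K.res z y
      map_zero' := K.res_zero y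
      map_add' := fun a b => K.res_add a b y }, fun a z => K.res_comp a z y⟩
  left_inv η := by
    ext C' z
    change K.res z (η.app C (𝟙 _)) = η.app C' z
    rw [← η.nat, Category.comp_id]
  right_inv y := K.res_id C y


/-! ### Coproducts -/

section Coprod

variable {κ : Type v} (Y : κ → D)

/-- maps from a compact object to a coproduct -/
noncomputable def eC (C : Dc D) : (DirectSum κ fun i => C.obj ⟶ Y i) ≃+ (C.obj ⟶ ∐ Y) :=
  AddEquiv.ofBijective (CohDer.homSumToHomCoprod C.obj Y) (C.property κ Y)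

open Classical in
lemma eC_of (C : Dc D) (i : κ) (y : C.obj ⟶ Y i) :
    eC Y C (DirectSum.of _ i y) = y ≫ Sigma.ι Y i :=
  homSum_of C.obj Y i y

lemma pull_ext (a b : NatFam K (∐ Y))
    (hab : ∀ k, pull K (Sigma.ι Y k) a = pull K (Sigma.ι Y k) b) : a = b := by
  classical
  ext C z
  obtain ⟨s, rfl⟩ := (eC Y C).surjective z
  have h : (a.app C).comp (eC Y C).toAddMonoidHom = (b.app C).comp (eC Y C).toAddMonoidHom := by
    apply DirectSum.addHom_ext
    intro i y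
    change a.app C (eC Y C (DirectSum.of _ i y)) = b.app C (eC Y C (DirectSum.of _ i y))
    rw [eC_of]
    have := congrArg (fun η => NatFam.app η C y) (hab i)
    exact this
  exact DFunLike.congr_fun h s

open Classical in
/-- gluing natural families on a coproduct -/
noncomputable def glue (a : ∀ k, NatFam K (Y k)) : NatFam K (∐ Y) where
  app C := (DirectSum.toAddMonoid (fun i => (a i).app C)).comp (eC Y C).symm.toAddMonoidHom
  nat {C C'} c z := by
    obtain ⟨s, rfl⟩ := (eC Y C).surjective z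
    have h : ((DirectSum.toAddMonoid (fun i => (a i).app C')).comp
        (eC Y C').symm.toAddMonoidHom).comp
          ((Preadditive.leftComp (∐ Y) c).comp (eC Y C).toAddMonoidHom) =
        (K.res c).comp (DirectSum.toAddMonoid (fun i => (a i).app C)) := by
      apply DirectSum.addHom_ext
      intro i y
      change (DirectSum.toAddMonoid (fun i => (a i).app C')) ((eC Y C').symm
        (c ≫ eC Y C (DirectSum.of _ i y))) =
          K.res c (DirectSum.toAddMonoid (fun i => (a i).app C) (DirectSum.of _ i y))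
      rw [eC_of, ← Category.assoc, ← eC_of, AddEquiv.symm_apply_apply,
        DirectSum.toAddMonoid_of, DirectSum.toAddMonoid_of, (a i).nat]
    have h2 := DFunLike.congr_fun h s
    change (DirectSum.toAddMonoid (fun i => (a i).app C')) ((eC Y C').symm (c ≫ eC Y C s)) =
      K.res c ((DirectSum.toAddMonoid (fun i => (a i).app C)) ((eC Y C).symm (eC Y C s)))
    rw [AddEquiv.symm_apply_apply]
    exact h2

open Classical in
lemma pull_glue (a : ∀ k, NatFam K (Y k)) (k : κ) : pull K (Sigma.ι Y k) (glue K Y a) = a k := by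
  ext C z
  change (DirectSum.toAddMonoid (fun i => (a i).app C)) ((eC Y C).symm (z ≫ Sigma.ι Y k)) = _
  rw [← eC_of, AddEquiv.symm_apply_apply, DirectSum.toAddMonoid_of]

end Coprod


/-! ### Exactness -/

section Exact

/-- points of the graph of a partially defined natural family on `Z` -/
abbrev Pt (Z : D) : Type (max u v) := Σ C : Dc D, (C.obj ⟶ Z) × K.h C

variable {K}

/-- A partially defined natural family on `T.obj₃` extending `b` along `T.mor₂`, encoded by its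
graph. -/
structure Good (T : Triangle D) (b : NatFam K T.obj₂) (Γ : Set (Pt K T.obj₃)) : Prop where
  func : ∀ (C : Dc D) (z : C.obj ⟶ T.obj₃) (y y' : K.h C),
    (⟨C, z, y⟩ : Pt K T.obj₃) ∈ Γ → (⟨C, z, y'⟩ : Pt K T.obj₃) ∈ Γ → y = y'
  sub : ∀ (C : Dc D) (z z' : C.obj ⟶ T.obj₃) (y y' : K.h C),
    (⟨C, z, y⟩ : Pt K T.obj₃) ∈ Γ → (⟨C, z', y'⟩ : Pt K T.obj₃) ∈ Γ →
      (⟨C, z - z', y - y'⟩ : Pt K T.obj₃) ∈ Γ
  nat : ∀ (C C' : Dc D) (a : C'.obj ⟶ C.obj) (z : C.obj ⟶ T.obj₃) (y : K.h C),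
    (⟨C, z, y⟩ : Pt K T.obj₃) ∈ Γ → (⟨C', a ≫ z, K.res a y⟩ : Pt K T.obj₃) ∈ Γ
  base : ∀ (C : Dc D) (y : C.obj ⟶ T.obj₂),
    (⟨C, y ≫ T.mor₂, b.app C y⟩ : Pt K T.obj₃) ∈ Γ

namespace Good

variable {T : Triangle D} {b : NatFam K T.obj₂} {Γ : Set (Pt K T.obj₃)} (hΓ : Good T b Γ)

include hΓ

lemma zero (C : Dc D) : (⟨C, 0, 0⟩ : Pt K T.obj₃) ∈ Γ := by
  have := hΓ.base C 0
  rwa [zero_comp, map_zero] at this

lemma neg (C : Dc D) (z : C.obj ⟶ T.obj₃) (y : K.h C) (h : (⟨C, z, y⟩ : Pt K T.obj₃) ∈ Γ) :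
    (⟨C, -z, -y⟩ : Pt K T.obj₃) ∈ Γ := by
  have := hΓ.sub C 0 z 0 y (hΓ.zero C) h
  rwa [zero_sub, zero_sub] at this

lemma add (C : Dc D) (z z' : C.obj ⟶ T.obj₃) (y y' : K.h C)
    (h : (⟨C, z, y⟩ : Pt K T.obj₃) ∈ Γ) (h' : (⟨C, z', y'⟩ : Pt K T.obj₃) ∈ Γ) :
    (⟨C, z + z', y + y'⟩ : Pt K T.obj₃) ∈ Γ := by
  have := hΓ.sub C z (-z') y (-y') h (hΓ.neg C z' y' h')
  rwa [sub_neg_eq_add, sub_neg_eq_add] at this

lemma mem_congr (C : Dc D) {z z' : C.obj ⟶ T.obj₃} {y y' : K.h C} (hz : z = z') (hy : y = y')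
    (h : (⟨C, z, y⟩ : Pt K T.obj₃) ∈ Γ) : (⟨C, z', y'⟩ : Pt K T.obj₃) ∈ Γ := by
  subst hz hy; exact h

end Good

variable (T : Triangle D) (hT : T ∈ distTriang D) (b : NatFam K T.obj₂)
  (hb : pull K T.mor₁ b = 0)

include hT hb in
/-- the graph of `b` pushed along `T.mor₂` is a partial natural family -/
lemma good_base : Good T b {p | ∃ y : p.1.obj ⟶ T.obj₂, p.2.1 = y ≫ T.mor₂ ∧ p.2.2 = b.app p.1 y} where
  func C z y y' := by
    rintro ⟨y₁, h₁, h₁'⟩ ⟨y₂, h₂, h₂'⟩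
    dsimp only at h₁ h₁' h₂ h₂'
    have h0 : (y₁ - y₂) ≫ T.mor₂ = 0 := by rw [Preadditive.sub_comp, ← h₁, ← h₂, sub_self]
    obtain ⟨x, hx⟩ := Triangle.coyoneda_exact₂ T hT (y₁ - y₂) h0
    have h3 : b.app C (y₁ - y₂) = 0 := by
      rw [hx]
      have := congrArg (fun η => NatFam.app η C x) hb
      exact this
    rw [map_sub, sub_eq_zero] at h3
    rw [h₁', h₂', h3]
  sub C z z' y y' := by
    rintro ⟨y₁, h₁, h₁'⟩ ⟨y₂, h₂, h₂'⟩
    dsimp only at h₁ h₁' h₂ h₂'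
    refine ⟨y₁ - y₂, ?_, ?_⟩
    · dsimp only; rw [Preadditive.sub_comp, h₁, h₂]
    · dsimp only; rw [map_sub, h₁', h₂']
  nat C C' a z y := by
    rintro ⟨y₁, h₁, h₁'⟩
    dsimp only at h₁ h₁'
    refine ⟨a ≫ y₁, ?_, ?_⟩
    · dsimp only; rw [Category.assoc, h₁]
    · dsimp only; rw [b.nat, h₁']
  base C y := ⟨y, rfl, rfl⟩

lemma good_sUnion {T : Triangle D} {b : NatFam K T.obj₂} (c : Set (Set (Pt K T.obj₃)))
    (hc : ∀ Γ ∈ c, Good T b Γ) (hchain : IsChain (· ⊆ ·) c) (hne : c.Nonempty) :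
    Good T b (⋃₀ c) where
  func C z y y' := by
    rintro ⟨Γ₁, hΓ₁, h₁⟩ ⟨Γ₂, hΓ₂, h₂⟩
    rcases hchain.total hΓ₁ hΓ₂ with h | h
    · exact (hc Γ₂ hΓ₂).func C z y y' (h h₁) h₂
    · exact (hc Γ₁ hΓ₁).func C z y y' h₁ (h h₂)
  sub C z z' y y' := by
    rintro ⟨Γ₁, hΓ₁, h₁⟩ ⟨Γ₂, hΓ₂, h₂⟩
    rcases hchain.total hΓ₁ hΓ₂ with h | h
    · exact ⟨Γ₂, hΓ₂, (hc Γ₂ hΓ₂).sub C z z' y y' (h h₁) h₂⟩
    · exact ⟨Γ₁, hΓ₁, (hc Γ₁ hΓ₁).sub C z z' y y' h₁ (h h₂)⟩
  nat C C' a z y := by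
    rintro ⟨Γ₁, hΓ₁, h₁⟩
    exact ⟨Γ₁, hΓ₁, (hc Γ₁ hΓ₁).nat C C' a z y h₁⟩
  base C y := by
    obtain ⟨Γ₁, hΓ₁⟩ := hne
    exact ⟨Γ₁, hΓ₁, (hc Γ₁ hΓ₁).base C y⟩


/-! ### The extension step -/

omit [HasCoproducts.{v} D] in
lemma exists_cone_compact [HasCoproducts.{v} D] {A B : D} (a : A ⟶ B) (hA : CohDer.IsCompactObject A)
    (hB : CohDer.IsCompactObject B) :
    ∃ (T : Triangle D), T ∈ distTriang D ∧ CohDer.IsCompactObject T.obj₁ ∧
      ∃ (e₂ : T.obj₂ = A) (e₃ : T.obj₃ = B), T.mor₂ = eqToHom e₂ ≫ a ≫ eqToHom e₃.symm := by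
  obtain ⟨Cn, e, g, hT'⟩ := distinguished_cocone_triangle a
  have hCn : CohDer.IsCompactObject Cn :=
    compact_ext₂ _ (rot_of_distTriang _ hT') hB (compact_shift' A hA 1)
  refine ⟨(Triangle.mk a e g).invRotate, inv_rot_of_distTriang _ hT',
    compact_shift' Cn hCn (-1), rfl, rfl, ?_⟩
  change a = 𝟙 _ ≫ a ≫ 𝟙 _
  rw [Category.id_comp, Category.comp_id]

lemma compact_biprod (A B : D) (hA : CohDer.IsCompactObject A) (hB : CohDer.IsCompactObject B) :
    CohDer.IsCompactObject (A ⊞ B) :=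
  compact_ext₂ _ (binaryBiproductTriangle_distinguished A B) hA hB

section Step

/-- the constraints on the value at `z₀` of an extension of `Γ` -/
abbrev Con {Z : D} (Γ : Set (Pt K Z)) (C₀ : Dc D) (z₀ : C₀.obj ⟶ Z) : Type (max u v) :=
  {q : Σ C' : Dc D, (C'.obj ⟶ C₀.obj) × K.h C' // (⟨q.1, q.2.1 ≫ z₀, q.2.2⟩ : Pt K Z) ∈ Γ}

variable {T : Triangle D} {b : NatFam K T.obj₂} {Γ : Set (Pt K T.obj₃)} (hΓ : Good T b Γ)
  (C₀ : Dc D) (z₀ : C₀.obj ⟶ T.obj₃)

include hΓ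

/-- a single constraint is solvable -/
lemma solve_one (C' : Dc D) (a : C'.obj ⟶ C₀.obj) (y' : K.h C')
    (hmem : (⟨C', a ≫ z₀, y'⟩ : Pt K T.obj₃) ∈ Γ) : ∃ y₀ : K.h C₀, K.res a y₀ = y' := by
  obtain ⟨T', hT', h₁, e₂, e₃, hm⟩ := exists_cone_compact a C'.property C₀.property
  obtain ⟨T₁, T₂, T₃, m₁, m₂, m₃⟩ := T'
  dsimp only at h₁ e₂ e₃ hm
  subst e₂ e₃
  simp only [eqToHom_refl, Category.id_comp, Category.comp_id] at hm
  subst hm
  have h0 : m₁ ≫ m₂ = 0 := comp_distTriang_mor_zero₁₂ _ hT'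
  have hz : K.res (C := C') (C' := ⟨T₁, h₁⟩) m₁ y' = 0 := by
    have h2 := hΓ.nat C' ⟨T₁, h₁⟩ m₁ (m₂ ≫ z₀) y' hmem
    have h3 : m₁ ≫ m₂ ≫ z₀ = 0 := by rw [← Category.assoc, h0, zero_comp]
    exact hΓ.func ⟨T₁, h₁⟩ 0 _ _ (hΓ.mem_congr _ h3 rfl h2) (hΓ.zero _)
  exact K.exact _ hT' h₁ C'.property C₀.property y' hz

open ZeroObject in
/-- finitely many constraints can be combined into a single one -/
lemma combine (F : Finset (Con Γ C₀ z₀)) : ∃ (C' : Dc D) (a : C'.obj ⟶ C₀.obj) (y' : K.h C'),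
    (⟨C', a ≫ z₀, y'⟩ : Pt K T.obj₃) ∈ Γ ∧
      ∀ y₀ : K.h C₀, K.res a y₀ = y' → ∀ q ∈ F, K.res q.1.2.1 y₀ = q.1.2.2 := by
  classical
  induction F using Finset.induction_on with
  | empty =>
    refine ⟨⟨0, compact_of_isZero (isZero_zero D)⟩, 0, 0, ?_,
      fun _ _ q hq => absurd hq (Finset.notMem_empty q)⟩
    exact hΓ.mem_congr _ zero_comp.symm rfl (hΓ.zero _)
  | insert q F hq ih =>
    obtain ⟨C₁, a₁, y₁, hmem₁, h₁⟩ := ih
    obtain ⟨⟨C₂, a₂, y₂⟩, hmem₂⟩ := q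
    dsimp only at hmem₂
    let B : Dc D := ⟨C₁.obj ⊞ C₂.obj, compact_biprod _ _ C₁.property C₂.property⟩
    refine ⟨B, biprod.desc a₁ a₂, K.res (C := C₁) (C' := B) biprod.fst y₁ +
      K.res (C := C₂) (C' := B) biprod.snd y₂, ?_, ?_⟩
    · have e : biprod.desc a₁ a₂ ≫ z₀ = biprod.fst ≫ (a₁ ≫ z₀) + biprod.snd ≫ (a₂ ≫ z₀) := by
        rw [biprod.desc_eq, Preadditive.add_comp, Category.assoc, Category.assoc]
      exact hΓ.mem_congr B e.symm rfl (hΓ.add B _ _ _ _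
        (hΓ.nat C₁ B biprod.fst _ _ hmem₁) (hΓ.nat C₂ B biprod.snd _ _ hmem₂))
    · intro y₀ hy₀ q hq
      rw [Finset.mem_insert] at hq
      rcases hq with rfl | hq
      · dsimp only
        have h := K.res_comp (C := C₀) (C' := B) (C'' := C₂) biprod.inr (biprod.desc a₁ a₂) y₀
        rw [biprod.inr_desc] at h
        rw [h, hy₀, map_add, ← K.res_comp, ← K.res_comp, biprod.inr_fst, biprod.inr_snd,
          K.res_zero, K.res_id, zero_add]
      · apply h₁ y₀ _ q hq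
        have h := K.res_comp (C := C₀) (C' := B) (C'' := C₁) biprod.inl (biprod.desc a₁ a₂) y₀
        rw [biprod.inl_desc] at h
        rw [h, hy₀, map_add, ← K.res_comp, ← K.res_comp, biprod.inl_fst, biprod.inl_snd,
          K.res_zero, K.res_id, add_zero]

/-- a maximal partial natural family is everywhere defined -/
lemma total_of_maximal (hmax : ∀ Γ', Good T b Γ' → Γ ⊆ Γ' → Γ' ⊆ Γ) :
    ∃ y₀ : K.h C₀, (⟨C₀, z₀, y₀⟩ : Pt K T.obj₃) ∈ Γ := by
  classical
  obtain ⟨y₀, hy₀⟩ : ∃ y₀ : K.h C₀, ∀ q : Con Γ C₀ z₀, K.res q.1.2.1 y₀ = q.1.2.2 := by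
    apply K.lc C₀ (Con Γ C₀ z₀) (fun q => q.1.1) (fun q => q.1.2.1) (fun q => q.1.2.2)
    intro F
    obtain ⟨C', a, y', hmem, h⟩ := combine hΓ C₀ z₀ F
    obtain ⟨y₀, hy₀⟩ := solve_one hΓ C₀ z₀ C' a y' hmem
    exact ⟨y₀, h y₀ hy₀⟩
  have key : ∀ (C : Dc D) (a : C.obj ⟶ C₀.obj) (z : C.obj ⟶ T.obj₃) (y : K.h C),
      (⟨C, z, y⟩ : Pt K T.obj₃) ∈ Γ → a ≫ z₀ = z → K.res a y₀ = y := fun C a z y hm hz =>
    hy₀ ⟨⟨C, a, y⟩, hΓ.mem_congr C hz.symm rfl hm⟩
  let Γ' : Set (Pt K T.obj₃) := {p | ∃ (a : p.1.obj ⟶ C₀.obj) (z : p.1.obj ⟶ T.obj₃) (y : K.h p.1),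
    (⟨p.1, z, y⟩ : Pt K T.obj₃) ∈ Γ ∧ p.2.1 = a ≫ z₀ + z ∧ p.2.2 = K.res a y₀ + y}
  have hΓ' : Good T b Γ' :=
    { func := by
        rintro C z y y' ⟨a₁, z₁, y₁, hm₁, e₁, e₁'⟩ ⟨a₂, z₂, y₂, hm₂, e₂, e₂'⟩
        dsimp only at hm₁ e₁ e₁' hm₂ e₂ e₂'
        have h1 : (a₁ - a₂) ≫ z₀ = z₂ - z₁ := by
          rw [Preadditive.sub_comp, sub_eq_sub_iff_add_eq_add, add_comm z₂]
          exact e₁.symm.trans e₂
        have h2 := key C (a₁ - a₂) (z₂ - z₁) (y₂ - y₁) (hΓ.sub _ _ _ _ _ hm₂ hm₁) h1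
        rw [K.res_sub, sub_eq_sub_iff_add_eq_add, add_comm y₂] at h2
        rw [e₁', e₂', h2]
      sub := by
        rintro C z z' y y' ⟨a₁, z₁, y₁, hm₁, e₁, e₁'⟩ ⟨a₂, z₂, y₂, hm₂, e₂, e₂'⟩
        dsimp only at hm₁ e₁ e₁' hm₂ e₂ e₂'
        refine ⟨a₁ - a₂, z₁ - z₂, y₁ - y₂, hΓ.sub _ _ _ _ _ hm₁ hm₂, ?_, ?_⟩
        · dsimp only
          rw [e₁, e₂, Preadditive.sub_comp]; abel
        · dsimp only
          rw [e₁', e₂', K.res_sub]; abel
      nat := by
        rintro C C' c z y ⟨a₁, z₁, y₁, hm₁, e₁, e₁'⟩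
        dsimp only at hm₁ e₁ e₁'
        refine ⟨c ≫ a₁, c ≫ z₁, K.res c y₁, hΓ.nat _ _ c _ _ hm₁, ?_, ?_⟩
        · dsimp only
          rw [e₁, Preadditive.comp_add, Category.assoc]
        · dsimp only
          rw [e₁', map_add, K.res_comp]
      base := by
        intro C y
        refine ⟨0, y ≫ T.mor₂, b.app C y, hΓ.base C y, ?_, ?_⟩
        · dsimp only; rw [zero_comp, zero_add]
        · dsimp only; rw [K.res_zero, zero_add] }
  have hsub : Γ ⊆ Γ' := by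
    rintro ⟨C, z, y⟩ hp
    refine ⟨0, z, y, hp, ?_, ?_⟩
    · dsimp only; rw [zero_comp, zero_add]
    · dsimp only; rw [K.res_zero, zero_add]
  refine ⟨y₀, hmax Γ' hΓ' hsub ⟨𝟙 _, 0, 0, hΓ.zero C₀, ?_, ?_⟩⟩
  · dsimp only; rw [Category.id_comp, add_zero]
  · dsimp only; rw [K.res_id, add_zero]

end Step

include hT hb in
/-- exactness of `X ↦ NatFam K X` on distinguished triangles -/
theorem exists_extension : ∃ c : NatFam K T.obj₃, pull K T.mor₂ c = b := by
  classical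
  obtain ⟨Γ, -, hmaxl⟩ := zorn_subset_nonempty {Γ | Good T b Γ}
    (fun c hc hchain hne => ⟨⋃₀ c, good_sUnion c hc hchain hne,
      fun s hs => Set.subset_sUnion_of_mem hs⟩) _ (good_base T hT b hb)
  have hΓ : Good T b Γ := hmaxl.prop
  have hmax : ∀ Γ', Good T b Γ' → Γ ⊆ Γ' → Γ' ⊆ Γ := fun Γ' h1 h2 => hmaxl.le_of_ge h1 h2
  choose f hf using fun (p : Σ C : Dc D, (C.obj ⟶ T.obj₃)) =>
    total_of_maximal hΓ p.1 p.2 hmax
  refine ⟨⟨fun C => { toFun := fun z => f ⟨C, z⟩, map_zero' := ?_, map_add' := ?_ }, ?_⟩, ?_⟩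
  · exact hΓ.func C 0 _ _ (hf ⟨C, 0⟩) (hΓ.zero C)
  · intro z z'
    exact hΓ.func C (z + z') _ _ (hf ⟨C, z + z'⟩) (hΓ.add C _ _ _ _ (hf ⟨C, z⟩) (hf ⟨C, z'⟩))
  · intro C C' a z
    exact hΓ.func C' (a ≫ z) _ _ (hf ⟨C', a ≫ z⟩) (hΓ.nat C C' a z _ (hf ⟨C, z⟩))
  · ext C y
    exact hΓ.func C _ _ _ (hf ⟨C, y ≫ T.mor₂⟩) (hΓ.base C y)

end Exact

/-! ### The cohomological functor and representability -/

/-- `X ↦ NatFam K X` as an abstract cohomological functor -/
noncomputable def hatH : BrownW.CohFun.{max u v} D where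
  h X := NatFam K X
  grp X := inferInstance
  pull g := pull K g
  pull_id Y a := by
    ext C z
    change a.app C (z ≫ 𝟙 _) = _
    rw [Category.comp_id]
  pull_comp f g a := by
    ext C z
    change a.app C (z ≫ f ≫ g) = a.app C ((z ≫ f) ≫ g)
    rw [Category.assoc]
  pull_sub f g a := by
    ext C z
    change a.app C (z ≫ (f - g)) = a.app C (z ≫ f) - a.app C (z ≫ g)
    rw [Preadditive.comp_sub, map_sub]
  exact T hT b hb := exists_extension T hT b hb
  prod_inj Y a b hab := pull_ext K Y a b hab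
  prod_surj Y a := ⟨glue K Y a, pull_glue K Y a⟩

/-- Representability: a linearly compact cohomological functor on the compact objects of a
compactly generated triangulated category is the restriction of a representable functor. -/
theorem exists_rep (hD : CohDer.IsCompactlyGenerated D) :
    ∃ (Y : D) (α : NatFam K Y), ∀ C : Dc D, Function.Bijective (fun g : C.obj ⟶ Y => α.app C g) := by
  obtain ⟨ι, E, hc, hg⟩ := hD
  have : HasColimitsOfShape (Discrete ℕ) D := hasCoproducts_nat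
  have hsmall : ∀ p : ι × ℤ, Small.{v} ((hatH K).h (shiftFam E p)) := fun p =>
    small_of_injective (yon K ⟨shiftFam E p, shiftFam_compact E hc p⟩).injective
  obtain ⟨Y, α, hα⟩ := BrownW.brown E hc hg (hatH K)
  refine ⟨Y, α, fun C => ?_⟩
  have h1 : (fun g : C.obj ⟶ Y => α.app C g) = (yon K C) ∘ ((hatH K).tau α C.obj) := by
    funext g
    change α.app C g = α.app C (𝟙 _ ≫ g)
    rw [Category.id_comp]
  rw [h1]
  exact (yon K C).bijective.comp (hα C.obj)

end Groth.Agent.Lib.Helper83.BvdB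

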