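import Mathlib
import Groth.Agent.Lib.Helper30.HomCx
import Groth.Agent.Lib.Helper30.EpsMap
import Groth.Agent.S12106

/-!
# Abstract Čech acyclicity from an adjunction

Let `(C, J)` be a small site, `𝒜` an abelian category, `Ψ : 𝒜 ⥤ Sheaf J Ab` an additive functor and
`Φ : Sheaf J Type ⥤ 𝒜` a left adjoint of `Ψ ⋙ (underlying sheaf of sets)`.  If for every epimorphism
`f : K' ⟶ K` of sheaves of sets the complex `Φ(Čech nerve of f)` is exact in positive degrees, then
for every injective object `I` of `𝒜` the abelian sheaf `Ψ I` is totally acyclic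
(`CechAdj.isTotallyAcyclic`).
-/

set_option autoImplicit false
universe u v w
open CategoryTheory Limits Opposite Simplicial AlgebraicTopology
open Groth.Agent.Lib.Helper30

namespace Groth.Agent.Lib.Helper83.CechAdj

variable {C : Type u} [SmallCategory C] {J : GrothendieckTopology C}
  {𝒜 : Type w} [Category.{v} 𝒜] [Abelian 𝒜]
  (Ψ : 𝒜 ⥤ Sheaf J AddCommGrpCat.{u}) [Ψ.Additive]
  (Φ : Sheaf J (Type u) ⥤ 𝒜)
  (adj : Φ ⊣ Ψ ⋙ sheafCompose J (forget AddCommGrpCat.{u}))

/-- the free abelian sheaf on a sheaf of sets -/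
noncomputable abbrev Zs (J : GrothendieckTopology C) : Sheaf J (Type u) ⥤ Sheaf J AddCommGrpCat.{u} :=
  Sheaf.composeAndSheafify J AddCommGrpCat.free.{u}

/-- free abelian sheaf ⊣ underlying sheaf of sets -/
noncomputable abbrev adjZs (J : GrothendieckTopology C) :
    Zs J ⊣ sheafCompose J (forget AddCommGrpCat.{u}) :=
  Sheaf.adjunction J AddCommGrpCat.adj

include adj in
/-- the mate `ℤ[N]^# ⟶ Ψ(Φ N)` -/
noncomputable def c : Zs J ⟶ Φ ⋙ Ψ where
  app N := ((adjZs J).homEquiv N _).symm (adj.unit.app N)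
  naturality N' N h := by
    apply ((adjZs J).homEquiv N' _).injective
    rw [(adjZs J).homEquiv_naturality_left, (adjZs J).homEquiv_naturality_right,
      Equiv.apply_symm_apply, Equiv.apply_symm_apply]
    exact (adj.unit.naturality h)

omit [Abelian 𝒜] [Ψ.Additive] in
lemma homEquiv_c_comp {N : Sheaf J (Type u)} {I : 𝒜} (g : Φ.obj N ⟶ I) :
    (adjZs J).homEquiv N _ ((c Ψ Φ adj).app N ≫ Ψ.map g) = adj.homEquiv N I g := by
  rw [(adjZs J).homEquiv_naturality_right]
  dsimp only [c]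
  rw [Equiv.apply_symm_apply, adj.homEquiv_unit]
  rfl

/-- maps `Φ N ⟶ I` vs. maps of abelian sheaves `ℤ[N]^# ⟶ Ψ I`. -/
noncomputable def phi (N : Sheaf J (Type u)) (I : 𝒜) :
    (Φ.obj N ⟶ I) ≃ ((Zs J).obj N ⟶ Ψ.obj I) :=
  (adj.homEquiv N I).trans ((adjZs J).homEquiv N _).symm

lemma phi_apply {N : Sheaf J (Type u)} {I : 𝒜} (g : Φ.obj N ⟶ I) :
    phi Ψ Φ adj N I g = (c Ψ Φ adj).app N ≫ Ψ.map g := by
  apply ((adjZs J).homEquiv N _).injective
  rw [homEquiv_c_comp]
  simp [phi]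

section cech

variable {K' K : Sheaf J (Type u)} (f : K' ⟶ K)

/-- the simplicial object `Φ(Čech nerve)`. -/
noncomputable abbrev XO : SimplicialObject 𝒜 := (Arrow.mk f).cechNerve ⋙ Φ

/-- the simplicial abelian sheaf: free abelian sheaves on the Čech nerve. -/
noncomputable abbrev XZ : SimplicialObject (Sheaf J AddCommGrpCat.{u}) :=
  (Arrow.mk f).cechNerve ⋙ Zs J

/-- the comparison chain map. -/
noncomputable def cc : AlternatingFaceMapComplex.obj (XZ f) ⟶
    (Ψ.mapHomologicalComplex _).obj (AlternatingFaceMapComplex.obj (XO Φ f)) :=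
  (alternatingFaceMapComplex _).map
    (show XZ f ⟶ ((SimplicialObject.whiskering _ _).obj Ψ).obj (XO Φ f) from
      Functor.whiskerLeft (Arrow.mk f).cechNerve (c Ψ Φ adj)) ≫
    (EpsMap.altIso Ψ (XO Φ f)).hom

lemma cc_f (n : ℕ) : (cc Ψ Φ adj f).f n =
    (c Ψ Φ adj).app ((Arrow.mk f).cechNerve.obj (op ⦋n⦌)) := by
  dsimp only [cc]
  rw [HomologicalComplex.comp_f, EpsMap.altIso_hom_f]
  exact Category.comp_id _

lemma d_comp_c (n : ℕ) :
    (AlternatingFaceMapComplex.obj (XZ f)).d (n + 1) n ≫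
      (c Ψ Φ adj).app ((Arrow.mk f).cechNerve.obj (op ⦋n⦌)) =
    (c Ψ Φ adj).app ((Arrow.mk f).cechNerve.obj (op ⦋n + 1⦌)) ≫
      Ψ.map ((AlternatingFaceMapComplex.obj (XO Φ f)).d (n + 1) n) := by
  have h := (cc Ψ Φ adj f).comm (n + 1) n
  rw [cc_f, cc_f] at h
  exact h.symm

include adj in
/-- **Čech acyclicity.** If `Φ(Čech nerve of f)` is exact in positive degrees and `I` is injective,
the Čech complex of `Ψ I` with respect to `f` is exact in positive degrees. -/
theorem isZero_homology_cechNerveCx (I : 𝒜) [Injective I]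
    (hex : ∀ n : ℕ, (ShortComplex.mk _ _
      ((AlternatingFaceMapComplex.obj (XO Φ f)).d_comp_d (n + 2) (n + 1) n)).Exact) (q : ℕ) :
    IsZero ((CohCx.cechNerveCx (Ψ.obj I) f).homology (q + 1)) := by
  rw [← HomologicalComplex.exactAt_iff_isZero_homology]
  rw [HomologicalComplex.exactAt_iff' _ q (q + 1) (q + 2) (by simp) (by simp)]
  rw [ShortComplex.ab_exact_iff]
  intro x hx
  let F := Ψ.obj I
  let PZ := AlternatingFaceMapComplex.obj (XZ f)
  let PO := AlternatingFaceMapComplex.obj (XO Φ f)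
  let N := fun n : ℕ => (Arrow.mk f).cechNerve.obj (op ⦋n⦌)
  let x' : PZ.X (q + 1) ⟶ F := x
  have hx' : PZ.d (q + 2) (q + 1) ≫ x' = 0 := (HomCx.d_apply (XZ f) F (q + 1) x').symm.trans hx
  let y : PO.X (q + 1) ⟶ I := (phi Ψ Φ adj (N (q + 1)) I).symm x'
  have hy : (c Ψ Φ adj).app (N (q + 1)) ≫ Ψ.map y = x' := by
    rw [← phi_apply]; exact Equiv.apply_symm_apply _ _
  have hdy : PO.d (q + 2) (q + 1) ≫ y = 0 := by
    apply (phi Ψ Φ adj (N (q + 2)) I).injective
    rw [phi_apply, phi_apply, Functor.map_comp, ← Category.assoc]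
    rw [← d_comp_c Ψ Φ adj f (q + 1), Category.assoc, hy, hx', Functor.map_zero, comp_zero]
  have hq := hex q
  let χ : PO.X q ⟶ I := hq.descToInjective y hdy
  have hχ : PO.d (q + 1) q ≫ χ = y := hq.comp_descToInjective y hdy
  refine ⟨(c Ψ Φ adj).app (N q) ≫ Ψ.map χ, ?_⟩
  refine (HomCx.d_apply (XZ f) F q _).trans ?_
  rw [← Category.assoc, d_comp_c Ψ Φ adj f q, Category.assoc, ← Functor.map_comp, hχ]
  exact hy

end cech

include adj in
/-- **Total acyclicity from an adjunction.** -/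
theorem isTotallyAcyclic
    (hex : ∀ (K' K : Sheaf J (Type u)) (f : K' ⟶ K), Epi f → ∀ n : ℕ, (ShortComplex.mk _ _
      ((AlternatingFaceMapComplex.obj (XO Φ f)).d_comp_d (n + 2) (n + 1) n)).Exact)
    (I : 𝒜) [Injective I] : CohCx.IsTotallyAcyclic (Ψ.obj I) :=
  Groth.Agent.S12106.result _ (fun K' K f hf q =>
    isZero_homology_cechNerveCx Ψ Φ adj f I (hex K' K f hf) q)

end Groth.Agent.Lib.Helper83.CechAdj
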