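import Groth.Agent.Lib.Lead.CechExplicit
import Groth.Agent.Lib.Helper17.LerayNat

/-!
# The Čech complex of a pushforward (helper83)

For a continuous map `f : Y ⟶ X`, a family `V : ι → Opens X` and a presheaf `P` on `Y`, the Čech
complex of `P` for the family `f⁻¹ V` is isomorphic to the Čech complex of `f_* P` for `V`
(`cechPushIso`), naturally in `P`.
-/

universe u

open CategoryTheory CategoryTheory.Limits TopologicalSpace Opposite

namespace Groth.Agent.Lib.Helper83.CechPush

open Groth.Agent.Lib.Lead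

variable {X Y : TopCat.{u}} (f : Y ⟶ X) {ι : Type u} (V : ι → Opens X)

/-- the family of preimages. -/
abbrev W : ι → Opens Y := fun i => (Opens.map f).obj (V i)

lemma map_cechOpen {n : ℕ} (x : Fin (n + 1) → ι) :
    (Opens.map f).obj (cechOpen V x) = cechOpen (W f V) x := by
  rw [cechOpen_eq, cechOpen_eq]
  apply Opens.ext
  rw [Opens.map_coe, Opens.coe_iInf, Opens.coe_iInf, Set.preimage_iInter]
  rfl

variable (P : (Opens Y)ᵒᵖ ⥤ AddCommGrpCat.{u})

/-- the pushforward presheaf. -/
abbrev pushP : (Opens X)ᵒᵖ ⥤ AddCommGrpCat.{u} := (Opens.map f).op ⋙ P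

/-- the component isomorphism. -/
noncomputable def compIso (n : ℕ) : cechX (W f V) P n ≅ cechX V (pushP f P) n :=
  Pi.mapIso fun x => P.mapIso (eqToIso (map_cechOpen f V x)).op

@[reassoc]
lemma compIso_hom_π (n : ℕ) (x : Fin (n + 1) → ι) :
    (compIso f V P n).hom ≫ Pi.π (cechF V (pushP f P) n) x =
      Pi.π (cechF (W f V) P n) x ≫ P.map (eqToHom (map_cechOpen f V x)).op := by
  unfold compIso
  rw [Pi.mapIso_hom_π]
  rfl

lemma compIso_comm (n : ℕ) :
    (compIso f V P n).hom ≫ cechd V (pushP f P) n =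
      cechd (W f V) P n ≫ (compIso f V P (n + 1)).hom := by
  apply Pi.hom_ext
  intro y
  rw [Category.assoc, cechd_π, Category.assoc, compIso_hom_π, ← Category.assoc, cechd_π]
  rw [Preadditive.comp_sum, Preadditive.sum_comp]
  refine Finset.sum_congr rfl fun i _ => ?_
  rw [Preadditive.comp_zsmul, Preadditive.zsmul_comp]
  congr 1
  rw [← Category.assoc, compIso_hom_π, Category.assoc, Category.assoc]
  congr 1
  change P.map _ ≫ P.map _ = P.map _ ≫ P.map _
  rw [← P.map_comp, ← P.map_comp]
  congr 1

/-- **The Čech complex of the pushforward.** -/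
noncomputable def cechPushIso : cechCx (W f V) P ≅ cechCx V (pushP f P) :=
  HomologicalComplex.Hom.isoOfComponents (fun n => compIso f V P n) (by
    rintro i j (rfl : i + 1 = j)
    exact compIso_comm f V P i)

section Nat

variable {X : TopCat.{u}} {ι : Type u} (U : ι → Opens X)
  {P P' : (Opens X)ᵒᵖ ⥤ AddCommGrpCat.{u}} (ψ : P ⟶ P')

/-- the map of Čech cochains induced by a morphism of presheaves, retyped. -/
noncomputable def cechMapf (n : ℕ) : cechX U P n ⟶ cechX U P' n :=
  ((cechComplexFunctor U).map ψ).f n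

lemma cechMapf_π (n : ℕ) (x : Fin (n + 1) → ι) :
    cechMapf U ψ n ≫ Pi.π (cechF U P' n) x =
      Pi.π (cechF U P n) x ≫ ψ.app (op (cechOpen U x)) := by
  exact Limits.Pi.map_π (fun x : Fin (n + 1) → ι => ψ.app (op (cechOpen U x))) x

end Nat

variable {P} {P' : (Opens Y)ᵒᵖ ⥤ AddCommGrpCat.{u}} (ψ : P ⟶ P')

lemma compIso_naturality (n : ℕ) :
    cechMapf (W f V) ψ n ≫ (compIso f V P' n).hom =
      (compIso f V P n).hom ≫ cechMapf V (Functor.whiskerLeft (Opens.map f).op ψ) n := by
  apply Pi.hom_ext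
  intro x
  rw [Category.assoc, compIso_hom_π, ← Category.assoc, cechMapf_π, Category.assoc,
    Category.assoc, cechMapf_π]
  erw [compIso_hom_π_assoc]
  congr 1
  exact (ψ.naturality _).symm

lemma cechPushIso_naturality :
    (cechComplexFunctor (W f V)).map ψ ≫ (cechPushIso f V P').hom =
      (cechPushIso f V P).hom ≫
        (cechComplexFunctor V).map (Functor.whiskerLeft (Opens.map f).op ψ) := by
  ext n : 1
  exact compIso_naturality f V ψ n

end Groth.Agent.Lib.Helper83.CechPush
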