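import Mathlib.CategoryTheory.Triangulated.Generators
import Groth.Agent.Lib.Helper83.Brown

/-!
# Maps from compact objects factor through finite envelopes (helper83)
-/

set_option autoImplicit false
set_option linter.unusedSectionVars false
universe v u
open CategoryTheory CategoryTheory.Limits CategoryTheory.Pretriangulated

namespace Groth.Agent.Lib.Helper83.Env

open Groth.Agent.Lib.Helper83.Cpt Groth.Agent.Lib.Helper83.Brown

variable {D : Type u} [Category.{v} D] [Preadditive D] [HasZeroObject D] [HasShift D ℤ]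
  [∀ n : ℤ, (shiftFunctor D n).Additive] [Pretriangulated D] [IsTriangulated D]
  [HasCoproducts.{v} D]

/-- Retracts of compact objects are compact. -/
lemma compact_of_retract {K K' : D} (r : Retract K K') (h : CohDer.IsCompactObject K') :
    CohDer.IsCompactObject K := by
  rw [compact_iff_DP] at h ⊢
  intro κ X x
  obtain ⟨F, y, hy0, hy⟩ := h κ X (r.r ≫ x)
  refine ⟨F, fun k => r.i ≫ y k, fun k hk => by
    change r.i ≫ y k = 0
    rw [hy0 k hk, comp_zero], ?_⟩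
  have : x = r.i ≫ (r.r ≫ x) := by rw [← Category.assoc, r.retract, Category.id_comp]
  rw [this, hy, Preadditive.comp_sum]
  refine Finset.sum_congr rfl (fun k _ => ?_)
  rw [Category.assoc]

/-- The property of being compact. -/
def cpt : ObjectProperty D := fun K => CohDer.IsCompactObject K

instance : (cpt (D := D)).IsStableUnderRetracts where
  of_retract r h := compact_of_retract r h

instance : (cpt (D := D)).IsTriangulated := compact_isTriangulated

variable {ι : Type v} (E : ι → D)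

/-- A finite subfamily as an object property. -/
abbrev finFam (s : Finset ι) : ObjectProperty D := fun Y => ∃ i ∈ s, Y = E i

lemma finFam_mono {s t : Finset ι} (h : s ⊆ t) : finFam E s ≤ finFam E t :=
  fun _ ⟨i, hi, e⟩ => ⟨i, h hi, e⟩

/-- The triangulated envelope of a finite subfamily. -/
abbrev env (s : Finset ι) : ObjectProperty D := (finFam E s).triangEnvelope

lemma env_mono {s t : Finset ι} (h : s ⊆ t) : env E s ≤ env E t :=
  ObjectProperty.monotone_triangEnvelope (finFam_mono E h)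

lemma env_le_cpt (hc : ∀ i, CohDer.IsCompactObject (E i)) (s : Finset ι) : env E s ≤ cpt := by
  rw [ObjectProperty.triangEnvelope_le_iff]
  rintro Y ⟨i, _, rfl⟩
  exact hc i

lemma env_self {s : Finset ι} {i : ι} (hi : i ∈ s) : env E s (E i) :=
  ObjectProperty.le_triangEnvelope _ _ ⟨i, hi, rfl⟩

lemma finFam_nonempty {s : Finset ι} {i : ι} (hi : i ∈ s) : (finFam E s).Nonempty :=
  ⟨E i, i, hi, rfl⟩

/-- A morphism factors through an object of the envelope of a finite subfamily. -/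
def Fac {C Z : D} (φ : C ⟶ Z) : Prop :=
  ∃ (s : Finset ι) (E' : D) (g : C ⟶ E') (h : E' ⟶ Z), env E s E' ∧ g ≫ h = φ

variable {E}

lemma Fac.comp_right {C Z Z' : D} {φ : C ⟶ Z} (hφ : Fac E φ) (ψ : Z ⟶ Z') : Fac E (φ ≫ ψ) := by
  obtain ⟨s, E', g, h, hE', rfl⟩ := hφ
  exact ⟨s, E', g, h ≫ ψ, hE', by rw [Category.assoc]⟩

lemma Fac.comp_left {C C' Z : D} {φ : C ⟶ Z} (hφ : Fac E φ) (χ : C' ⟶ C) : Fac E (χ ≫ φ) := by
  obtain ⟨s, E', g, h, hE', rfl⟩ := hφ
  exact ⟨s, E', χ ≫ g, h, hE', by rw [Category.assoc]⟩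

lemma Fac.of_env {C Z : D} (φ : C ⟶ Z) {s : Finset ι} (hZ : env E s Z) : Fac E φ :=
  ⟨s, Z, φ, 𝟙 Z, hZ, Category.comp_id _⟩

open ZeroObject in
lemma Fac.zero [Nonempty ι] {C Z : D} : Fac E (0 : C ⟶ Z) := by
  obtain ⟨i₀⟩ := ‹Nonempty ι›
  have : (finFam E {i₀}).Nonempty := finFam_nonempty E (Finset.mem_singleton_self i₀)
  exact ⟨{i₀}, 0, 0, 0, (env E {i₀}).prop_zero, by rw [comp_zero]⟩

lemma Fac.add {C Z : D} {φ₁ φ₂ : C ⟶ Z} (h₁ : Fac E φ₁) (h₂ : Fac E φ₂) : Fac E (φ₁ + φ₂) := by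
  classical
  obtain ⟨s₁, E₁, g₁, k₁, hE₁, rfl⟩ := h₁
  obtain ⟨s₂, E₂, g₂, k₂, hE₂, rfl⟩ := h₂
  refine ⟨s₁ ∪ s₂, E₁ ⊞ E₂, biprod.lift g₁ g₂, biprod.desc k₁ k₂, ?_, by simp⟩
  have hE₁' : env E (s₁ ∪ s₂) E₁ := env_mono E Finset.subset_union_left _ hE₁
  have hE₂' : env E (s₁ ∪ s₂) E₂ := env_mono E Finset.subset_union_right _ hE₂
  exact (env E (s₁ ∪ s₂)).ext_of_isTriangulatedClosed₂ _
    (binaryBiproductTriangle_distinguished E₁ E₂) hE₁' hE₂'

lemma Fac.sum [Nonempty ι] {C Z : D} {κ : Type*} (F : Finset κ) (φ : κ → (C ⟶ Z))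
    (h : ∀ k ∈ F, Fac E (φ k)) : Fac E (∑ k ∈ F, φ k) := by
  classical
  induction F using Finset.induction_on with
  | empty => simpa using Fac.zero
  | insert k F hk ih =>
    rw [Finset.sum_insert hk]
    exact (h k (Finset.mem_insert_self k F)).add
      (ih (fun k' hk' => h k' (Finset.mem_insert_of_mem hk')))


lemma Fac.coprod [Nonempty ι] {κ : Type v} (Z : κ → D) (hZ : ∀ k, ∃ s, env E s (Z k)) (C : D)
    (hC : CohDer.IsCompactObject C) (φ : C ⟶ ∐ Z) : Fac E φ := by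
  obtain ⟨F, y₀, -, hy₀⟩ := (compact_iff_DP C).mp hC κ Z φ
  let y : ∀ k, C ⟶ Z k := y₀
  have hy : φ = ∑ k ∈ F, y k ≫ Sigma.ι Z k := hy₀
  rw [hy]
  apply Fac.sum
  intro k _
  obtain ⟨s, hs⟩ := hZ k
  exact (Fac.of_env (y k) hs).comp_right _

/-- The inductive step: in a distinguished triangle `Y ⟶ X ⟶ X' ⟶ Y⟦1⟧`, a morphism `φ : C ⟶ X'` from a
compact object factors through a finite envelope as soon as `φ ≫ (X' ⟶ Y⟦1⟧)` does and all morphisms
from compact objects to `X` do. -/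
lemma Fac.step [Nonempty ι] (hc : ∀ i, CohDer.IsCompactObject (E i)) (T : Triangle D)
    (hT : T ∈ distTriang D) (C : D) (hC : CohDer.IsCompactObject C) (φ : C ⟶ T.obj₃)
    (h₃ : Fac E (φ ≫ T.mor₃))
    (h₂ : ∀ (C' : D), CohDer.IsCompactObject C' → ∀ ψ : C' ⟶ T.obj₂, Fac E ψ) : Fac E φ := by
  classical
  obtain ⟨s, W₁, w, j₁, hW₁, hwj⟩ := h₃
  have hW : env E s (W₁⟦(-1 : ℤ)⟧) := (env E s).le_shift (-1 : ℤ) _ hW₁
  let e : (W₁⟦(-1 : ℤ)⟧)⟦(1 : ℤ)⟧ ≅ W₁ := shiftNegShift W₁ (1 : ℤ)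
  obtain ⟨C', a, c, hTC⟩ := distinguished_cocone_triangle₂ (w ≫ e.inv)
  have hC' : CohDer.IsCompactObject C' := compact_ext₂ _ hTC (env_le_cpt E hc s _ hW) hC
  have hcw : c ≫ (w ≫ e.inv) = 0 := comp_distTriang_mor_zero₂₃ _ hTC
  have hcw' : c ≫ w = 0 := by
    have := congrArg (fun z => z ≫ e.hom) hcw
    simpa using this
  have h0 : (c ≫ φ) ≫ T.mor₃ = 0 := by
    rw [Category.assoc, ← hwj, ← Category.assoc, hcw', zero_comp]
  obtain ⟨ψ, hψ⟩ := Triangle.coyoneda_exact₃ T hT (c ≫ φ) h0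
  obtain ⟨j', hj'⟩ : ∃ j' : W₁⟦(-1 : ℤ)⟧ ⟶ T.obj₁, a ≫ ψ = j' ≫ T.mor₁ := by
    obtain ⟨j', hj'₁, -⟩ := complete_distinguished_triangle_morphism₁
      (Triangle.mk a c (w ≫ e.inv)) T hTC hT ψ φ hψ
    exact ⟨j', hj'₁⟩
  obtain ⟨s', E₂, g, h, hE₂, hgh⟩ := h₂ C' hC' ψ
  obtain ⟨E₃, b, d, hT'⟩ := distinguished_cocone_triangle (a ≫ g)
  obtain ⟨i₀⟩ := ‹Nonempty ι›
  have hne : (finFam E (s ∪ s' ∪ {i₀})).Nonempty :=
    finFam_nonempty E (Finset.mem_union_right _ (Finset.mem_singleton_self i₀))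
  have hE₃ : env E (s ∪ s' ∪ {i₀}) E₃ :=
    (env E (s ∪ s' ∪ {i₀})).ext_of_isTriangulatedClosed₃ _ hT'
      (env_mono E (Finset.subset_union_left.trans Finset.subset_union_left) _ hW)
      (env_mono E (Finset.subset_union_right.trans Finset.subset_union_left) _ hE₂)
  obtain ⟨γ, hγ⟩ : ∃ γ : C ⟶ E₃, c ≫ γ = g ≫ b := by
    obtain ⟨γ, hγ₁, -⟩ := complete_distinguished_triangle_morphism
      (Triangle.mk a c (w ≫ e.inv)) (Triangle.mk (a ≫ g) b d) hTC hT' (𝟙 _) g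
      (by change a ≫ g = 𝟙 _ ≫ a ≫ g; rw [Category.id_comp])
    exact ⟨γ, hγ₁⟩
  obtain ⟨θ, hθ⟩ : ∃ θ : E₃ ⟶ T.obj₃, b ≫ θ = h ≫ T.mor₂ := by
    obtain ⟨θ, hθ₁, -⟩ := complete_distinguished_triangle_morphism
      (Triangle.mk (a ≫ g) b d) T hT' hT j' h
      (by change (a ≫ g) ≫ h = j' ≫ T.mor₁; rw [Category.assoc, hgh, hj'])
    exact ⟨θ, hθ₁⟩
  have h1 : c ≫ (φ - γ ≫ θ) = 0 := by
    rw [Preadditive.comp_sub, hψ, ← Category.assoc, hγ, Category.assoc, hθ, ← Category.assoc, hgh,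
      sub_self]
  obtain ⟨ρ, hρ⟩ : ∃ ρ : (W₁⟦(-1 : ℤ)⟧)⟦(1 : ℤ)⟧ ⟶ T.obj₃, φ - γ ≫ θ = (w ≫ e.inv) ≫ ρ :=
    Triangle.yoneda_exact₃ (Triangle.mk a c (w ≫ e.inv)) hTC (φ - γ ≫ θ) h1
  have hφ : φ = γ ≫ θ + w ≫ (e.inv ≫ ρ) := by
    rw [← Category.assoc, ← hρ]; abel
  rw [hφ]
  exact Fac.add ⟨s ∪ s' ∪ {i₀}, E₃, γ, θ, hE₃, rfl⟩ ⟨s, W₁, w, e.inv ≫ ρ, hW₁, rfl⟩

/-- Every morphism from a compact object to a stage of a tower built from shifts of the `E i`
factors through an object of the envelope of finitely many `E i`. -/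
theorem factor_of_tower [Nonempty ι] (hc : ∀ i, CohDer.IsCompactObject (E i))
    (K : ℕ → D) (f : ∀ n, K n ⟶ K (n + 1))
    (h0 : ∃ (κ : Type v) (a : κ → ι) (m : κ → ℤ),
      Nonempty (K 0 ≅ ∐ (fun k => (shiftFunctor D (m k)).obj (E (a k)))))
    (hstep : ∀ n, ∃ (κ : Type v) (a : κ → ι) (m : κ → ℤ)
      (y : (∐ fun k => (shiftFunctor D (m k)).obj (E (a k))) ⟶ K n)
      (z : K (n + 1) ⟶ (shiftFunctor D (1 : ℤ)).obj (∐ fun k => (shiftFunctor D (m k)).obj (E (a k)))),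
      Triangle.mk y (f n) z ∈ distTriang D) (n : ℕ) :
    ∀ (C : D), CohDer.IsCompactObject C → ∀ φ : C ⟶ K n, Fac E φ := by
  induction n with
  | zero =>
    intro C hC φ
    obtain ⟨κ, a, m, ⟨e⟩⟩ := h0
    have h1 : Fac E (φ ≫ e.hom) := Fac.coprod _ (fun k => ⟨{a k},
      (env E {a k}).le_shift (m k) _ (env_self E (Finset.mem_singleton_self (a k)))⟩) C hC _
    have := h1.comp_right e.inv
    rwa [Category.assoc, Iso.hom_inv_id, Category.comp_id] at this
  | succ n ih =>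
    intro C hC φ
    obtain ⟨κ, a, m, y, z, hT⟩ := hstep n
    refine Fac.step hc _ hT C hC φ ?_ ih
    let G : κ → D := fun k => (shiftFunctor D (m k)).obj (E (a k))
    let i := PreservesCoproduct.iso (shiftFunctor D (1 : ℤ)) G
    have h1 : Fac E ((φ ≫ z) ≫ i.hom) := Fac.coprod _ (fun k => ⟨{a k},
      (env E {a k}).le_shift (1 : ℤ) _ ((env E {a k}).le_shift (m k) _
        (env_self E (Finset.mem_singleton_self (a k))))⟩) C hC _
    have := h1.comp_right i.inv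
    rwa [Category.assoc, Iso.hom_inv_id, Category.comp_id] at this


/-! ### Compact objects lie in the envelope of a generating family -/

/-- If the compact family `E` generates, every compact object lies in the envelope of finitely many
`E i`. -/
theorem compact_mem_env_of_generates [HasColimitsOfShape (Discrete ℕ) D] [Nonempty ι]
    (hc : ∀ i, CohDer.IsCompactObject (E i)) (hg : CohDer.Generates E) (X : D)
    (hX : CohDer.IsCompactObject X) : ∃ s : Finset ι, env E s X := by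
  obtain ⟨K, f, i, hL, ⟨I, a, h0⟩, hs⟩ := exists_tower E hc hg X
  obtain ⟨N, g', hg'⟩ := isHocolim_factor hL X hX (𝟙 X)
  have h0' : ∃ (κ : Type v) (a : κ → ι) (m : κ → ℤ),
      Nonempty (K 0 ≅ ∐ (fun k => (shiftFunctor D (m k)).obj (E (a k)))) :=
    ⟨I, fun p => (a p).1, fun p => (a p).2, h0⟩
  have hs' : ∀ n, ∃ (κ : Type v) (a : κ → ι) (m : κ → ℤ)
      (y : (∐ fun k => (shiftFunctor D (m k)).obj (E (a k))) ⟶ K n)
      (z : K (n + 1) ⟶ (shiftFunctor D (1 : ℤ)).obj (∐ fun k => (shiftFunctor D (m k)).obj (E (a k)))),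
      Triangle.mk y (f n) z ∈ distTriang D := by
    intro n
    obtain ⟨I', a', y, z, hT⟩ := hs n
    exact ⟨I', fun p => (a' p).1, fun p => (a' p).2, y, z, hT⟩
  obtain ⟨s, E', g, h, hE', hgh⟩ := factor_of_tower hc K f h0' hs' N X hX g'
  refine ⟨s, (env E s).prop_of_retract ⟨g, h ≫ i N, ?_⟩ hE'⟩
  rw [← Category.assoc, hgh, ← hg']

instance leftOrthogonal_isStableUnderRetracts (P : ObjectProperty D) :
    P.leftOrthogonal.IsStableUnderRetracts where
  of_retract {X Y} r h Z f hZ := by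
    have h1 : r.r ≫ f = 0 := h (r.r ≫ f) hZ
    have h2 : f = r.i ≫ r.r ≫ f := by rw [← Category.assoc, r.retract, Category.id_comp]
    rw [h2, h1, comp_zero]

/-- If `D` is compactly generated and all compact objects lie in the triangulated envelope of a
class `P₀`, then an object receiving only zero maps from all objects of `P₀` into all its shifts is zero. -/
theorem isZero_of_env_eq_compacts (P₀ : ObjectProperty D) (hD : CohDer.IsCompactlyGenerated D)
    (henv : ∀ X : D, CohDer.IsCompactObject X → P₀.triangEnvelope X) (K : D)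
    (hK : ∀ (Y : D), P₀ Y → ∀ (n : ℤ) (f : Y ⟶ (shiftFunctor D n).obj K), f = 0) : IsZero K := by
  obtain ⟨ι', E', hc', hg'⟩ := hD
  let P : ObjectProperty D := shiftClass (fun _ : PUnit.{v + 1} => K)
  have h1 : P₀ ≤ P.leftOrthogonal := by
    rintro Y hY W f ⟨_, n, ⟨e⟩⟩
    have : f ≫ e.hom = 0 := hK Y hY n _
    rw [← cancel_mono e.hom, this, zero_comp]
  have h2 : P₀.triangEnvelope ≤ P.leftOrthogonal := by
    rw [ObjectProperty.triangEnvelope_le_iff]
    exact h1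
  apply hg'
  intro i n f
  exact h2 _ (henv _ (hc' i)) f ⟨PUnit.unit, n, ⟨Iso.refl _⟩⟩

end Groth.Agent.Lib.Helper83.Env
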