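import Mathlib
import Groth.Agent.Lib.Helper32.DCoprod
import Groth.Agent.Lib.Helper83.AB5Seq

/-!
# Exhaustive sequences of complexes and their telescope short exact sequence (helper83)

For a sequence of complexes `L 0 ⟶ L 1 ⟶ ...` mapping compatibly to `M` such that in each degree
`j` the maps `(L n)^j ⟶ M^j` are isomorphisms for `n` large, under AB5 for `ℕ` we get a short
exact sequence of complexes `0 ⟶ ∐ L n --(1 - shift)--> ∐ L n ⟶ M ⟶ 0`.
-/

set_option autoImplicit false
universe v u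

namespace Groth.Agent.Lib.Helper83.ExhSeq

open CategoryTheory CategoryTheory.Limits Groth.Agent.Lib.Helper32.DCoprod

section Obj

variable {A : Type u} [Category.{v} A]

/-- a cocone over `ℕ ⥤ A` whose legs are eventually isomorphisms is a colimit cocone -/
noncomputable def isColimitOfEventuallyIso (F : ℕ ⥤ A) (c : Cocone F) (N : ℕ)
    (h : ∀ n, N ≤ n → IsIso (c.ι.app n)) : IsColimit c := by
  have key : ∀ (s : Cocone F) (m : ℕ) (hm : N ≤ m),
      haveI := h m hm
      haveI := h N le_rfl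
      inv (c.ι.app N) ≫ s.ι.app N = inv (c.ι.app m) ≫ s.ι.app m := by
    intro s m hm
    have := h m hm
    have := h N le_rfl
    rw [IsIso.inv_comp_eq, ← c.w (homOfLE hm), Category.assoc, IsIso.hom_inv_id_assoc, s.w]
  have := h N le_rfl
  refine
    { desc := fun s => inv (c.ι.app N) ≫ s.ι.app N
      fac := fun s n => ?_
      uniq := fun s m hm => ?_ }
  · have hm : N ≤ max n N := le_max_right _ _
    have := h _ hm
    rw [key s _ hm, ← c.w (homOfLE (le_max_left n N)), Category.assoc, IsIso.hom_inv_id_assoc, s.w]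
  · rw [IsIso.eq_inv_comp, hm]

end Obj

section Seq

variable {A : Type u} [Category.{v} A] [Abelian A] [HasColimitsOfShape ℕ A]
  [HasExactColimitsOfShape ℕ A]

omit [HasColimitsOfShape ℕ A] [HasExactColimitsOfShape ℕ A] in
lemma w_seq (X : ℕ → A) [HasCoproduct X] (t : ∀ n, X n ⟶ X (n + 1)) (Y : A) (y : ∀ n, X n ⟶ Y)
    (hy : ∀ n, t n ≫ y (n + 1) = y n) :
    (𝟙 (∐ X) - Sigma.desc (fun n => t n ≫ Sigma.ι X (n + 1))) ≫ Sigma.desc y = 0 := by
  apply Sigma.hom_ext
  intro n
  rw [Preadditive.sub_comp, Preadditive.comp_sub, Category.id_comp, Sigma.ι_desc,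
    Sigma.ι_desc_assoc, Category.assoc, Sigma.ι_desc, hy, sub_self, comp_zero]

/-- the telescope short exact sequence for an eventually constant sequence -/
theorem shortExact_seq (X : ℕ → A) [HasCoproduct X] (t : ∀ n, X n ⟶ X (n + 1)) (Y : A)
    (y : ∀ n, X n ⟶ Y) (hy : ∀ n, t n ≫ y (n + 1) = y n) (N : ℕ)
    (hN : ∀ n, N ≤ n → IsIso (y n)) :
    (ShortComplex.mk (𝟙 (∐ X) - Sigma.desc (fun n => t n ≫ Sigma.ι X (n + 1))) (Sigma.desc y)
      (w_seq X t Y y hy)).ShortExact := by
  let F : ℕ ⥤ A := Functor.ofSequence t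
  have htr : AB5Seq.tr F = t := by
    funext n
    exact Functor.ofSequence_map_homOfLE_succ _ n
  let c : Cocone F :=
    { pt := Y
      ι := NatTrans.ofSequence (F := F) (G := (Functor.const ℕ).obj Y) y (by
        intro n
        change F.map (homOfLE (Nat.le_succ n)) ≫ y (n + 1) = y n ≫ 𝟙 _
        rw [Category.comp_id, Functor.ofSequence_map_homOfLE_succ]
        exact hy n) }
  have hc : IsColimit c := isColimitOfEventuallyIso F c N (fun n hn => by
    change IsIso (y n)
    exact hN n hn)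
  have : HasCoproduct F.obj := inferInstanceAs (HasCoproduct X)
  let e : colimit F ≅ Y := colimit.isoColimitCocone ⟨c, hc⟩
  have h1 := AB5Seq.shortExact F
  refine ShortComplex.shortExact_of_iso
    (S₁ := ShortComplex.mk (AB5Seq.d F.obj (AB5Seq.tr F)) (AB5Seq.πF F) (AB5Seq.d_πF F))
    (ShortComplex.isoMk (Iso.refl _) (Iso.refl _) e ?_ ?_) h1
  · change 𝟙 _ ≫ _ = AB5Seq.d F.obj (AB5Seq.tr F) ≫ 𝟙 _
    rw [Category.comp_id, Category.id_comp, htr]
    rfl
  · change 𝟙 _ ≫ Sigma.desc y = AB5Seq.πF F ≫ e.hom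
    rw [Category.id_comp]
    apply Sigma.hom_ext
    intro n
    have h2 : Sigma.ι F.obj n ≫ AB5Seq.πF F ≫ e.hom = y n := by
      rw [← Category.assoc, AB5Seq.ι_πF]
      exact colimit.isoColimitCocone_ι_hom ⟨c, hc⟩ n
    exact (Sigma.ι_desc y n).trans h2.symm

end Seq

section Cx

variable {A : Type u} [Category.{v} A] [Abelian A] [HasColimitsOfShape (Discrete ℕ) A]

variable (L : ℕ → CochainComplex A ℤ) (i : ∀ n, L n ⟶ L (n + 1)) (M : CochainComplex A ℤ)
  (ι : ∀ n, L n ⟶ M)

/-- the shift map on the termwise coproduct -/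
noncomputable def sh : sigmaCx L ⟶ sigmaCx L := sigmaDesc (fun n => i n ≫ sigmaι L (n + 1))

/-- the canonical map to `M` -/
noncomputable def π : sigmaCx L ⟶ M := sigmaDesc ι

@[reassoc (attr := simp)]
lemma ι_sh (n : ℕ) : sigmaι L n ≫ sh L i = i n ≫ sigmaι L (n + 1) := ι_sigmaDesc _ _

@[reassoc (attr := simp)]
lemma ι_π (n : ℕ) : sigmaι L n ≫ π L M ι = ι n := ι_sigmaDesc _ _

variable (hι : ∀ n, i n ≫ ι (n + 1) = ι n)

include hι in
lemma one_sub_sh_π : (𝟙 _ - sh L i) ≫ π L M ι = 0 := by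
  apply sigma_hom_ext
  intro n
  rw [Preadditive.sub_comp, Preadditive.comp_sub, Category.id_comp, ι_π, ι_sh_assoc, ι_π, hι,
    sub_self, comp_zero]

variable [HasColimitsOfShape ℕ A] [HasExactColimitsOfShape ℕ A]
  (hiso : ∀ j : ℤ, ∃ N : ℕ, ∀ n, N ≤ n → IsIso ((ι n).f j))

include hiso in
/-- the telescope short exact sequence of complexes -/
theorem shortExact :
    (ShortComplex.mk (𝟙 _ - sh L i) (π L M ι) (one_sub_sh_π L i M ι hι)).ShortExact := by
  rw [HomologicalComplex.shortExact_iff_degreewise_shortExact]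
  intro j
  obtain ⟨N, hN⟩ := hiso j
  have h := shortExact_seq (fun n => (L n).X j) (fun n => (i n).f j) (M.X j) (fun n => (ι n).f j)
    (fun n => by rw [← HomologicalComplex.comp_f, hι]) N hN
  exact h

end Cx

end Groth.Agent.Lib.Helper83.ExhSeq
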