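import Mathlib
import Groth.Agent.Lib.Helper83.ExtLimit

/-!
# `Ext` into the point of a limit cone of a tower of abelian sheaves acyclic on a basis
(versions of `ExtLimit` for an arbitrary limit cone)
-/

set_option autoImplicit false
universe u

namespace Groth.Agent.Lib.Helper83.ExtLimit

open CategoryTheory Limits Opposite Abelian DerivedCategory

section Site

open Groth.Agent.Lib.Helper83.TruncTower Groth.Agent.Lib.Helper83.AcyclicSingle
open Groth.Agent.Lib.Helper83.AcyclicSite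

variable {C : Type u} [SmallCategory C] {J : GrothendieckTopology C}
  [HasDerivedCategory.{u} (Sheaf J AddCommGrpCat.{u})]

variable (F : ℕᵒᵖ ⥤ Sheaf J AddCommGrpCat.{u}) (c : Cone F) (hc : IsLimit c)

/-- the projections of a cone over a tower, with the point as source -/
abbrev proj (n : ℕ) : c.pt ⟶ F.obj (op n) := c.π.app (op n)

variable (B : Set C)
  (hB : ∀ U : C, ∃ (ι : Type u) (Y : ι → C) (f : ∀ i, Y i ⟶ U),
      Sieve.ofArrows Y f ∈ J U ∧ ∀ i, Y i ∈ B)
  (h1 : ∀ U ∈ B, ∀ (p n : ℕ), Subsingleton (CohSite.HU (F.obj (op n)) (p + 1) U))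
  (h2 : ∀ U ∈ B, ∀ n : ℕ,
    Function.Surjective ((F.map (homOfLE (Nat.le_succ n)).op).hom.app (op U)).hom)

include hc hB h1 h2 in
theorem isRlimVia_cone
    [HasProduct fun n => (singleFunctor (Sheaf J AddCommGrpCat.{u}) 0).obj (F.obj (op n))] :
    CohCx.IsRlimVia (fun n => (singleFunctor (Sheaf J AddCommGrpCat.{u}) 0).obj (F.obj (op n)))
      (fun n => (singleFunctor (Sheaf J AddCommGrpCat.{u}) 0).map (F.map (homOfLE (Nat.le_succ n)).op))
      ((singleFunctor (Sheaf J AddCommGrpCat.{u}) 0).obj c.pt)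
      (fun n => (singleFunctor (Sheaf J AddCommGrpCat.{u}) 0).map (proj F c n)) := by
  have hL := isRlimVia_functor F B hB h1 h2
  let ι : c.pt ≅ limit F := hc.conePointUniqueUpToIso (limit.isLimit F)
  refine isRlimVia_of_isIso hL _ ((singleFunctor (Sheaf J AddCommGrpCat.{u}) 0).map ι.hom)
    inferInstance (fun n => ?_)
  rw [← Functor.map_comp]
  congr 1
  exact hc.conePointUniqueUpToIso_hom_comp (limit.isLimit F) (op n)

include hc hB h1 h2 in
theorem subsingleton_HU_cone (U : C) (hU : U ∈ B) (p : ℕ) :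
    Subsingleton (CohSite.HU c.pt (p + 1) U) := by
  have := hasProduct_derived (fun n => (singleFunctor (Sheaf J AddCommGrpCat.{u}) 0).obj (F.obj (op n)))
  have hm := (main (fun n => F.obj (op n)) (fun n => F.map (homOfLE (Nat.le_succ n)).op) B hB h1
    (fun U hU => limOneIsZero_of_surjective _ _ (fun n => h2 U hU n))).2 U hU p
  let ι : limit (CohCx.opSequence (fun n => F.obj (op n))
      (fun n => F.map (homOfLE (Nat.le_succ n)).op)) ≅ c.pt :=
    (HasLimit.isoOfNatIso (seqIso F)).symm ≪≫ (hc.conePointUniqueUpToIso (limit.isLimit F)).symm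
  exact subsingleton_ext_of_iso ι (p + 1) hm

variable [HasExt.{u} (Sheaf J AddCommGrpCat.{u})]

include hc hB h1 h2 in
theorem ext_limit_cone (S : Sheaf J AddCommGrpCat.{u}) (i j : ℕ) (hij : j + 1 = i) :
    (∀ ξ : ∀ n : ℕ, Ext.{u} S (F.obj (op n)) i,
      (∀ n, (Ext.mk₀ (F.map (homOfLE (Nat.le_succ n)).op)).postcomp S (add_zero i) (ξ (n + 1)) = ξ n) →
        ∃ η : Ext.{u} S c.pt i,
          ∀ n, (Ext.mk₀ (proj F c n)).postcomp S (add_zero i) η = ξ n) ∧
    Nonempty ((AddMonoidHom.pi fun n : ℕ =>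
        (Ext.mk₀ (proj F c n)).postcomp S (add_zero i)).ker ≃+
      Formal2.limOne (fun n : ℕ => Ext.{u} S (F.obj (op n)) j)
        (fun n : ℕ => (Ext.mk₀ (F.map (homOfLE (Nat.le_succ n)).op)).postcomp S (add_zero j))) := by
  have := hasProduct_derived (fun n => (singleFunctor (Sheaf J AddCommGrpCat.{u}) 0).obj (F.obj (op n)))
  have hL := isRlimVia_cone F c hc B hB h1 h2
  let Z := (singleFunctor (Sheaf J AddCommGrpCat.{u}) 0).obj S
  constructor
  · intro ξ hξ
    have hmil := Groth.Agent.S0943.milnor Z _ _ _ _ hL (i : ℤ)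
    obtain ⟨y, hy⟩ := hmil.1 (fun n => ε S (F.obj (op n)) i (ξ n)) (fun n => by
      rw [← ε_postcomp, hξ])
    refine ⟨(ε S c.pt i).symm y, fun n => ?_⟩
    apply (ε S (F.obj (op n)) i).injective
    rw [ε_postcomp, AddEquiv.apply_symm_apply]
    exact hy n
  · obtain ⟨e1⟩ := Groth.Agent.Lib.Helper83.MilnorFull.nonempty_ker_equiv_limOne Z _ _ _ _ hL
      (j : ℤ) (i : ℤ) (by exact_mod_cast hij)
    obtain ⟨e0⟩ := nonempty_ker_equiv
      (fun n : ℕ => (Ext.mk₀ (proj F c n)).postcomp S (add_zero i))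
      (fun n : ℕ => Preadditive.rightComp Z
        (((singleFunctor (Sheaf J AddCommGrpCat.{u}) 0).map (proj F c n))⟦(i : ℤ)⟧'))
      (ε S c.pt i) (fun n => ε S (F.obj (op n)) i) (fun n x => ε_postcomp _ _ _)
    obtain ⟨e2⟩ := nonempty_limOne_equiv
      (fun n : ℕ => (Ext.mk₀ (F.map (homOfLE (Nat.le_succ n)).op)).postcomp S (add_zero j))
      (fun n : ℕ => Preadditive.rightComp Z
        (((singleFunctor (Sheaf J AddCommGrpCat.{u}) 0).map
          (F.map (homOfLE (Nat.le_succ n)).op))⟦(j : ℤ)⟧'))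
      (fun n => ε S (F.obj (op n)) j) (fun n x => ε_postcomp _ _ _)
    exact ⟨e0.trans (e1.trans e2.symm)⟩

end Site

end Groth.Agent.Lib.Helper83.ExtLimit
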