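import Mathlib

/-!
# Vanishing of `Ext` along short exact sequences and finite coproducts (helper83)
-/

set_option autoImplicit false
universe w v u
open CategoryTheory CategoryTheory.Limits CategoryTheory.Abelian

namespace Groth.Agent.Lib.Helper83.ExtSigma

variable {C : Type u} [Category.{v} C] [Abelian C] [HasExt.{w} C]

/-- the projections of a finite coproduct. -/
noncomputable def proj {m : ℕ} (f : Fin m → C) (t : Fin m) : ∐ f ⟶ f t :=
  Sigma.desc (fun t' : Fin m => if h : t' = t then eqToHom (congrArg f h) else 0)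

theorem sum_proj_ι {m : ℕ} (f : Fin m → C) :
    ∑ t : Fin m, proj f t ≫ Sigma.ι f t = 𝟙 (∐ f) := by
  apply Sigma.hom_ext
  intro t'
  rw [Preadditive.comp_sum, Category.comp_id]
  rw [Finset.sum_eq_single t']
  · rw [proj, ← Category.assoc, Sigma.ι_desc, dif_pos rfl, eqToHom_refl, Category.id_comp]
  · intro t _ ht
    rw [proj, ← Category.assoc, Sigma.ι_desc, dif_neg (Ne.symm ht), zero_comp]
  · intro h
    exact absurd (Finset.mem_univ t') h

theorem subsingleton_ext_sigma_right (A : C) {m : ℕ} (f : Fin m → C) (p : ℕ)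
    (h : ∀ t, Subsingleton (Ext A (f t) p)) : Subsingleton (Ext A (∐ f) p) := by
  suffices H : ∀ x : Ext A (∐ f) p, x = 0 from ⟨fun x y => (H x).trans (H y).symm⟩
  intro x
  let Φ : ((∐ f) ⟶ (∐ f)) →+ Ext A (∐ f) p :=
    AddMonoidHom.mk' (fun g => x.comp (Ext.mk₀ g) (add_zero p)) (fun g g' => by
      rw [Ext.mk₀_add, Ext.comp_add])
  have h1 : Φ (𝟙 _) = x := Ext.comp_mk₀_id x
  rw [← h1, ← sum_proj_ι f, map_sum]
  refine Finset.sum_eq_zero (fun t _ => ?_)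
  change x.comp (Ext.mk₀ (proj f t ≫ Sigma.ι f t)) (add_zero p) = 0
  rw [← Ext.mk₀_comp_mk₀, ← Ext.comp_assoc_of_third_deg_zero,
    (h t).elim (x.comp (Ext.mk₀ (proj f t)) (add_zero p)) 0, Ext.zero_comp]

theorem subsingleton_ext_sigma_left (B : C) {m : ℕ} (f : Fin m → C) (p : ℕ)
    (h : ∀ t, Subsingleton (Ext (f t) B p)) : Subsingleton (Ext (∐ f) B p) := by
  suffices H : ∀ x : Ext (∐ f) B p, x = 0 from ⟨fun x y => (H x).trans (H y).symm⟩
  intro x
  let Φ : ((∐ f) ⟶ (∐ f)) →+ Ext (∐ f) B p :=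
    AddMonoidHom.mk' (fun g => (Ext.mk₀ g).comp x (zero_add p)) (fun g g' => by
      rw [Ext.mk₀_add, Ext.add_comp])
  have h1 : Φ (𝟙 _) = x := Ext.mk₀_id_comp x
  rw [← h1, ← sum_proj_ι f, map_sum]
  refine Finset.sum_eq_zero (fun t _ => ?_)
  change (Ext.mk₀ (proj f t ≫ Sigma.ι f t)).comp x (zero_add p) = 0
  rw [← Ext.mk₀_comp_mk₀, Ext.comp_assoc_of_second_deg_zero,
    (h t).elim ((Ext.mk₀ (Sigma.ι f t)).comp x (zero_add p)) 0, Ext.comp_zero]

theorem subsingleton_ext_of_iso_right (A : C) {B B' : C} (e : B ≅ B') (p : ℕ)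
    (h : Subsingleton (Ext A B' p)) : Subsingleton (Ext A B p) := by
  suffices H : ∀ x : Ext A B p, x = 0 from ⟨fun x y => (H x).trans (H y).symm⟩
  intro x
  have h1 : (x.comp (Ext.mk₀ e.hom) (add_zero p)).comp (Ext.mk₀ e.inv) (add_zero p) = x := by
    rw [Ext.comp_assoc_of_third_deg_zero, Ext.mk₀_comp_mk₀, e.hom_inv_id, Ext.comp_mk₀_id]
  rw [← h1, h.elim (x.comp (Ext.mk₀ e.hom) (add_zero p)) 0, Ext.zero_comp]

theorem subsingleton_ext_of_iso_left {A A' : C} (e : A ≅ A') (B : C) (p : ℕ)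
    (h : Subsingleton (Ext A' B p)) : Subsingleton (Ext A B p) := by
  suffices H : ∀ x : Ext A B p, x = 0 from ⟨fun x y => (H x).trans (H y).symm⟩
  intro x
  have h1 : (Ext.mk₀ e.hom).comp ((Ext.mk₀ e.inv).comp x (zero_add p)) (zero_add p) = x := by
    rw [← Ext.comp_assoc_of_second_deg_zero, Ext.mk₀_comp_mk₀, e.hom_inv_id, Ext.mk₀_id_comp]
  rw [← h1, h.elim ((Ext.mk₀ e.inv).comp x (zero_add p)) 0, Ext.comp_zero]

/-- `Ext^p(A, X₂) = 0 = Ext^{p+1}(A, X₁)` implies `Ext^p(A, X₃) = 0`. -/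
theorem subsingleton_ext_X₃_right {S : ShortComplex C} (hS : S.ShortExact) (A : C) (p : ℕ)
    (h2 : Subsingleton (Ext A S.X₂ p)) (h1 : Subsingleton (Ext A S.X₁ (p + 1))) :
    Subsingleton (Ext A S.X₃ p) := by
  suffices H : ∀ x : Ext A S.X₃ p, x = 0 from ⟨fun x y => (H x).trans (H y).symm⟩
  intro x
  obtain ⟨x₂, hx₂⟩ := Ext.covariant_sequence_exact₃ A hS x rfl (h1.elim _ _)
  rw [← hx₂, h2.elim x₂ 0, Ext.zero_comp]

/-- `Hom(X₂, B) = 0` implies `Hom(X₃, B) = 0`. -/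
theorem subsingleton_ext_X₃_left_zero {S : ShortComplex C} (hS : S.ShortExact) (B : C)
    (h2 : Subsingleton (Ext S.X₂ B 0)) : Subsingleton (Ext S.X₃ B 0) := by
  haveI := hS.epi_g
  refine ⟨fun x y => ?_⟩
  apply Ext.precomp_mk₀_injective_of_epi B S.g
  exact h2.elim _ _

/-- `Ext^{p+1}(X₂, B) = 0 = Ext^p(X₁, B)` implies `Ext^{p+1}(X₃, B) = 0`. -/
theorem subsingleton_ext_X₃_left_succ {S : ShortComplex C} (hS : S.ShortExact) (B : C) (p : ℕ)
    (h2 : Subsingleton (Ext S.X₂ B (p + 1))) (h1 : Subsingleton (Ext S.X₁ B p)) :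
    Subsingleton (Ext S.X₃ B (p + 1)) := by
  suffices H : ∀ x : Ext S.X₃ B (p + 1), x = 0 from ⟨fun x y => (H x).trans (H y).symm⟩
  intro x
  obtain ⟨x₁, hx₁⟩ := Ext.contravariant_sequence_exact₃ hS B x (h2.elim _ _) (add_comm 1 p)
  rw [← hx₁, h1.elim x₁ 0, Ext.comp_zero]

end Groth.Agent.Lib.Helper83.ExtSigma
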