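import Groth.Agent.S0012
import Groth.Agent.Lib.Helper17.HHIso
import Groth.Agent.Lib.Helper16.FlatPull.Chart

/-!
# Cohomology is invariant under isomorphisms of schemes (helper83)

`nonempty_HH_equiv_of_iso`: for an isomorphism `ψ : X' ⟶ X` and `F` quasi-coherent on `X`,
`H^q(X', ψ^* F) ≃+ H^q(X, F)` (via `S0012` and the unit `F ≅ ψ_* ψ^* F`).
-/

set_option autoImplicit false
universe u
open CategoryTheory CategoryTheory.Limits AlgebraicGeometry

namespace Groth.Agent.Lib.Helper83.HHIsoScheme

variable {X X' : Scheme.{u}} (ψ : X' ⟶ X) [IsIso ψ]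

/-- pushforward along an isomorphism of schemes is an equivalence. -/
noncomputable def pushforwardEquivalence : X'.Modules ≌ X.Modules :=
  CategoryTheory.Equivalence.mk (Scheme.Modules.pushforward ψ) (Scheme.Modules.pushforward (inv ψ))
    ((Scheme.Modules.pushforwardId X').symm ≪≫
      (Scheme.Modules.pushforwardCongr (IsIso.hom_inv_id ψ)).symm ≪≫
      (Scheme.Modules.pushforwardComp ψ (inv ψ)).symm)
    (Scheme.Modules.pushforwardComp (inv ψ) ψ ≪≫
      Scheme.Modules.pushforwardCongr (IsIso.inv_hom_id ψ) ≪≫ Scheme.Modules.pushforwardId X)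

instance : (Scheme.Modules.pushforward ψ).IsEquivalence :=
  inferInstanceAs (pushforwardEquivalence ψ).functor.IsEquivalence

/-- the unit `F ≅ ψ_* ψ^* F` for an isomorphism `ψ`. -/
noncomputable def unitIso (F : X.Modules) :
    F ≅ (Scheme.Modules.pushforward ψ).obj ((Scheme.Modules.pullback ψ).obj F) :=
  asIso ((Scheme.Modules.pullbackPushforwardAdjunction ψ).unit.app F)

/-- **Invariance of cohomology under isomorphisms of schemes.** -/
theorem nonempty_HH_equiv_of_iso (F : X.Modules) [F.IsQuasicoherent] (q : ℕ) :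
    Nonempty (Coh.HH X' ((Scheme.Modules.pullback ψ).obj F) q ≃+ Coh.HH X F q) := by
  have : ((Scheme.Modules.pullback ψ).obj F).IsQuasicoherent :=
    Groth.Agent.Lib.Helper16.FlatPull.isQuasicoherent_pullback ψ F
  obtain ⟨e⟩ := Groth.Agent.S0012.result ψ ((Scheme.Modules.pullback ψ).obj F) q
  exact ⟨e.trans (Groth.Agent.Lib.Helper17.HHIso.hhEquiv (unitIso ψ F).symm q)⟩

theorem subsingleton_HH_iff_of_iso (F : X.Modules) [F.IsQuasicoherent] (q : ℕ) :
    Subsingleton (Coh.HH X' ((Scheme.Modules.pullback ψ).obj F) q) ↔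
      Subsingleton (Coh.HH X F q) := by
  obtain ⟨e⟩ := nonempty_HH_equiv_of_iso ψ F q
  exact e.toEquiv.subsingleton_congr

end Groth.Agent.Lib.Helper83.HHIsoScheme
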