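import Groth.Agent.Lib.Helper83.AB5Seq
import Mathlib.CategoryTheory.Triangulated.HomologicalFunctor
import Mathlib.CategoryTheory.Triangulated.Triangulated
import Mathlib.CategoryTheory.Limits.Preserves.Shapes.Products

/-!
# Homological functors commuting with countable sums and homotopy colimits
-/

set_option autoImplicit false

universe v v' u u'

open CategoryTheory CategoryTheory.Limits

namespace Groth.Agent.Lib.Helper83.HocolimHom

open Groth.Agent.Lib.Helper83

section Additive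

variable {D : Type u} [Category.{v} D] [Preadditive D] {A : Type u'} [Category.{v'} A] [Abelian A]
  (G : D ⥤ A) [G.Additive]
  (K : ℕ → D) [HasCoproduct K] [PreservesColimit (Discrete.functor K) G] (f : ∀ n, K n ⟶ K (n + 1))

omit [Preadditive D] [G.Additive] in
lemma hasCoproduct_map : HasCoproduct (fun n => G.obj (K n)) :=
  ⟨⟨⟨_, isColimitOfHasCoproductOfPreservesColimit G K⟩⟩⟩

variable [HasCoproduct (fun n => G.obj (K n))]

/-- The comparison isomorphism `∐ G(Kₙ) ≅ G(∐ Kₙ)`. -/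
noncomputable def psi : (∐ fun n => G.obj (K n)) ≅ G.obj (∐ K) := (PreservesCoproduct.iso G K).symm

omit [Preadditive D] [G.Additive] in
lemma ι_psi_hom (n : ℕ) : Sigma.ι (fun n => G.obj (K n)) n ≫ (psi G K).hom = G.map (Sigma.ι K n) := by
  unfold psi
  rw [Iso.symm_hom, PreservesCoproduct.inv_hom, ι_comp_sigmaComparison]

lemma d_psi : AB5Seq.d (fun n => G.obj (K n)) (fun n => G.map (f n)) ≫ (psi G K).hom =
    (psi G K).hom ≫ G.map (𝟙 (∐ K) - DerLim.shiftMap K f) := by
  apply Sigma.hom_ext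
  intro n
  rw [← Category.assoc, AB5Seq.ι_d, Preadditive.sub_comp, Category.assoc, ι_psi_hom, ι_psi_hom,
    ← Category.assoc, ι_psi_hom, ← G.map_comp, ← G.map_comp, ← G.map_sub, Preadditive.comp_sub,
    Category.comp_id]
  congr 2
  unfold DerLim.shiftMap
  rw [Sigma.ι_desc]

lemma psi_inv_d : G.map (𝟙 (∐ K) - DerLim.shiftMap K f) ≫ (psi G K).inv =
    (psi G K).inv ≫ AB5Seq.d (fun n => G.obj (K n)) (fun n => G.map (f n)) := by
  rw [← cancel_mono (psi G K).hom, Category.assoc, Category.assoc, Iso.inv_hom_id, Category.comp_id,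
    d_psi, Iso.inv_hom_id_assoc]

/-- If `G` is additive and commutes with countable sums and `A` satisfies AB5 for `ℕ`, then
`G(1 - shift)` is a monomorphism. -/
theorem mono_map_one_sub_shiftMap [HasColimitsOfShape ℕ A] [HasExactColimitsOfShape ℕ A] :
    Mono (G.map (𝟙 (∐ K) - DerLim.shiftMap K f)) := by
  have h1 : Mono (AB5Seq.d (fun n => G.obj (K n)) (fun n => G.map (f n))) := AB5Seq.mono_d _ _
  have h2 : G.map (𝟙 (∐ K) - DerLim.shiftMap K f) =
      (psi G K).inv ≫ AB5Seq.d (fun n => G.obj (K n)) (fun n => G.map (f n)) ≫ (psi G K).hom := by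
    rw [d_psi, Iso.inv_hom_id_assoc]
  rw [h2]
  infer_instance

end Additive

end Groth.Agent.Lib.Helper83.HocolimHom

namespace Groth.Agent.Lib.Helper83.HocolimHom

open Groth.Agent.Lib.Helper83

section Main

open CategoryTheory.Pretriangulated

variable {D : Type u} [Category.{v} D] [Preadditive D] [HasZeroObject D] [HasShift D ℤ]
  [∀ n : ℤ, (shiftFunctor D n).Additive] [Pretriangulated D]
  [HasColimitsOfShape (Discrete ℕ) D]
  {A : Type u'} [Category.{v'} A] [Abelian A] [HasColimitsOfShape ℕ A]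
  [HasExactColimitsOfShape ℕ A]
  (H : D ⥤ A) [H.IsHomological] [PreservesColimitsOfShape (Discrete ℕ) H]
  (K : ℕ → D) (f : ∀ n, K n ⟶ K (n + 1)) {L : D} (i : ∀ n, K n ⟶ L)
  (c : L ⟶ (shiftFunctor D (1 : ℤ)).obj (∐ K))
  (hT : Triangle.mk (𝟙 (∐ K) - DerLim.shiftMap K f) (Sigma.desc i) c ∈ distTriang D)

include hT

lemma map_c_eq_zero : H.map c = 0 := by
  have h1 : c ≫ (𝟙 (∐ K) - DerLim.shiftMap K f)⟦(1 : ℤ)⟧' = 0 :=
    comp_distTriang_mor_zero₃₁ _ hT
  haveI := hasCoproduct_map (shiftFunctor D (1 : ℤ) ⋙ H) K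
  have h2 : Mono ((shiftFunctor D (1 : ℤ) ⋙ H).map (𝟙 (∐ K) - DerLim.shiftMap K f)) :=
    mono_map_one_sub_shiftMap (shiftFunctor D (1 : ℤ) ⋙ H) K f
  rw [Functor.comp_map] at h2
  rw [← cancel_mono (H.map ((𝟙 (∐ K) - DerLim.shiftMap K f)⟦(1 : ℤ)⟧')), ← H.map_comp, h1, H.map_zero,
    zero_comp]

lemma epi_map_desc : Epi (H.map (Sigma.desc i)) := by
  have h := H.map_distinguished_exact _ (rot_of_distTriang _ hT)
  exact h.epi_f (map_c_eq_zero H K f i c hT)

lemma map_d_map_desc : H.map (𝟙 (∐ K) - DerLim.shiftMap K f) ≫ H.map (Sigma.desc i) = 0 := by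
  rw [← H.map_comp]
  have h1 : (𝟙 (∐ K) - DerLim.shiftMap K f) ≫ Sigma.desc i = 0 :=
    comp_distTriang_mor_zero₁₂ _ hT
  rw [h1, H.map_zero]

/-- `H(L)` is the cokernel of `H(1 - shift)`. -/
noncomputable def isColimitMapDesc :
    IsColimit (CokernelCofork.ofπ (H.map (Sigma.desc i)) (map_d_map_desc H K f i c hT)) := by
  have h := H.map_distinguished_exact _ hT
  haveI : Epi ((shortComplexOfDistTriangle _ hT).map H).g := epi_map_desc H K f i c hT
  exact h.gIsCokernel

end Main

section Final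

open CategoryTheory.Pretriangulated

variable {D : Type u} [Category.{v} D] [Preadditive D] [HasZeroObject D] [HasShift D ℤ]
  [∀ n : ℤ, (shiftFunctor D n).Additive] [Pretriangulated D]
  [HasColimitsOfShape (Discrete ℕ) D]
  {A : Type u'} [Category.{v'} A] [Abelian A] [HasColimitsOfShape ℕ A]
  [HasExactColimitsOfShape ℕ A]
  (H : D ⥤ A) [H.IsHomological] [PreservesColimitsOfShape (Discrete ℕ) H]
  (K : ℕ → D) (f : ∀ n, K n ⟶ K (n + 1)) {L : D} (i : ∀ n, K n ⟶ L)

/-- A homological functor commuting with countable sums sends homotopy colimits to colimits. -/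
theorem colimit_iso (hL : DerLim.IsHocolim K f L i) :
    ∃ e : colimit (Functor.ofSequence (fun n => H.map (f n))) ≅ H.obj L,
      ∀ n : ℕ, colimit.ι (Functor.ofSequence (fun n => H.map (f n))) n ≫ e.hom = H.map (i n) := by
  obtain ⟨c, hT⟩ := hL
  haveI h1 : HasCoproduct (fun n => H.obj (K n)) := hasCoproduct_map H K
  haveI h2 : HasCoproduct (Functor.ofSequence (fun n => H.map (f n))).obj := h1
  have htr : AB5Seq.tr (Functor.ofSequence (fun n => H.map (f n))) = fun n => H.map (f n) := by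
    funext n
    exact Functor.ofSequence_map_homOfLE_succ _ n
  obtain ⟨e, he⟩ := AB5Seq.iso_of_cokernel (Functor.ofSequence (fun n => H.map (f n))) (psi H K)
    (H.map (𝟙 (∐ K) - DerLim.shiftMap K f)) (H.map (Sigma.desc i)) (map_d_map_desc H K f i c hT)
    (isColimitMapDesc H K f i c hT) (by rw [htr]; exact d_psi H K f)
  refine ⟨e, fun n => ?_⟩
  rw [he]
  calc _ = (Sigma.ι (fun n => H.obj (K n)) n ≫ (psi H K).hom) ≫ H.map (Sigma.desc i) :=
        (Category.assoc _ _ _).symm
    _ = H.map (Sigma.ι K n) ≫ H.map (Sigma.desc i) := by rw [ι_psi_hom]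
    _ = H.map (i n) := by rw [← H.map_comp, Sigma.ι_desc]

end Final

end Groth.Agent.Lib.Helper83.HocolimHom
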