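import Mathlib.CategoryTheory.Triangulated.Triangulated
import Mathlib.CategoryTheory.Category.Preorder
import Mathlib.Order.Monotone.Basic
import Mathlib.Algebra.BigOperators.Intervals
import Groth.Prelude.Def_DerLim

/-!
# Homotopy colimits of subsequences (helper83)
-/

set_option autoImplicit false
set_option linter.unusedSectionVars false
universe v u
open CategoryTheory CategoryTheory.Limits CategoryTheory.Pretriangulated

namespace Groth.Agent.Lib.Helper83.HSub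

variable {D : Type u} [Category.{v} D] [Preadditive D]

section Phi

variable (F : ℕ ⥤ D)

open Classical in
/-- The transition map `F m ⟶ F k`, extended by zero when `k < m`. -/
noncomputable def phi (m k : ℕ) : F.obj m ⟶ F.obj k :=
  if h : m ≤ k then F.map (homOfLE h) else 0

lemma phi_of_le {m k : ℕ} (h : m ≤ k) : phi F m k = F.map (homOfLE h) := by
  unfold phi
  rw [dif_pos h]

lemma phi_self (m : ℕ) : phi F m m = 𝟙 _ := by
  rw [phi_of_le F le_rfl]
  exact F.map_id _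

lemma phi_trans {m k l : ℕ} (h₁ : m ≤ k) (h₂ : k ≤ l) : phi F m k ≫ phi F k l = phi F m l := by
  rw [phi_of_le F h₁, phi_of_le F h₂, phi_of_le F (h₁.trans h₂), ← F.map_comp]
  rfl

end Phi


section Idx

variable (n : ℕ → ℕ) (hn : StrictMono n)

/-- The least index `i` with `m ≤ n i`. -/
noncomputable def idx (m : ℕ) : ℕ := Nat.find (⟨m, hn.le_apply⟩ : ∃ i, m ≤ n i)

lemma le_n_idx (m : ℕ) : m ≤ n (idx n hn m) := Nat.find_spec (⟨m, hn.le_apply⟩ : ∃ i, m ≤ n i)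

lemma idx_le {m i : ℕ} (h : m ≤ n i) : idx n hn m ≤ i := Nat.find_min' _ h

lemma idx_n (i : ℕ) : idx n hn (n i) = i := by
  apply le_antisymm (idx_le n hn le_rfl)
  by_contra h
  rw [not_le] at h
  have h1 := hn h
  have h2 := le_n_idx n hn (n i)
  omega

lemma idx_succ_of_lt {m : ℕ} (h : m < n (idx n hn m)) : idx n hn (m + 1) = idx n hn m :=
  le_antisymm (idx_le n hn h) (idx_le n hn ((Nat.le_succ m).trans (le_n_idx n hn (m + 1))))

lemma idx_n_succ (i : ℕ) : idx n hn (n i + 1) = i + 1 := by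
  apply le_antisymm (idx_le n hn (hn (Nat.lt_succ_self i)))
  by_contra h
  rw [not_le] at h
  have h1 : idx n hn (n i + 1) ≤ i := Nat.lt_succ_iff.mp h
  have h2 := hn.monotone h1
  have h3 := le_n_idx n hn (n i + 1)
  omega

lemma ne_n_idx_of_mem_Ioo {i k : ℕ} (h₁ : n i < k) (h₂ : k < n (i + 1)) : k ≠ n (idx n hn k) := by
  intro h
  rw [h] at h₁ h₂
  have h3 := hn.lt_iff_lt.mp h₁
  have h4 := hn.lt_iff_lt.mp h₂
  omega

end Idx


section Main

variable [HasZeroObject D] [HasShift D ℤ] [∀ n : ℤ, (shiftFunctor D n).Additive] [Pretriangulated D]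
variable (F : ℕ ⥤ D) (n : ℕ → ℕ) (hn : StrictMono n)
  [HasCoproduct (fun m : ℕ => F.obj m)] [HasCoproduct (fun i : ℕ => F.obj (n i))]

/-- The differential `1 - shift` of the full sequence. -/
noncomputable def dA : (∐ fun m : ℕ => F.obj m) ⟶ ∐ fun m : ℕ => F.obj m :=
  𝟙 _ - DerLim.shiftMap (fun m : ℕ => F.obj m) (fun m : ℕ => F.map (homOfLE (Nat.le_succ m)))

/-- The differential `1 - shift` of the subsequence. -/
noncomputable def dB : (∐ fun i : ℕ => F.obj (n i)) ⟶ ∐ fun i : ℕ => F.obj (n i) :=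
  𝟙 _ - DerLim.shiftMap (fun i : ℕ => F.obj (n i))
    (fun i : ℕ => F.map (homOfLE (hn.monotone (Nat.le_succ i))))

lemma ι_dA (m : ℕ) : Sigma.ι (fun m : ℕ => F.obj m) m ≫ dA F =
    Sigma.ι (fun m : ℕ => F.obj m) m - phi F m (m + 1) ≫ Sigma.ι (fun m : ℕ => F.obj m) (m + 1) := by
  unfold dA DerLim.shiftMap
  rw [Preadditive.comp_sub, Category.comp_id, Sigma.ι_desc, phi_of_le F (Nat.le_succ m)]

lemma ι_dB (i : ℕ) : Sigma.ι (fun i : ℕ => F.obj (n i)) i ≫ dB F n hn =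
    Sigma.ι (fun i : ℕ => F.obj (n i)) i -
      phi F (n i) (n (i + 1)) ≫ Sigma.ι (fun i : ℕ => F.obj (n i)) (i + 1) := by
  unfold dB DerLim.shiftMap
  rw [Preadditive.comp_sub, Category.comp_id, Sigma.ι_desc,
    phi_of_le F (hn.monotone (Nat.le_succ i))]

/-- Telescoping. -/
lemma tel {m N : ℕ} (h : m ≤ N) :
    (∑ k ∈ Finset.Ico m N, phi F m k ≫ Sigma.ι (fun m : ℕ => F.obj m) k) ≫ dA F =
      Sigma.ι (fun m : ℕ => F.obj m) m - phi F m N ≫ Sigma.ι (fun m : ℕ => F.obj m) N := by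
  induction N, h using Nat.le_induction with
  | base => simp [phi_self]
  | succ N h ih =>
    rw [Finset.sum_Ico_succ_top h, Preadditive.add_comp, ih, Category.assoc, ι_dA,
      Preadditive.comp_sub, ← Category.assoc, phi_trans F h (Nat.le_succ N)]
    abel


/-- The inclusion of the summands of the subsequence. -/
noncomputable def aMap : (∐ fun i : ℕ => F.obj (n i)) ⟶ ∐ fun m : ℕ => F.obj m :=
  Sigma.desc (fun i => Sigma.ι (fun m : ℕ => F.obj m) (n i))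

/-- The "spreading" map. -/
noncomputable def bMap : (∐ fun i : ℕ => F.obj (n i)) ⟶ ∐ fun m : ℕ => F.obj m :=
  Sigma.desc (fun i => ∑ k ∈ Finset.Ico (n i) (n (i + 1)),
    phi F (n i) k ≫ Sigma.ι (fun m : ℕ => F.obj m) k)

/-- Pushing each summand to the next member of the subsequence. -/
noncomputable def a'Map : (∐ fun m : ℕ => F.obj m) ⟶ ∐ fun i : ℕ => F.obj (n i) :=
  Sigma.desc (fun m => phi F m (n (idx n hn m)) ≫ Sigma.ι (fun i : ℕ => F.obj (n i)) (idx n hn m))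

/-- The retraction of `aMap`. -/
noncomputable def rMap : (∐ fun m : ℕ => F.obj m) ⟶ ∐ fun i : ℕ => F.obj (n i) :=
  Sigma.desc (fun m => if m = n (idx n hn m) then
    phi F m (n (idx n hn m)) ≫ Sigma.ι (fun i : ℕ => F.obj (n i)) (idx n hn m) else 0)

/-- The homotopy. -/
noncomputable def hMap : (∐ fun m : ℕ => F.obj m) ⟶ ∐ fun m : ℕ => F.obj m :=
  Sigma.desc (fun m => - ∑ k ∈ Finset.Ico m (n (idx n hn m)),
    phi F m k ≫ Sigma.ι (fun m : ℕ => F.obj m) k)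

omit [HasZeroObject D] [HasShift D ℤ] [∀ n : ℤ, (shiftFunctor D n).Additive] [Pretriangulated D]
  [HasCoproduct (fun m : ℕ => F.obj m)] in
lemma phi_ιB_of_eq {m i j : ℕ} (h : j = i) :
    phi F m (n j) ≫ Sigma.ι (fun i : ℕ => F.obj (n i)) j =
      phi F m (n i) ≫ Sigma.ι (fun i : ℕ => F.obj (n i)) i := by
  subst h
  rfl

lemma ι_a'Map_n (i : ℕ) : Sigma.ι (fun m : ℕ => F.obj m) (n i) ≫ a'Map F n hn =
    Sigma.ι (fun i : ℕ => F.obj (n i)) i := by
  unfold a'Map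
  rw [Sigma.ι_desc, phi_ιB_of_eq F n (idx_n n hn i), phi_self, Category.id_comp]

lemma ι_rMap_n (i : ℕ) : Sigma.ι (fun m : ℕ => F.obj m) (n i) ≫ rMap F n hn =
    Sigma.ι (fun i : ℕ => F.obj (n i)) i := by
  unfold rMap
  rw [Sigma.ι_desc, if_pos (by rw [idx_n]), phi_ιB_of_eq F n (idx_n n hn i), phi_self,
    Category.id_comp]

lemma ι_rMap_of_ne {m : ℕ} (h : m ≠ n (idx n hn m)) :
    Sigma.ι (fun m : ℕ => F.obj m) m ≫ rMap F n hn = 0 := by
  unfold rMap
  rw [Sigma.ι_desc, if_neg h]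

/-- (I1) -/
lemma dB_aMap : dB F n hn ≫ aMap F n = bMap F n ≫ dA F := by
  apply Sigma.hom_ext
  intro i
  rw [← Category.assoc, ι_dB, Preadditive.sub_comp, Category.assoc]
  unfold aMap bMap
  rw [Sigma.ι_desc, Sigma.ι_desc, Sigma.ι_desc_assoc, tel F (hn.monotone (Nat.le_succ i))]

/-- (I3a) -/
lemma bMap_rMap : bMap F n ≫ rMap F n hn = 𝟙 _ := by
  apply Sigma.hom_ext
  intro i
  unfold bMap
  rw [Sigma.ι_desc_assoc, Category.comp_id, Preadditive.sum_comp,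
    Finset.sum_eq_single (n i)]
  · rw [Category.assoc, ι_rMap_n, phi_self, Category.id_comp]
  · intro k hk hne
    rw [Finset.mem_Ico] at hk
    rw [Category.assoc, ι_rMap_of_ne F n hn
      (ne_n_idx_of_mem_Ioo n hn (lt_of_le_of_ne hk.1 (Ne.symm hne)) hk.2), comp_zero]
  · intro h
    exact absurd (Finset.mem_Ico.mpr ⟨le_rfl, hn (Nat.lt_succ_self i)⟩) h

/-- (I3b) -/
lemma aMap_a'Map : aMap F n ≫ a'Map F n hn = 𝟙 _ := by
  apply Sigma.hom_ext
  intro i
  unfold aMap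
  rw [Sigma.ι_desc_assoc, ι_a'Map_n, Category.comp_id]


lemma phi_succ_comp_sum (m N : ℕ) :
    phi F m (m + 1) ≫ ∑ k ∈ Finset.Ico (m + 1) N,
      phi F (m + 1) k ≫ Sigma.ι (fun m : ℕ => F.obj m) k =
    ∑ k ∈ Finset.Ico (m + 1) N, phi F m k ≫ Sigma.ι (fun m : ℕ => F.obj m) k := by
  rw [Preadditive.comp_sum]
  refine Finset.sum_congr rfl (fun k hk => ?_)
  rw [Finset.mem_Ico] at hk
  rw [← Category.assoc, phi_trans F (Nat.le_succ m) hk.1]

lemma ι_a'Map (m : ℕ) : Sigma.ι (fun m : ℕ => F.obj m) m ≫ a'Map F n hn =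
    phi F m (n (idx n hn m)) ≫ Sigma.ι (fun i : ℕ => F.obj (n i)) (idx n hn m) := by
  unfold a'Map
  rw [Sigma.ι_desc]

lemma ι_hMap (m : ℕ) : Sigma.ι (fun m : ℕ => F.obj m) m ≫ hMap F n hn =
    - ∑ k ∈ Finset.Ico m (n (idx n hn m)), phi F m k ≫ Sigma.ι (fun m : ℕ => F.obj m) k := by
  unfold hMap
  rw [Sigma.ι_desc]

/-- (I4a) -/
lemma a'Map_aMap : a'Map F n hn ≫ aMap F n = 𝟙 _ + hMap F n hn ≫ dA F := by
  apply Sigma.hom_ext
  intro m
  rw [← Category.assoc, ι_a'Map, Preadditive.comp_add, Category.comp_id, ← Category.assoc, ι_hMap,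
    Preadditive.neg_comp, tel F (le_n_idx n hn m), Category.assoc]
  unfold aMap
  rw [Sigma.ι_desc]
  abel

/-- (I2) -/
lemma dA_a'Map : dA F ≫ a'Map F n hn = rMap F n hn ≫ dB F n hn := by
  apply Sigma.hom_ext
  intro m
  rw [← Category.assoc, ι_dA, Preadditive.sub_comp, Category.assoc, ← Category.assoc _ (rMap F n hn)]
  by_cases hm : m = n (idx n hn m)
  · obtain ⟨i, rfl⟩ : ∃ i, m = n i := ⟨_, hm⟩
    rw [ι_a'Map_n, ι_rMap_n, ι_dB, ι_a'Map, phi_ιB_of_eq F n (idx_n_succ n hn i), ← Category.assoc,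
      phi_trans F (Nat.le_succ _) (hn (Nat.lt_succ_self i))]
  · have hlt : m < n (idx n hn m) := lt_of_le_of_ne (le_n_idx n hn m) hm
    rw [ι_rMap_of_ne F n hn hm, zero_comp, ι_a'Map, ι_a'Map,
      phi_ιB_of_eq F n (idx_succ_of_lt n hn hlt), ← Category.assoc,
      phi_trans F (Nat.le_succ _) hlt, sub_self]

/-- (I4b) -/
lemma rMap_bMap : rMap F n hn ≫ bMap F n = 𝟙 _ + dA F ≫ hMap F n hn := by
  apply Sigma.hom_ext
  intro m
  rw [Preadditive.comp_add, Category.comp_id, reassoc_of% (ι_dA F m),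
    Preadditive.sub_comp, Category.assoc, ι_hMap, ι_hMap]
  by_cases hm : m = n (idx n hn m)
  · obtain ⟨i, rfl⟩ : ∃ i, m = n i := ⟨_, hm⟩
    rw [reassoc_of% (ι_rMap_n F n hn i), idx_n, idx_n_succ, Finset.Ico_self, Finset.sum_empty, neg_zero, zero_sub,
      Preadditive.comp_neg, neg_neg, phi_succ_comp_sum]
    unfold bMap
    rw [Sigma.ι_desc, Finset.sum_eq_sum_Ico_succ_bot (hn (Nat.lt_succ_self i)), phi_self,
      Category.id_comp]
  · have hlt : m < n (idx n hn m) := lt_of_le_of_ne (le_n_idx n hn m) hm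
    rw [reassoc_of% (ι_rMap_of_ne F n hn hm), zero_comp, idx_succ_of_lt n hn hlt,
      Preadditive.comp_neg,
      phi_succ_comp_sum, Finset.sum_eq_sum_Ico_succ_bot hlt, phi_self, Category.id_comp]
    abel


/-- The homotopy colimit of a subsequence is isomorphic to the homotopy colimit of the sequence,
compatibly with the structure maps. -/
theorem hocolim_subsequence (L : D) (ι : ∀ m : ℕ, F.obj m ⟶ L)
    (hL : DerLim.IsHocolim (fun m : ℕ => F.obj m)
      (fun m : ℕ => F.map (homOfLE (Nat.le_succ m))) L ι)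
    (L' : D) (ι' : ∀ i : ℕ, F.obj (n i) ⟶ L')
    (hL' : DerLim.IsHocolim (fun i : ℕ => F.obj (n i))
      (fun i : ℕ => F.map (homOfLE (hn.monotone (Nat.le_succ i)))) L' ι') :
    ∃ e : L' ≅ L, ∀ i : ℕ, ι' i ≫ e.hom = ι (n i) := by
  obtain ⟨δ, hT₀⟩ := hL
  obtain ⟨δ', hT'₀⟩ := hL'
  have hT : Triangle.mk (dA F) (Sigma.desc ι) δ ∈ distTriang D := hT₀
  have hT' : Triangle.mk (dB F n hn) (Sigma.desc ι') δ' ∈ distTriang D := hT'₀
  obtain ⟨c, hc₂, hc₃⟩ : ∃ c : L' ⟶ L, Sigma.desc ι' ≫ c = aMap F n ≫ Sigma.desc ι ∧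
      δ' ≫ (bMap F n)⟦(1 : ℤ)⟧' = c ≫ δ :=
    complete_distinguished_triangle_morphism _ _ hT' hT (bMap F n) (aMap F n) (dB_aMap F n hn)
  obtain ⟨c', hc'₂, hc'₃⟩ : ∃ c' : L ⟶ L', Sigma.desc ι ≫ c' = a'Map F n hn ≫ Sigma.desc ι' ∧
      δ ≫ (rMap F n hn)⟦(1 : ℤ)⟧' = c' ≫ δ' :=
    complete_distinguished_triangle_morphism _ _ hT hT' (rMap F n hn) (a'Map F n hn)
      (dA_a'Map F n hn)
  have h1 : IsIso (c ≫ c') := by
    let φ₁ : Triangle.mk (dB F n hn) (Sigma.desc ι') δ' ⟶ Triangle.mk (dB F n hn) (Sigma.desc ι') δ' :=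
      { hom₁ := 𝟙 (∐ fun i : ℕ => F.obj (n i))
        hom₂ := 𝟙 (∐ fun i : ℕ => F.obj (n i))
        hom₃ := c ≫ c'
        comm₁ := by
          change dB F n hn ≫ 𝟙 (∐ fun i : ℕ => F.obj (n i)) =
            𝟙 (∐ fun i : ℕ => F.obj (n i)) ≫ dB F n hn
          rw [Category.comp_id, Category.id_comp]
        comm₂ := by
          change Sigma.desc ι' ≫ c ≫ c' = 𝟙 _ ≫ Sigma.desc ι'
          rw [reassoc_of% hc₂, hc'₂, reassoc_of% (aMap_a'Map F n hn), Category.id_comp]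
        comm₃ := by
          change δ' ≫ (𝟙 _)⟦(1 : ℤ)⟧' = (c ≫ c') ≫ δ'
          rw [Category.assoc, ← hc'₃, ← reassoc_of% hc₃, ← Functor.map_comp, bMap_rMap] }
    exact isIso₃_of_isIso₁₂ φ₁ hT' hT'
      (by change IsIso (𝟙 (∐ fun i : ℕ => F.obj (n i))); infer_instance)
      (by change IsIso (𝟙 (∐ fun i : ℕ => F.obj (n i))); infer_instance)
  have h2 : IsIso (c' ≫ c) := by
    have z1 : dA F ≫ Sigma.desc ι = 0 := comp_distTriang_mor_zero₁₂ _ hT
    have z2 : δ ≫ (dA F)⟦(1 : ℤ)⟧' = 0 := comp_distTriang_mor_zero₃₁ _ hT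
    let φ₂ : Triangle.mk (dA F) (Sigma.desc ι) δ ⟶ Triangle.mk (dA F) (Sigma.desc ι) δ :=
      { hom₁ := 𝟙 (∐ fun m : ℕ => F.obj m)
        hom₂ := 𝟙 (∐ fun m : ℕ => F.obj m)
        hom₃ := c' ≫ c
        comm₁ := by
          change dA F ≫ 𝟙 (∐ fun m : ℕ => F.obj m) = 𝟙 (∐ fun m : ℕ => F.obj m) ≫ dA F
          rw [Category.comp_id, Category.id_comp]
        comm₂ := by
          change Sigma.desc ι ≫ c' ≫ c = 𝟙 _ ≫ Sigma.desc ι
          rw [reassoc_of% hc'₂, hc₂, reassoc_of% (a'Map_aMap F n hn), Preadditive.add_comp,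
            Category.id_comp, Category.assoc, z1, comp_zero, add_zero]
        comm₃ := by
          change δ ≫ (𝟙 _)⟦(1 : ℤ)⟧' = (c' ≫ c) ≫ δ
          rw [Category.assoc, ← hc₃, ← reassoc_of% hc'₃, ← Functor.map_comp, rMap_bMap,
            Functor.map_add, Functor.map_comp, Preadditive.comp_add, reassoc_of% z2, zero_comp,
            add_zero] }
    exact isIso₃_of_isIso₁₂ φ₂ hT hT
      (by change IsIso (𝟙 (∐ fun m : ℕ => F.obj m)); infer_instance)
      (by change IsIso (𝟙 (∐ fun m : ℕ => F.obj m)); infer_instance)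
  have h3 : IsIso c := by
    have hr : c ≫ (c' ≫ inv (c ≫ c')) = 𝟙 _ := by
      rw [← Category.assoc, IsIso.hom_inv_id]
    have hl : (inv (c' ≫ c) ≫ c') ≫ c = 𝟙 _ := by
      rw [Category.assoc, IsIso.inv_hom_id]
    have heq : inv (c' ≫ c) ≫ c' = c' ≫ inv (c ≫ c') := by
      calc inv (c' ≫ c) ≫ c' = (inv (c' ≫ c) ≫ c') ≫ (c ≫ (c' ≫ inv (c ≫ c'))) := by
            rw [hr, Category.comp_id]
        _ = ((inv (c' ≫ c) ≫ c') ≫ c) ≫ (c' ≫ inv (c ≫ c')) := by simp only [Category.assoc]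
        _ = c' ≫ inv (c ≫ c') := by rw [hl, Category.id_comp]
    exact ⟨c' ≫ inv (c ≫ c'), hr, by rw [← heq]; exact hl⟩
  refine ⟨asIso c, fun i => ?_⟩
  have h4 : ι' i = Sigma.ι (fun i : ℕ => F.obj (n i)) i ≫ Sigma.desc ι' := by rw [Sigma.ι_desc]
  rw [asIso_hom, h4, Category.assoc, hc₂]
  unfold aMap
  rw [Sigma.ι_desc_assoc, Sigma.ι_desc]

end Main

end Groth.Agent.Lib.Helper83.HSub
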