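import Mathlib.Algebra.Homology.HomotopyCategory.KInjective
import Mathlib.Algebra.Homology.HomologicalComplexLimits
import Mathlib.CategoryTheory.Functor.OfSequence

/-!
# Sequential limits of K-injective complexes along termwise split epimorphisms
-/

set_option autoImplicit false

universe v u

open CategoryTheory CategoryTheory.Limits Opposite CochainComplex HomComplex

namespace Groth.Agent.Lib.Helper83.KInjLimit

variable {A : Type u} [Category.{v} A] [Abelian A]

/-- A cocycle from an acyclic complex to a K-injective complex is a coboundary. -/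
lemma exists_primitive {K L : CochainComplex A ℤ} (hK : K.Acyclic) [L.IsKInjective]
    (n' n m : ℤ) (h₁ : n' + 1 = n) (h₂ : n + 1 = m) (γ : Cochain K L n) (hγ : δ n m γ = 0) :
    ∃ η : Cochain K L n', δ n' n η = γ := by
  let z : Cocycle K L n := Cocycle.mk γ m h₂ hγ
  let φ : K ⟶ L⟦n⟧ := Cocycle.equivHomShift.symm z
  have h : Homotopy φ 0 := IsKInjective.homotopyZero φ hK
  obtain ⟨β, hβ⟩ := Cochain.equivHomotopy φ 0 h
  have hβ' : δ (-1) 0 β = Cochain.ofHom φ := by
    rw [hβ]; simp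
  have hz : (Cochain.ofHom φ).rightUnshift n (zero_add n) = γ := by
    have := congrArg Subtype.val (Cocycle.equivHomShift.apply_symm_apply z)
    exact this
  refine ⟨n.negOnePow • β.rightUnshift n' (by lia), ?_⟩
  rw [δ_units_smul, Cochain.δ_rightUnshift β n' (by lia) n 0 (zero_add n), smul_smul,
    Int.units_mul_self, one_smul, hβ', hz]

/-- One step of the construction of compatible null-homotopies. -/
lemma exists_next {K : CochainComplex A ℤ} (hK : K.Acyclic) {L₁ L₀ : CochainComplex A ℤ}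
    [L₁.IsKInjective] [L₀.IsKInjective] (p : L₁ ⟶ L₀) (hp : ∀ m, IsSplitEpi (p.f m))
    (f₁ : K ⟶ L₁) (α₀ : Cochain K L₀ (-1)) (hα₀ : δ (-1) 0 α₀ = Cochain.ofHom (f₁ ≫ p)) :
    ∃ α₁ : Cochain K L₁ (-1), δ (-1) 0 α₁ = Cochain.ofHom f₁ ∧
      α₁.comp (Cochain.ofHom p) (add_zero _) = α₀ := by
  obtain ⟨β, hβ⟩ := Cochain.equivHomotopy f₁ 0 (IsKInjective.homotopyZero f₁ hK)
  have hβ' : δ (-1) 0 β = Cochain.ofHom f₁ := by
    rw [hβ]; simp
  let γ : Cochain K L₀ (-1) := α₀ - β.comp (Cochain.ofHom p) (add_zero _)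
  have hγ : δ (-1) 0 γ = 0 := by
    rw [δ_sub, hα₀, δ_comp_ofHom, hβ', Cochain.ofHom_comp, sub_self]
  obtain ⟨η, hη⟩ := exists_primitive hK (-2) (-1) 0 (by lia) (by lia) γ hγ
  let η' : Cochain K L₁ (-2) := Cochain.mk (fun a b hab => η.v a b hab ≫ section_ (p.f b))
  have hη' : η'.comp (Cochain.ofHom p) (add_zero _) = η := by
    ext a b hab
    rw [Cochain.comp_zero_cochain_v, Cochain.ofHom_v, Cochain.mk_v, Category.assoc,
      IsSplitEpi.id, Category.comp_id]
  refine ⟨β + δ (-2) (-1) η', ?_, ?_⟩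
  · rw [δ_add, δ_δ, add_zero, hβ']
  · rw [Cochain.add_comp, ← δ_comp_ofHom, hη', hη]
    simp [γ]

section Tower

variable [HasLimitsOfShape ℕᵒᵖ A] (I : ℕᵒᵖ ⥤ CochainComplex A ℤ)
  (h1 : ∀ n : ℕ, (I.obj (op n)).IsKInjective)
  (h2 : ∀ (n : ℕ) (m : ℤ), IsSplitEpi ((I.map (homOfLE (Nat.le_succ n)).op).f m))
  {K : CochainComplex A ℤ} (hK : K.Acyclic) (f : K ⟶ limit I)

/-- The transition maps. -/
abbrev tr (n : ℕ) : I.obj (op (n + 1)) ⟶ I.obj (op n) := I.map (homOfLE (Nat.le_succ n)).op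

lemma π_tr (n : ℕ) : limit.π I (op (n + 1)) ≫ tr I n = limit.π I (op n) :=
  limit.w I (homOfLE (Nat.le_succ n)).op

/-- A null-homotopy (as a cochain) of the `n`-th component of `f`. -/
structure Sol (n : ℕ) where
  /-- the cochain -/
  α : Cochain K (I.obj (op n)) (-1)
  hα : δ (-1) 0 α = Cochain.ofHom (f ≫ limit.π I (op n))

include h1 hK in
lemma exists_sol_zero : Nonempty (Sol I f 0) := by
  have := h1 0
  obtain ⟨β, hβ⟩ := Cochain.equivHomotopy (f ≫ limit.π I (op 0)) 0
    (IsKInjective.homotopyZero (f ≫ limit.π I (op 0)) hK)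
  exact ⟨⟨β, by rw [hβ]; simp⟩⟩

include h1 h2 hK in
lemma exists_sol_succ (n : ℕ) (s : Sol I f n) :
    ∃ s' : Sol I f (n + 1), s'.α.comp (Cochain.ofHom (tr I n)) (add_zero _) = s.α := by
  have := h1 n
  have := h1 (n + 1)
  obtain ⟨α₁, h, h'⟩ := exists_next hK (tr I n) (h2 n) (f ≫ limit.π I (op (n + 1))) s.α
    (by rw [s.hα, Category.assoc, π_tr])
  exact ⟨⟨α₁, h⟩, h'⟩

/-- The compatible tower of null-homotopies. -/
noncomputable def sol : (n : ℕ) → Sol I f n
  | 0 => (exists_sol_zero I h1 hK f).some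
  | n + 1 => (exists_sol_succ I h1 h2 hK f n (sol n)).choose

lemma sol_comp (n : ℕ) :
    (sol I h1 h2 hK f (n + 1)).α.comp (Cochain.ofHom (tr I n)) (add_zero _) =
      (sol I h1 h2 hK f n).α :=
  (exists_sol_succ I h1 h2 hK f n (sol I h1 h2 hK f n)).choose_spec

/-- The limit in degree `q`. -/
noncomputable def isLimitEval (q : ℤ) :
    IsLimit ((HomologicalComplex.eval A (ComplexShape.up ℤ) q).mapCone (limit.cone I)) :=
  isLimitOfPreserves _ (limit.isLimit I)

/-- The cone of components of the tower of null-homotopies. -/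
noncomputable def solCone (a q : ℤ) (haq : a + (-1) = q) :
    Cone (I ⋙ HomologicalComplex.eval A (ComplexShape.up ℤ) q) where
  pt := K.X a
  π := NatTrans.ofOpSequence (F := (Functor.const ℕᵒᵖ).obj (K.X a))
    (G := I ⋙ HomologicalComplex.eval A (ComplexShape.up ℤ) q)
    (fun n => (sol I h1 h2 hK f n).α.v a q haq) (fun n => by
      have h := Cochain.congr_v (sol_comp I h1 h2 hK f n) a q haq
      rw [Cochain.comp_zero_cochain_v, Cochain.ofHom_v] at h
      change 𝟙 _ ≫ _ = _ ≫ (tr I n).f q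
      rw [Category.id_comp, h])

/-- The components of the assembled null-homotopy. -/
noncomputable def liftq (a q : ℤ) (haq : a + (-1) = q) : K.X a ⟶ (limit I).X q :=
  (isLimitEval I q).lift (solCone I h1 h2 hK f a q haq)

lemma liftq_π (a q : ℤ) (haq : a + (-1) = q) (n : ℕ) :
    liftq I h1 h2 hK f a q haq ≫ (limit.π I (op n)).f q = (sol I h1 h2 hK f n).α.v a q haq :=
  (isLimitEval I q).fac (solCone I h1 h2 hK f a q haq) (op n)

/-- The assembled null-homotopy. -/
noncomputable def αlim : Cochain K (limit I) (-1) :=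
  Cochain.mk (fun a q haq => liftq I h1 h2 hK f a q haq)

lemma αlim_comp (n : ℕ) :
    (αlim I h1 h2 hK f).comp (Cochain.ofHom (limit.π I (op n))) (add_zero _) =
      (sol I h1 h2 hK f n).α := by
  ext a q haq
  rw [Cochain.comp_zero_cochain_v, Cochain.ofHom_v]
  unfold αlim
  rw [Cochain.mk_v, liftq_π]

omit [HasLimitsOfShape ℕᵒᵖ A] in
lemma cochain_ext [HasLimitsOfShape ℕᵒᵖ A] {m : ℤ} (z₁ z₂ : Cochain K (limit I) m)
    (h : ∀ n : ℕ, z₁.comp (Cochain.ofHom (limit.π I (op n))) (add_zero _) =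
      z₂.comp (Cochain.ofHom (limit.π I (op n))) (add_zero _)) : z₁ = z₂ := by
  ext a b hab
  apply (isLimitEval I b).hom_ext
  intro j
  have := Cochain.congr_v (h j.unop) a b hab
  rw [Cochain.comp_zero_cochain_v, Cochain.comp_zero_cochain_v, Cochain.ofHom_v] at this
  exact this

lemma δ_αlim : δ (-1) 0 (αlim I h1 h2 hK f) = Cochain.ofHom f := by
  apply cochain_ext I
  intro n
  rw [← δ_comp_ofHom, αlim_comp, (sol I h1 h2 hK f n).hα, Cochain.ofHom_comp]

include h1 h2 in
/-- A sequential limit of K-injective complexes along termwise split epimorphisms is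
K-injective. -/
theorem isKInjective_limit : (limit I).IsKInjective where
  nonempty_homotopy_zero {K} f hK :=
    ⟨(Cochain.equivHomotopy f 0).symm ⟨αlim I h1 h2 hK f, by rw [δ_αlim]; simp⟩⟩

end Tower

end Groth.Agent.Lib.Helper83.KInjLimit
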