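import Groth.Agent.Lib.Helper83.KoszulMum
import Groth.Agent.Lib.Helper83.SerreClosed
import Groth.Agent.Lib.Helper49.ClosedImmUnit
import Groth.Agent.Lib.Helper11.CounitEpi
import Groth.Prelude.Def_Pic13

/-!
# Castelnuovo–Mumford regularity on closed subschemes of `P^n_k` (helper83)

Transfer along `i_*` for a closed immersion `i : X ⟶ P^n_k`.
-/

set_option autoImplicit false
set_option linter.style.haveILetI false
set_option linter.unusedSectionVars false
universe u
open AlgebraicGeometry CategoryTheory Limits TopologicalSpace Opposite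

namespace Groth.Agent.Lib.Helper83.KoszulClosed

open Groth.Agent.Lib.Helper38.TwistEquiv Groth.Agent.Lib.Helper38.SerreVanishPn
  Groth.Agent.Lib.Helper38.RegComplex Groth.Agent.Lib.Helper83.KoszulReg
  Groth.Agent.Lib.Helper83.KoszulMul Groth.Agent.Lib.Helper83.KoszulGG
  Groth.Agent.Lib.Helper83.KoszulRes Groth.Agent.Lib.Helper83.KoszulMum

variable {n : ℕ} {k : Type u} [Field k] {X : Scheme.{u}} (i : X ⟶ CohB1.ProjSpace n k)
  [IsClosedImmersion i]

/-- `i_*(F ⊗ i^* O(d)) ≅ (i_* F)(d)`. -/
noncomputable def pushTwistIso (F : X.Modules) (d : ℤ) :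
    (Coh.push i).obj (Pic13.twistOn k i F d) ≅ (tw n k d).obj ((Coh.push i).obj F) :=
  (asIso (Groth.Agent.Lib.Helper5.ProjFormula.projMap i F (Twist.twistProjSpace n k d))).symm

theorem isInvertible_pullback_twist (d : ℤ) :
    PicF.IsInvertible ((Scheme.Modules.pullback i).obj (Twist.twistProjSpace n k d)) :=
  Groth.Agent.Lib.Helper11.PullbackTensor.isInvertible_pullback i (isInvertible_twist d)

theorem isQuasicoherent_twistOn (F : X.Modules) (hF : F.IsQuasicoherent) (d : ℤ) :
    (Pic13.twistOn k i F d).IsQuasicoherent :=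
  haveI := hF
  Groth.Agent.Lib.Helper11.GenLocus.isQuasicoherent_tensorMod_of_isInvertible F _
    (isInvertible_pullback_twist i d)

theorem isCoh_twistOn (F : X.Modules) (hF : Coh.IsCoh F) (d : ℤ) :
    Coh.IsCoh (Pic13.twistOn k i F d) :=
  ⟨isQuasicoherent_twistOn i F hF.1 d,
    Groth.Agent.Lib.Helper11.GenLocus.isFiniteType_tensorMod_of_isInvertible F _ hF.2
      (isInvertible_pullback_twist i d)⟩

/-- `H^q(X, F(d)) = 0 ↔ H^q(P^n, (i_* F)(d)) = 0`. -/
theorem V_push_iff (F : X.Modules) (hF : F.IsQuasicoherent) (d : ℤ) (q : ℕ) :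
    Subsingleton (Coh.HH X (Pic13.twistOn k i F d) q) ↔ V n k ((Coh.push i).obj F) d q := by
  haveI : Coh.IsQCoh (Pic13.twistOn k i F d) := isQuasicoherent_twistOn i F hF d
  obtain ⟨e⟩ := Groth.Agent.S0012.result i (Pic13.twistOn k i F d) q
  constructor
  · intro h
    haveI : Subsingleton (Coh.HH (CohB1.ProjSpace n k)
        ((Coh.push i).obj (Pic13.twistOn k i F d)) q) := e.symm.toEquiv.subsingleton
    exact subsingleton_HH_of_iso k (pushTwistIso i F d).symm q inferInstance
  · intro h
    haveI : Subsingleton (Coh.HH (CohB1.ProjSpace n k)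
        ((Coh.push i).obj (Pic13.twistOn k i F d)) q) :=
      subsingleton_HH_of_iso k (pushTwistIso i F d) q h
    exact e.toEquiv.subsingleton

theorem reg_push_iff (F : X.Modules) (hF : F.IsQuasicoherent) (m : ℤ) :
    Pic13.IsMRegular k i F m ↔ Reg ((Coh.push i).obj F) m :=
  forall₂_congr fun q _ => V_push_iff i F hF (m - q) q

/-- **S12111 (i)** -/
theorem isMRegular_of_le (F : X.Modules) (hF : Coh.IsCoh F) (m m' : ℤ) (hm : m ≤ m')
    (h : Pic13.IsMRegular k i F m) : Pic13.IsMRegular k i F m' := by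
  have hpush := Groth.Agent.Lib.Helper83.SerreClosed.isCoh_push n k i F hF
  rw [reg_push_iff i F hF.1] at h ⊢
  exact reg_of_le _ hpush.1 m m' hm h

/-- **S12111 (ii)** -/
theorem isGloballyGenerated_twistOn (F : X.Modules) (hF : Coh.IsCoh F) (m : ℤ)
    (h : Pic13.IsMRegular k i F m) : Curv2.IsGloballyGenerated (Pic13.twistOn k i F m) := by
  have hpush := Groth.Agent.Lib.Helper83.SerreClosed.isCoh_push n k i F hF
  rw [reg_push_iff i F hF.1] at h
  have h1 : Curv2.IsGloballyGenerated ((tw n k m).obj ((Coh.push i).obj F)) :=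
    isGloballyGenerated_of_reg _ (isCoh_tw m _ hpush) (reg_tw _ m 0 (by rwa [add_zero]))
  have h2 : Curv2.IsGloballyGenerated ((Coh.push i).obj (Pic13.twistOn k i F m)) :=
    Groth.Agent.Lib.Helper11.CounitEpi.IsGloballyGenerated.of_iso (pushTwistIso i F m).symm h1
  have h3 := Groth.Agent.Lib.Helper11.CounitEpi.isGloballyGenerated_pullback i _ h2
  have hN := isCoh_twistOn i F hF m
  haveI := hN.1
  haveI := Groth.Agent.Lib.Helper49.ClosedImmUnit.isIso_counit_of_isFiniteType i
    (Pic13.twistOn k i F m) hN.2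
  exact Groth.Agent.Lib.Helper11.CounitEpi.IsGloballyGenerated.of_epi
    ((Scheme.Modules.pullbackPushforwardAdjunction i).counit.app (Pic13.twistOn k i F m))
    inferInstance h3

end Groth.Agent.Lib.Helper83.KoszulClosed
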