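import Groth.Agent.Lib.Helper45.EpiStalk
import Groth.Agent.Lib.Helper49.ClosedImmUnit
import Groth.Agent.Lib.Helper5.PushStalk

/-!
# Pushforward along a closed immersion is exact (helper83)

* `epi_push`: `i_*` preserves epimorphisms of `O`-modules for a closed immersion `i`.
* `shortExact_push`: `i_*` preserves short exact sequences.
-/

set_option autoImplicit false
set_option linter.style.haveILetI false
universe u
open AlgebraicGeometry CategoryTheory Limits TopologicalSpace Opposite

namespace Groth.Agent.Lib.Helper83.PushExact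

variable {X Y : Scheme.{u}} (i : X ⟶ Y) [IsClosedImmersion i]

theorem epi_push {A B : X.Modules} (φ : A ⟶ B) [Epi φ] :
    Epi ((Scheme.Modules.pushforward i).map φ) := by
  have hφ := (Groth.Agent.Lib.Helper45.epi_iff_isLocallySurjective φ).1 inferInstance
  rw [TopCat.Presheaf.isLocallySurjective_iff] at hφ
  rw [Groth.Agent.Lib.Helper45.epi_iff_isLocallySurjective,
    TopCat.Presheaf.isLocallySurjective_iff]
  intro U t y hy
  by_cases hyi : y ∈ Set.range i.base
  · obtain ⟨x, rfl⟩ := hyi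
    obtain ⟨W, hWU, ⟨s, hs⟩, hxW⟩ := hφ (i ⁻¹ᵁ U) t x hy
    obtain ⟨V, hV⟩ : ∃ V : Y.Opens, i ⁻¹ᵁ V = W := by
      obtain ⟨V₀, hV₀, hVW⟩ := i.isClosedEmbedding.isInducing.isOpen_iff.1 W.2
      exact ⟨⟨V₀, hV₀⟩, Opens.ext hVW⟩
    subst hV
    have hle : i ⁻¹ᵁ (V ⊓ U) ≤ i ⁻¹ᵁ V := fun z hz => hz.1
    refine ⟨V ⊓ U, inf_le_right, ⟨(A.presheaf.map (homOfLE hle).op).hom s, ?_⟩, ⟨hxW, hy⟩⟩
    have h1 : (φ.app (i ⁻¹ᵁ (V ⊓ U))).hom ((A.presheaf.map (homOfLE hle).op).hom s) =
        (B.presheaf.map (homOfLE hle).op).hom ((φ.app (i ⁻¹ᵁ V)).hom s) := by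
      have hnat := φ.mapPresheaf.naturality (homOfLE hle).op
      exact congrArg (fun k => k.hom s) hnat
    refine h1.trans ?_
    have h2 : (φ.app (i ⁻¹ᵁ V)).hom s = (B.presheaf.map (homOfLE hWU).op).hom t := hs
    rw [h2]
    exact Groth.Agent.Lib.Helper49.mres_mres B hle hWU t
  · have hcl : IsClosed (Set.range i.base) := i.isClosedEmbedding.isClosed_range
    let V : Y.Opens := U ⊓ ⟨(Set.range i.base)ᶜ, hcl.isOpen_compl⟩
    have hbot : i ⁻¹ᵁ V = ⊥ := by
      ext z
      simp only [V]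
      constructor
      · rintro ⟨-, hz⟩
        exact absurd ⟨z, rfl⟩ hz
      · intro hz
        exact absurd hz (by simp)
    refine ⟨V, inf_le_left, ⟨0, ?_⟩, ⟨hy, hyi⟩⟩
    haveI : Subsingleton Γ(B, i ⁻¹ᵁ V) :=
      Groth.Agent.Lib.Helper5.PushStalk.subsingleton_sections_of_eq_bot B hbot
    exact Subsingleton.elim (α := Γ(B, i ⁻¹ᵁ V)) _ _

instance : (Scheme.Modules.pushforward i).PreservesEpimorphisms where
  preserves φ _ := epi_push i φ

theorem shortExact_push {S : ShortComplex X.Modules} (hS : S.ShortExact) :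
    (S.map (Scheme.Modules.pushforward i)).ShortExact := by
  haveI := hS.mono_f
  haveI := hS.epi_g
  haveI : (Scheme.Modules.pushforward i).IsRightAdjoint :=
    (Scheme.Modules.pullbackPushforwardAdjunction i).isRightAdjoint
  haveI : PreservesFiniteLimits (Scheme.Modules.pushforward i) := inferInstance
  have hK : IsLimit (KernelFork.ofι S.f S.zero) := hS.exact.fIsKernel
  refine
    { exact := ?_
      mono_f := inferInstanceAs (Mono ((Scheme.Modules.pushforward i).map S.f))
      epi_g := epi_push i S.g }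
  exact (S.map (Scheme.Modules.pushforward i)).exact_of_f_is_kernel
    (KernelFork.mapIsLimit _ hK (Scheme.Modules.pushforward i))

end Groth.Agent.Lib.Helper83.PushExact
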