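import Groth.Agent.Lib.Helper83.KoszulClosed
import Groth.Agent.Lib.Helper83.PushExact

/-!
# Mumford's lemma on closed subschemes of `P^n_k` (helper83)
-/

set_option autoImplicit false
set_option linter.style.haveILetI false
set_option linter.unusedSectionVars false
universe u
open AlgebraicGeometry CategoryTheory Limits TopologicalSpace Opposite

namespace Groth.Agent.Lib.Helper83.KoszulClosedMum

open Groth.Agent.Lib.Helper38.TwistEquiv Groth.Agent.Lib.Helper38.SerreVanishPn
  Groth.Agent.Lib.Helper38.RegComplex Groth.Agent.Lib.Helper83.KoszulReg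
  Groth.Agent.Lib.Helper83.KoszulMul Groth.Agent.Lib.Helper83.KoszulGG
  Groth.Agent.Lib.Helper83.KoszulRes Groth.Agent.Lib.Helper83.KoszulMum
  Groth.Agent.Lib.Helper83.KoszulClosed Groth.Agent.Lib.Helper83.PushExact
  Groth.Agent.Lib.Helper83.LerayLin Groth.Agent.Lib.Helper17 Groth.Agent.Lib.Helper1

variable {n : ℕ} {k : Type u} [Field k] {X : Scheme.{u}} [X.Over (Spec (CommRingCat.of k))]
  (i : X ⟶ CohB1.ProjSpace n k) [IsClosedImmersion i]
  (hi : i ≫ CohB1.ProjSpace.toSpec n k = X ↘ Spec (CommRingCat.of k))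

include hi in
/-- the linear Leray isomorphism `H^p(X, N) ≃ H^p(P^n, i_* N)`. -/
theorem nonempty_linearEquiv (N : X.Modules) (hN : N.IsQuasicoherent) (p : ℕ) :
    Nonempty (Coh.HH X N p ≃ₗ[k] Coh.HH (CohB1.ProjSpace n k) ((Coh.push i).obj N) p) := by
  haveI : i.IsOver (Spec (CommRingCat.of k)) := ⟨hi⟩
  haveI := hN
  haveI : ((Coh.push i).obj N).IsQuasicoherent :=
    Groth.Agent.Lib.Helper49.isQuasicoherent_pushforward N i
  exact nonempty_linearEquiv_push i N (PnCech.U n k) k (PnVanish.iSup_U n k)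
    (fun _ a => PnVanish.isAffineOpen_iInf n k a)
    (fun m a q => subsingleton_HU_of_isAffineOpen N _
      ((PnVanish.isAffineOpen_iInf n k a).preimage i) q) p

include hi in
theorem finrank_eq (F : X.Modules) (hF : F.IsQuasicoherent) (d : ℤ) :
    Module.finrank k (Coh.HH X (Pic13.twistOn k i F d) 1) = a ((Coh.push i).obj F) d := by
  obtain ⟨e⟩ := nonempty_linearEquiv i hi _ (isQuasicoherent_twistOn i F hF d) 1
  exact (e ≪≫ₗ HHlinEquiv k (pushTwistIso i F d) 1).finrank_eq

include hi in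
/-- **S12112 (general form)**. -/
theorem mumford_closed (F G : X.Modules) (hF : Coh.IsCoh F) (hG : Coh.IsCoh G)
    (f : Pic13.twistOn k i F (-1) ⟶ F) (g : F ⟶ G) (hfg : f ≫ g = 0)
    (hS : (ShortComplex.mk f g hfg).ShortExact) (m : ℤ) (hGm : Pic13.IsMRegular k i G m) :
    (∀ (q : ℕ) (n' : ℤ), 2 ≤ q → m - q ≤ n' →
      Subsingleton (Coh.HH X (Pic13.twistOn k i F n') q)) ∧
    (∀ n' : ℤ, m - 1 ≤ n' →
      Module.finrank k (Coh.HH X (Pic13.twistOn k i F n') 1) ≤
        Module.finrank k (Coh.HH X (Pic13.twistOn k i F (n' - 1)) 1)) ∧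
    (∀ n' : ℤ, (m - 1) + (Module.finrank k (Coh.HH X (Pic13.twistOn k i F (m - 1)) 1) : ℤ) ≤ n' →
      Subsingleton (Coh.HH X (Pic13.twistOn k i F n') 1)) ∧
    Pic13.IsMRegular k i F (m + Module.finrank k (Coh.HH X (Pic13.twistOn k i F (m - 1)) 1)) := by
  have hM : Coh.IsCoh ((Coh.push i).obj F) :=
    Groth.Agent.Lib.Helper83.SerreClosed.isCoh_push n k i F hF
  have hPG : Coh.IsCoh ((Coh.push i).obj G) :=
    Groth.Agent.Lib.Helper83.SerreClosed.isCoh_push n k i G hG
  have hS' := shortExact_push i hS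
  haveI : Mono ((Coh.push i).map f) := hS'.mono_f
  haveI : Epi ((Coh.push i).map g) := hS'.epi_g
  let ι' : (tw n k (-1)).obj ((Coh.push i).obj F) ⟶ (Coh.push i).obj F :=
    (pushTwistIso i F (-1)).inv ≫ (Coh.push i).map f
  haveI : Mono ι' := mono_comp _ _
  have hcok : IsColimit (CokernelCofork.ofπ ((Coh.push i).map g)
      ((ShortComplex.mk f g hfg).map (Coh.push i)).zero) := by
    haveI : Epi ((ShortComplex.mk f g hfg).map (Scheme.Modules.pushforward i)).g := hS'.epi_g
    exact hS'.exact.gIsCokernel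
  let e : cokernel ι' ≅ (Coh.push i).obj G :=
    cokernelEpiComp (pushTwistIso i F (-1)).inv ((Coh.push i).map f) ≪≫
      IsColimit.coconePointUniqueUpToIso (cokernelIsCokernel ((Coh.push i).map f)) hcok
  have hregG : Reg (cokernel ι') m := reg_of_iso e m ((reg_push_iff i G hG.1 m).1 hGm)
  have hGq : (cokernel ι').IsQuasicoherent :=
    Groth.Agent.Lib.Helper49.isQuasicoherent_of_iso e.symm hPG.1
  have hfin : ∀ d : ℤ, Module.finrank k (Coh.HH X (Pic13.twistOn k i F d) 1) =
      a ((Coh.push i).obj F) d := fun d => finrank_eq i hi F hF.1 d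
  refine ⟨fun q n' hq hn' => (V_push_iff i F hF.1 n' q).2
      (part_i _ ι' hM hGq m hregG q hq n' hn'), fun n' hn' => ?_, fun n' hn' => ?_, ?_⟩
  · rw [hfin, hfin]
    exact a_le _ ι' hM hGq m hregG n' hn'
  · rw [hfin] at hn'
    exact (V_push_iff i F hF.1 n' 1).2 (part_iii _ ι' hM hGq m hregG n' hn')
  · rw [hfin, reg_push_iff i F hF.1]
    exact part_iv _ ι' hM hGq m hregG

end Groth.Agent.Lib.Helper83.KoszulClosedMum
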