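import Groth.Agent.Lib.Helper83.KoszulMul
import Groth.Agent.Lib.Helper17.TwistAmple2
import Groth.Agent.Lib.Helper17.VeryAmpleAmple

/-!
# Global generation of regular modules (helper83)

* `genOn_of_tensor`: if `G ⊗ N` (`N` invertible) is generated by its global sections and every
  global section of `G ⊗ N` is a sum of pure tensors of global sections, then `G` is generated
  by its global sections.
* `isGloballyGenerated_of_reg`: a `0`-regular coherent module on `P^n_k` is globally generated.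
-/

set_option autoImplicit false
set_option linter.style.haveILetI false
set_option linter.unusedSectionVars false
universe u
open AlgebraicGeometry CategoryTheory Limits TopologicalSpace Opposite

namespace Groth.Agent.Lib.Helper83.KoszulGG

open Groth.Agent.Lib.Helper45 Groth.Agent.Lib.Helper49 Groth.Agent.Lib.Helper11.GenLocus
  Groth.Agent.Lib.Helper11.TensorMap Groth.Agent.Lib.Helper38.MulBySection
  Groth.Agent.Lib.Helper38.TwistEquiv Groth.Agent.Lib.Helper83.KoszulAbs
  Groth.Agent.Lib.Helper83.KoszulMod Groth.Agent.Lib.Helper38.SerreVanishPn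
  Groth.Agent.Lib.Helper83.KoszulPn Groth.Agent.Lib.Helper38.RegComplex
  Groth.Agent.Lib.Helper83.KoszulReg Groth.Agent.Lib.Helper83.KoszulMul

section general

variable {X : Scheme.{u}}

theorem genOn_of_tensor (G N : X.Modules) (hN : PicF.IsInvertible N)
    (hgen : GenOn (CohB1.tensorMod G N) ⊤)
    (hT : ∀ t : Γ(CohB1.tensorMod G N, ⊤),
      t ∈ AddSubgroup.closure {u | ∃ (g : Γ(G, ⊤)) (p : Γ(N, ⊤)), u = tm G N ⊤ g p}) :
    GenOn G ⊤ := by
  intro V _ a x hx
  obtain ⟨V₁, hxV₁, τ, hτ⟩ := exists_isBasisOn_of_isInvertible hN x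
  have hx0 : x ∈ V ⊓ V₁ := ⟨hx, hxV₁⟩
  obtain ⟨W, hWW₀, hxW, hmem⟩ := hgen (V ⊓ V₁) le_top
    (tm G N (V ⊓ V₁) (mres G inf_le_left a) (mres N inf_le_right τ)) x hx0
  refine ⟨W, hWW₀.trans inf_le_left, hxW, ?_⟩
  have hWV₁ : W ≤ V₁ := hWW₀.trans inf_le_right
  -- the linear map `m ↦ m ⊗ τ|_W`
  let Λ : Γ(G, W) →ₗ[Γ(X, W)] Γ(CohB1.tensorMod G N, W) :=
    { toFun := fun m => tm G N W m (mres N hWV₁ τ)
      map_add' := fun m m' => tm_add_left G N W m m' _
      map_smul' := fun r m => tm_smul_left G N W r m _ }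
  have hspan : Submodule.span Γ(X, W) (Set.range fun t : Γ(CohB1.tensorMod G N, ⊤) =>
      mres (CohB1.tensorMod G N) (le_top : W ≤ ⊤) t) ≤
      (Submodule.span Γ(X, W) (Set.range fun t : Γ(G, ⊤) =>
        mres G (le_top : W ≤ ⊤) t)).map Λ := by
    rw [Submodule.span_le]
    rintro _ ⟨t, rfl⟩
    refine AddSubgroup.closure_induction (p := fun t _ =>
      mres (CohB1.tensorMod G N) (le_top : W ≤ ⊤) t ∈
        ((Submodule.span Γ(X, W) (Set.range fun t : Γ(G, ⊤) =>
          mres G (le_top : W ≤ ⊤) t)).map Λ : Set _)) ?_ ?_ ?_ ?_ (hT t)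
    · rintro _ ⟨g, p, rfl⟩
      obtain ⟨f, hf⟩ := (hτ W hWV₁).2 (mres N (le_top : W ≤ ⊤) p)
      simp only at hf
      rw [tm_res, ← hf, tm_smul_right, ← tm_smul_left]
      exact ⟨f • mres G (le_top : W ≤ ⊤) g,
        Submodule.smul_mem _ f (Submodule.subset_span ⟨g, rfl⟩), rfl⟩
    · rw [map_zero]
      exact Submodule.zero_mem _
    · intro a b _ _ ha hb
      rw [map_add]
      exact Submodule.add_mem _ ha hb
    · intro a _ ha
      rw [map_neg]
      exact Submodule.neg_mem _ ha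
  obtain ⟨m, hm, hmb⟩ := hspan hmem
  have h1 : mres (CohB1.tensorMod G N) hWW₀
      (tm G N (V ⊓ V₁) (mres G inf_le_left a) (mres N inf_le_right τ)) =
      tm G N W (mres G (hWW₀.trans inf_le_left) a) (mres N hWV₁ τ) := by
    rw [tm_res, mres_mres, mres_mres]
  have hinj := (tm_basis_bijective G N V₁ τ hτ W hWV₁).1
  have h2 : m = mres G (hWW₀.trans inf_le_left) a := hinj (hmb.trans h1)
  rw [← h2]
  exact hm

end general

variable {n : ℕ} {k : Type u} [Field k]

/-- `O(1)^{⊗ N} ≅ O(N)`. -/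
theorem nonempty_tensorPow_iso (N : ℕ) :
    Nonempty (CohB1.tensorPow (Twist.twistProjSpace n k 1) N ≅
      Twist.twistProjSpace n k (N : ℤ)) := by
  induction N with
  | zero => exact ⟨(twistZeroIso n k).symm⟩
  | succ N ih =>
    obtain ⟨e⟩ := ih
    refine ⟨tensorModCongr e (Iso.refl _) ≪≫ twistTensorIso n k (N : ℤ) 1 ≪≫ eqToIso ?_⟩
    congr 1

instance : CompactSpace (CohB1.ProjSpace n k) :=
  Groth.Agent.Lib.Helper17.VeryAmpleAmple.compactSpace_projSpace n k

instance : CompactSpace (Proj (CohB1.polyGrading n k)) :=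
  Groth.Agent.Lib.Helper17.VeryAmpleAmple.compactSpace_projSpace n k

theorem isAmple_L1 : CohB1.IsAmple (Twist.twistProjSpace n k 1) :=
  Groth.Agent.Lib.Helper17.TwistAmple.isAmple_twist_of_cover (CohB1.polyGrading n k)
    (Groth.Agent.Lib.Helper17.FinCoh.iSup_basicOpen_deg_one n k) 1 one_pos

/-- **S1647 (general form)**: a `0`-regular coherent module on `P^n_k` is generated by its global
sections. -/
theorem genOn_of_reg (G : (CohB1.ProjSpace n k).Modules) (hG : Coh.IsCoh G) (hreg : Reg G 0) :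
    GenOn G ⊤ := by
  obtain ⟨n₀, hn₀⟩ := Groth.Agent.Lib.Helper11.GenLocus.eventually_genOn_top
    (CohB1.ProjSpace n k) _ isAmple_L1 G hG
  obtain ⟨e⟩ := nonempty_tensorPow_iso (n := n) (k := k) n₀
  have hgen : GenOn (CohB1.tensorMod G (Twist.twistProjSpace n k (n₀ : ℤ))) ⊤ :=
    (hn₀ n₀ le_rfl).of_iso (tensorModCongr (Iso.refl G) e)
  refine genOn_of_tensor G _ (isInvertible_twist (n₀ : ℤ)) hgen (fun t => ?_)
  have h1 := mem_tensRange G hG.1 hreg n₀ (n₀ : ℤ) rfl t
  refine tensRange_le G _ _ (fun g p => ?_) h1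
  exact AddSubgroup.subset_closure ⟨g, p, rfl⟩

theorem isGloballyGenerated_of_reg (G : (CohB1.ProjSpace n k).Modules) (hG : Coh.IsCoh G)
    (hreg : Reg G 0) : Curv2.IsGloballyGenerated G :=
  Groth.Agent.Lib.Helper11.GenLocus.isGloballyGenerated_of_genOn_top (genOn_of_reg G hG hreg)

end Groth.Agent.Lib.Helper83.KoszulGG
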