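import Groth.Agent.Lib.Helper83.KoszulRes
import Groth.Agent.Lib.Helper17.HHLinFunct

/-!
# Mumford's lemma on hyperplane-type sequences (helper83)

For `0 → F(-1) → F → G → 0` on `P^n_k` with `G` `m`-regular.
-/

set_option autoImplicit false
set_option linter.style.haveILetI false
set_option linter.unusedSectionVars false
universe u w
open AlgebraicGeometry CategoryTheory Limits TopologicalSpace Opposite

namespace Groth.Agent.Lib.Helper83.KoszulMum

open Groth.Agent.Lib.Helper45 Groth.Agent.Lib.Helper49 Groth.Agent.Lib.Helper11.GenLocus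
  Groth.Agent.Lib.Helper11.TensorMap Groth.Agent.Lib.Helper38.MulBySection
  Groth.Agent.Lib.Helper38.TwistEquiv Groth.Agent.Lib.Helper83.KoszulAbs
  Groth.Agent.Lib.Helper83.KoszulMod Groth.Agent.Lib.Helper38.SerreVanishPn
  Groth.Agent.Lib.Helper83.KoszulPn Groth.Agent.Lib.Helper38.RegComplex
  Groth.Agent.Lib.Helper83.KoszulReg Groth.Agent.Lib.Helper83.KoszulMul
  Groth.Agent.Lib.Helper83.KoszulGG Groth.Agent.Lib.Helper83.KoszulRes
  Groth.Agent.Lib.Helper17.HHLinLES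

section general

variable (A : Type u) [CommRing A] {X : Scheme.{u}} [X.Over (Spec (CommRingCat.of A))]

/-- the linear equivalence on cohomology induced by an isomorphism of modules. -/
noncomputable def HHlinEquiv {M N : X.Modules} (e : M ≅ N) (i : ℕ) :
    Coh.HH X M i ≃ₗ[A] Coh.HH X N i :=
  LinearEquiv.ofLinearMap (Canon.HHlin A e.hom i) (Canon.HHlin A e.inv i)
    (by rw [← HHlin_comp, e.inv_hom_id, HHlin_id])
    (by rw [← HHlin_comp, e.hom_inv_id, HHlin_id])

open Abelian Groth.Agent.Lib.Helper5 Groth.Agent.Lib.Helper1 in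
/-- `H^i(X₃) = 0` implies `H^i(X₁) → H^i(X₂)` surjective. -/
theorem HHlin_surjective_of_subsingleton {S : ShortComplex X.Modules} (hS : S.ShortExact) (i : ℕ)
    (h3 : Subsingleton (Coh.HH X S.X₃ i)) : Function.Surjective (Canon.HHlin A S.f i) := by
  have hS' := shortExact_map_toAbF hS
  intro x
  let x' : Ext (Groth.Agent.S0459.cZ X.toTopCat) (S.map (toAbF X)).X₂ i := x
  obtain ⟨x₁, hx₁⟩ := Ext.covariant_sequence_exact₂ _ hS' x' (h3.elim _ _)
  exact ⟨x₁, hx₁⟩

/-- sections of `B` over `⊤` lift along `φ`. -/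
def Surj0 {M N : X.Modules} (φ : M ⟶ N) : Prop :=
  ∀ t : Γ(N, ⊤), ∃ s : Γ(M, ⊤), φ.app ⊤ s = t

open Abelian Groth.Agent.Lib.Helper5 Groth.Agent.Lib.Helper1 in
/-- `Γ(X₂) → Γ(X₃)` surjective iff `H¹(X₁) → H¹(X₂)` injective. -/
theorem injective_HHlin_iff_surj0 {S : ShortComplex X.Modules} (hS : S.ShortExact) :
    Function.Injective (Canon.HHlin A S.f 1) ↔ Surj0 S.g := by
  have hS' := shortExact_map_toAbF hS
  constructor
  · intro hinj t
    have hk := Groth.Agent.S0462.bdry_ker (X := X.toTopCat) hS'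
    let t' : (S.map (toAbF X)).X₃.obj.obj (op ⊤) := t
    have h0 : Canon.HHlin A S.f 1
        (show Coh.HH X S.X₁ 1 from Groth.Agent.S0462.bdry (X := X.toTopCat) hS' t') = 0 := by
      change ((Ext.mk₀ ((Groth.Agent.S0462.γAdd (X := X.toTopCat)
        (S.map (toAbF X)).X₃).symm t')).comp hS'.extClass (rfl : 0 + 1 = 1)).comp
          (Ext.mk₀ (S.map (toAbF X)).f) (add_zero 1) = 0
      rw [Ext.comp_assoc_of_third_deg_zero, hS'.extClass_comp, Ext.comp_zero]
    have ht : t' ∈ (Groth.Agent.S0462.bdry (X := X.toTopCat) hS').ker := by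
      rw [AddMonoidHom.mem_ker]
      exact hinj (h0.trans (map_zero (Canon.HHlin A S.f 1)).symm)
    rw [hk] at ht
    obtain ⟨s, hs⟩ := ht
    exact ⟨s, hs⟩
  · intro hsurj
    rw [injective_iff_map_eq_zero]
    intro x hx
    let x' : Ext (Groth.Agent.S0459.cZ X.toTopCat) (S.map (toAbF X)).X₁ (0 + 1) := x
    obtain ⟨x₃, hx₃⟩ := Ext.covariant_sequence_exact₁ _ hS' x' hx rfl
    obtain ⟨ψ, rfl⟩ := (Ext.mk₀_bijective _ _).2 x₃
    obtain ⟨s, hs⟩ := hsurj (Groth.Agent.S0462.γAdd (X := X.toTopCat) (S.map (toAbF X)).X₃ ψ)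
    have hφ : ∃ φ : Groth.Agent.S0459.cZ X.toTopCat ⟶ (S.map (toAbF X)).X₂,
        φ ≫ (S.map (toAbF X)).g = ψ := by
      refine ⟨(Groth.Agent.S0462.γAdd (X := X.toTopCat) (S.map (toAbF X)).X₂).symm s, ?_⟩
      rw [← Groth.Agent.S0462.γAdd_symm_naturality]
      apply (Groth.Agent.S0462.γAdd (X := X.toTopCat) (S.map (toAbF X)).X₃).injective
      rw [AddEquiv.apply_symm_apply]
      exact hs
    have h0 := (extBoundary₀_eq_zero_iff hS' _ ψ).2 hφ
    rw [extBoundary₀_apply] at h0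
    exact hx₃.symm.trans h0

omit [X.Over (Spec (CommRingCat.of A))] in
theorem surj0_of_iso_square {M N M' N' : X.Modules} (φ : M ⟶ N) (φ' : M' ⟶ N') (α : M ≅ M')
    (β : N ≅ N') (w : φ ≫ β.hom = α.hom ≫ φ') (h : Surj0 φ) : Surj0 φ' := by
  intro t
  obtain ⟨s₀, hs₀⟩ := h ((β.inv.app ⊤).hom t)
  refine ⟨(α.hom.app ⊤).hom s₀, ?_⟩
  have h1 : (φ'.app ⊤).hom ((α.hom.app ⊤).hom s₀) = (β.hom.app ⊤).hom ((φ.app ⊤).hom s₀) :=
    (congrArg (fun ψ => (Scheme.Modules.Hom.app ψ ⊤).hom s₀) w).symm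
  have h2 : (β.hom.app ⊤).hom ((β.inv.app ⊤).hom t) = t :=
    congrArg (fun ψ => (Scheme.Modules.Hom.app ψ ⊤).hom t) β.inv_hom_id
  exact h1.trans ((congrArg _ hs₀).trans h2)

end general

section Pn

variable {n : ℕ} {k : Type u} [Field k]

/-- multiplication: `Γ(A) → Γ(B)` surjective with `B` `0`-regular implies `Γ(A(1)) → Γ(B(1))`
surjective. -/
theorem surj0_E {A B : (CohB1.ProjSpace n k).Modules} (q : A ⟶ B) (hB : B.IsQuasicoherent)
    (hreg : Reg B 0) (hq : Surj0 q) : Surj0 ((E n k).map q) := by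
  intro u
  have hle : mulRange B ≤
      ((gammaTop (CohB1.ProjSpace n k)).map ((E n k).map q)).hom.range := by
    refine iSup₂_le fun c hc => ?_
    rintro _ ⟨w, rfl⟩
    obtain ⟨v₀, hv₀⟩ := hq w
    refine ⟨((gammaTop (CohB1.ProjSpace n k)).map ((y n k c).app A)).hom v₀, ?_⟩
    have hnat := (y n k c).naturality q
    have h2 := congrArg (fun φ => ((gammaTop (CohB1.ProjSpace n k)).map φ).hom v₀) hnat
    simp only [Functor.map_comp] at h2
    refine h2.symm.trans ?_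
    exact congrArg (((gammaTop (CohB1.ProjSpace n k)).map ((y n k c).app B)).hom) hv₀
  obtain ⟨s, hs⟩ := hle (mem_mulRange B hB hreg u)
  exact ⟨s, hs⟩

theorem V_of_tw (F : (CohB1.ProjSpace n k).Modules) (a b c : ℤ) (q : ℕ) (hc : a + b = c)
    (h : V n k ((tw n k a).obj F) b q) : V n k F c q := by
  subst hc
  exact subsingleton_HH_of_iso k ((twAddIso a b).app F).symm q h

theorem isCoh_tw (j : ℤ) (F : (CohB1.ProjSpace n k).Modules) (hF : Coh.IsCoh F) :
    Coh.IsCoh ((tw n k j).obj F) :=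
  ⟨isQuasicoherent_tw j F hF.1,
    Groth.Agent.Lib.Helper11.GenLocus.isFiniteType_tensorMod_of_isInvertible F _ hF.2
      (isInvertible_twist j)⟩

section Mumford

variable (F : (CohB1.ProjSpace n k).Modules) (ι : (tw n k (-1)).obj F ⟶ F) [Mono ι]

/-- the sequence `0 → F(-1) → F → G → 0`. -/
noncomputable def S : ShortComplex (CohB1.ProjSpace n k).Modules :=
  ShortComplex.mk ι (cokernel.π ι) (cokernel.condition ι)

theorem hS : (S F ι).ShortExact :=
  { exact := ShortComplex.exact_of_g_is_cokernel _ (cokernelIsCokernel ι)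
    mono_f := inferInstanceAs (Mono ι)
    epi_g := inferInstanceAs (Epi (cokernel.π ι)) }

/-- the twisted sequence `0 → F(-1)(j) → F(j) → G(j) → 0`. -/
noncomputable abbrev Sj (j : ℤ) : ShortComplex (CohB1.ProjSpace n k).Modules :=
  (S F ι).map (tw n k j)

theorem hSj (j : ℤ) : (Sj F ι j).ShortExact := shortExact_tw n k j (hS F ι)

/-- `F(-1)(j) ≅ F(j-1)`. -/
noncomputable def e1 (j : ℤ) : (Sj F ι j).X₁ ≅ (tw n k (j - 1)).obj F :=
  (twAddIso (-1) j).app F ≪≫ eqToIso (by rw [show (-1 : ℤ) + j = j - 1 by ring])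

/-- `a(j) = h¹(F(j))`. -/
noncomputable def a (j : ℤ) : ℕ :=
  Module.finrank k (Coh.HH (CohB1.ProjSpace n k) ((tw n k j).obj F) 1)

variable (hF : Coh.IsCoh F) (hGq : (cokernel ι).IsQuasicoherent) (m : ℤ)
  (hG : Reg (cokernel ι) m)

include hF hGq hG in
/-- (i) `H^i(F(j)) = 0` for `i ≥ 2`, `j ≥ m - i`. -/
theorem part_i (i : ℕ) (hi : 2 ≤ i) (j : ℤ) (hj : m - i ≤ j) : V n k F j i := by
  obtain ⟨d₀, hd₀⟩ := serre_vanishing n k F hF
  obtain ⟨i', rfl⟩ : ∃ i', i = i' + 2 := ⟨i - 2, by omega⟩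
  suffices H : ∀ t : ℕ, ∀ j : ℤ, m - ((i' + 2 : ℕ) : ℤ) ≤ j → d₀ ≤ j + t → V n k F j (i' + 2) by
    exact H (d₀ - j).toNat j hj (by omega)
  intro t
  induction t with
  | zero =>
    intro j _ h
    exact hd₀ j (by simpa using h) (i' + 2) (by omega)
  | succ t ih =>
    intro j hj h
    have h2 : V n k F (j + 1) (i' + 2) := ih (j + 1) (by omega) (by push_cast at h ⊢; omega)
    have h3 : V n k (cokernel ι) (j + 1) (i' + 1) := by
      have := reg_of_le (cokernel ι) hGq m (j + 1 + ((i' + 1 : ℕ) : ℤ))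
        (by push_cast at hj ⊢; omega) hG (i' + 1) (by omega)
      rwa [add_sub_cancel_right] at this
    have h1 : V n k ((tw n k (-1)).obj F) (j + 1) (i' + 1 + 1) :=
      V_left (hS F ι) (j + 1) (i' + 1) h3 h2
    exact V_of_tw F (-1) (j + 1) j (i' + 2) (by ring) h1

include hGq hG in
theorem surj_f (j : ℤ) (hj : m - 1 ≤ j) :
    Function.Surjective (Canon.HHlin k (Sj F ι j).f 1) := by
  refine HHlin_surjective_of_subsingleton k (hSj F ι j) 1 ?_
  have := reg_of_le (cokernel ι) hGq m (j + ((1 : ℕ) : ℤ)) (by push_cast; omega) hG 1 le_rfl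
  rw [add_sub_cancel_right] at this
  exact this

include hF in
theorem finite_HH_tw (j : ℤ) (i : ℕ) :
    Module.Finite k (Coh.HH (CohB1.ProjSpace n k) ((tw n k j).obj F) i) :=
  Groth.Agent.Lib.Helper17.FinCoh.finite_HH n k _ (isCoh_tw j F hF) i

theorem finrank_X₁ (j : ℤ) :
    Module.finrank k (Coh.HH (CohB1.ProjSpace n k) (Sj F ι j).X₁ 1) = a F (j - 1) :=
  (HHlinEquiv k (e1 F ι j) 1).finrank_eq

include hF hGq hG in
theorem surj0_iff_a_eq (j : ℤ) (hj : m - 1 ≤ j) :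
    Surj0 (Sj F ι j).g ↔ a F j = a F (j - 1) := by
  have hsurj := surj_f F ι hGq m hG j hj
  haveI h1 : Module.Finite k (Coh.HH (CohB1.ProjSpace n k) (Sj F ι j).X₁ 1) :=
    finite_HH_tw _ (isCoh_tw (-1) F hF) j 1
  haveI h2 : Module.Finite k (Coh.HH (CohB1.ProjSpace n k) ((tw n k j).obj F) 1) :=
    finite_HH_tw F hF j 1
  rw [← injective_HHlin_iff_surj0 k (hSj F ι j), ← finrank_X₁ F ι j]
  constructor
  · intro hinj
    exact (LinearEquiv.ofBijective _ ⟨hinj, hsurj⟩).finrank_eq.symm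
  · intro h
    exact (LinearMap.injective_iff_surjective_of_finrank_eq_finrank h.symm).2 hsurj

include hGq hG in
theorem surj0_succ (j : ℤ) (hj : m ≤ j) (h : Surj0 (Sj F ι j).g) :
    Surj0 (Sj F ι (j + 1)).g := by
  have hB : ((tw n k j).obj (cokernel ι)).IsQuasicoherent := isQuasicoherent_tw j _ hGq
  have hreg : Reg ((tw n k j).obj (cokernel ι)) 0 :=
    reg_tw _ j 0 (by rw [add_zero]; exact reg_of_le _ hGq m j hj hG)
  have h1 : Surj0 ((E n k).map ((tw n k j).map (cokernel.π ι))) := surj0_E _ hB hreg h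
  refine surj0_of_iso_square _ _ ((twAddIso j 1).app F) ((twAddIso j 1).app (cokernel ι)) ?_ h1
  exact (twAddIso j 1).hom.naturality (cokernel.π ι)

include hF hGq hG in
/-- (ii) `h¹(F(j)) ≤ h¹(F(j-1))` for `j ≥ m - 1`. -/
theorem a_le (j : ℤ) (hj : m - 1 ≤ j) : a F j ≤ a F (j - 1) := by
  have hsurj := surj_f F ι hGq m hG j hj
  haveI h1 : Module.Finite k (Coh.HH (CohB1.ProjSpace n k) (Sj F ι j).X₁ 1) :=
    finite_HH_tw _ (isCoh_tw (-1) F hF) j 1
  rw [← finrank_X₁ F ι j]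
  exact LinearMap.finrank_le_finrank_of_surjective hsurj

include hF in
theorem exists_a_eq_zero : ∃ d₀ : ℤ, ∀ j : ℤ, d₀ ≤ j → a F j = 0 := by
  obtain ⟨d₀, hd₀⟩ := serre_vanishing n k F hF
  refine ⟨d₀, fun j hj => ?_⟩
  haveI : Subsingleton (Coh.HH (CohB1.ProjSpace n k) ((tw n k j).obj F) 1) := hd₀ j hj 1 le_rfl
  exact Module.finrank_zero_of_subsingleton

include hF hGq hG in
theorem surj0_add (j : ℤ) (hj : m ≤ j) (h : a F j = a F (j - 1)) (t : ℕ) :
    Surj0 (Sj F ι (j + t)).g := by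
  induction t with
  | zero =>
    rw [Nat.cast_zero, add_zero]
    exact (surj0_iff_a_eq F ι hF hGq m hG j (by omega)).2 h
  | succ t ih =>
    have := surj0_succ F ι hGq m hG (j + t) (by omega) ih
    rwa [show j + ((t + 1 : ℕ) : ℤ) = j + t + 1 by push_cast; ring]

include hF hGq hG in
theorem a_add (j : ℤ) (hj : m ≤ j) (h : a F j = a F (j - 1)) (t : ℕ) :
    a F (j + t) = a F (j - 1) := by
  induction t with
  | zero =>
    rw [Nat.cast_zero, add_zero]
    exact h
  | succ t ih =>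
    have h1 := (surj0_iff_a_eq F ι hF hGq m hG (j + (t + 1 : ℕ)) (by omega)).1
      (surj0_add F ι hF hGq m hG j hj h (t + 1))
    rw [h1, show j + ((t + 1 : ℕ) : ℤ) - 1 = j + t by push_cast; ring]
    exact ih

include hF hGq hG in
theorem a_eq_zero_of_eq (j : ℤ) (hj : m ≤ j) (h : a F j = a F (j - 1)) : a F (j - 1) = 0 := by
  obtain ⟨d₀, hd₀⟩ := exists_a_eq_zero F hF
  rw [← a_add F ι hF hGq m hG j hj h (d₀ - j).toNat]
  exact hd₀ _ (by omega)

include hF hGq hG in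
theorem a_le_sub (t : ℕ) : a F (m - 1 + t) ≤ a F (m - 1) - t := by
  induction t with
  | zero => simp
  | succ t ih =>
    have h1 := a_le F ι hF hGq m hG (m - 1 + (t + 1 : ℕ)) (by omega)
    have e : m - 1 + ((t + 1 : ℕ) : ℤ) - 1 = m - 1 + t := by push_cast; ring
    rw [e] at h1
    by_cases h : a F (m - 1 + (t + 1 : ℕ)) = a F (m - 1 + (t + 1 : ℕ) - 1)
    · have h2 := a_eq_zero_of_eq F ι hF hGq m hG (m - 1 + (t + 1 : ℕ)) (by push_cast; omega) h
      rw [e] at h2 h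
      omega
    · rw [e] at h
      omega

include hF hGq hG in
/-- (iii) `H¹(F(j)) = 0` for `j ≥ m - 1 + h¹(F(m-1))`. -/
theorem part_iii (j : ℤ) (hj : m - 1 + (a F (m - 1) : ℤ) ≤ j) : V n k F j 1 := by
  have h1 := a_le_sub F ι hF hGq m hG (j - (m - 1)).toNat
  have e : m - 1 + ((j - (m - 1)).toNat : ℤ) = j := by omega
  rw [e] at h1
  have h2 : a F j = 0 := by omega
  haveI := finite_HH_tw F hF j 1
  have h3 : Subsingleton (Coh.HH (CohB1.ProjSpace n k) ((tw n k j).obj F) 1) :=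
    (Module.finrank_eq_zero_iff_of_free k
      (Coh.HH (CohB1.ProjSpace n k) ((tw n k j).obj F) 1)).1 h2
  exact h3

include hF hGq hG in
/-- `F` is `(m + h¹(F(m-1)))`-regular. -/
theorem part_iv : Reg F (m + (a F (m - 1) : ℤ)) := by
  intro i hi
  rcases Nat.lt_or_ge i 2 with h | h
  · obtain rfl : i = 1 := by omega
    exact part_iii F ι hF hGq m hG _ (by push_cast; omega)
  · exact part_i F ι hF hGq m hG i h _ (by omega)

end Mumford

end Pn

end Groth.Agent.Lib.Helper83.KoszulMum
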