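import Groth.Agent.Lib.Helper83.KoszulGG
import Groth.Agent.Lib.Helper17.HZero
import Groth.Agent.S0462
import Groth.Agent.S4407

/-!
# Linear resolutions and regularity (helper83)

* `subsingleton_HH_one_of_surjective`: for a short exact sequence `0 → X₁ → X₂ → X₃ → 0` with
  `Γ(X₂) → Γ(X₃)` surjective and `H¹(X₂) = 0`, `H¹(X₁) = 0`.
* `epi_sigma_desc'`: a map from a (finite) free module whose components generate is an epimorphism.
* `exists_fin_gen`: a `0`-regular coherent module `G` on `P^n_k` admits an epimorphism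
  `O^b → G`, surjective on global sections.
-/

set_option autoImplicit false
set_option linter.style.haveILetI false
set_option linter.unusedSectionVars false
universe u w
open AlgebraicGeometry CategoryTheory Limits TopologicalSpace Opposite

namespace Groth.Agent.Lib.Helper83.KoszulRes

open Groth.Agent.Lib.Helper45 Groth.Agent.Lib.Helper49 Groth.Agent.Lib.Helper11.GenLocus
  Groth.Agent.Lib.Helper11.TensorMap Groth.Agent.Lib.Helper38.MulBySection
  Groth.Agent.Lib.Helper38.TwistEquiv Groth.Agent.Lib.Helper83.KoszulAbs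
  Groth.Agent.Lib.Helper83.KoszulMod Groth.Agent.Lib.Helper38.SerreVanishPn
  Groth.Agent.Lib.Helper83.KoszulPn Groth.Agent.Lib.Helper38.RegComplex
  Groth.Agent.Lib.Helper83.KoszulReg Groth.Agent.Lib.Helper83.KoszulMul
  Groth.Agent.Lib.Helper83.KoszulGG

section general

variable {X : Scheme.{u}}

open Abelian Groth.Agent.Lib.Helper5 Groth.Agent.Lib.Helper1 in
/-- `Γ(X₂) → Γ(X₃)` surjective and `H¹(X₂) = 0` imply `H¹(X₁) = 0`. -/
theorem subsingleton_HH_one_of_surjective {S : ShortComplex X.Modules} (hS : S.ShortExact)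
    (hsurj : ∀ t : Γ(S.X₃, ⊤), ∃ s : Γ(S.X₂, ⊤), S.g.app ⊤ s = t)
    (h2 : Subsingleton (Coh.HH X S.X₂ 1)) : Subsingleton (Coh.HH X S.X₁ 1) := by
  have hS' := shortExact_map_toAbF hS
  refine ⟨fun x y => ?_⟩
  suffices H : ∀ x : Coh.HH X S.X₁ 1, x = 0 by rw [H x, H y]
  intro x
  let x' : Ext (Groth.Agent.S0459.cZ X.toTopCat) (S.map (toAbF X)).X₁ (0 + 1) := x
  obtain ⟨x₃, hx₃⟩ := Ext.covariant_sequence_exact₁ _ hS' x' (h2.elim _ _) rfl
  obtain ⟨ψ, rfl⟩ := (Ext.mk₀_bijective _ _).2 x₃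
  obtain ⟨s, hs⟩ := hsurj (Groth.Agent.S0462.γAdd (X := X.toTopCat) (S.map (toAbF X)).X₃ ψ)
  have hφ : ∃ φ : Groth.Agent.S0459.cZ X.toTopCat ⟶ (S.map (toAbF X)).X₂,
      φ ≫ (S.map (toAbF X)).g = ψ := by
    refine ⟨(Groth.Agent.S0462.γAdd (X := X.toTopCat) (S.map (toAbF X)).X₂).symm s, ?_⟩
    rw [← Groth.Agent.S0462.γAdd_symm_naturality]
    apply (Groth.Agent.S0462.γAdd (X := X.toTopCat) (S.map (toAbF X)).X₃).injective
    rw [AddEquiv.apply_symm_apply]
    exact hs
  have h0 := (extBoundary₀_eq_zero_iff hS' _ ψ).2 hφ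
  rw [extBoundary₀_apply] at h0
  exact hx₃.symm.trans h0

/-- A map from a free module (on any index type) is an epimorphism if its components generate
`F` locally. -/
theorem epi_sigma_desc' {F : X.Modules} {ι : Type w}
    [HasCoproduct (fun _ : ι => Coh.structureModule X)]
    (σ : ι → (Coh.structureModule X ⟶ F))
    (h : ∀ (V : X.Opens) (a : Γ(F, V)) (x : X), x ∈ V → ∃ (W : X.Opens) (hWV : W ≤ V), x ∈ W ∧
      mres F hWV a ∈ Submodule.span Γ(X, W) (Set.range fun i => Groth.Agent.Lib.Helper11.GenLocus.sec (σ i) W)) :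
    Epi (Sigma.desc σ : (∐ fun _ : ι => Coh.structureModule X) ⟶ F) := by
  suffices H : ∀ (N : X.Modules) (ψ : F ⟶ N),
      (Sigma.desc σ : (∐ fun _ : ι => Coh.structureModule X) ⟶ F) ≫ ψ = 0 → ψ = 0 from
    Preadditive.epi_of_cancel_zero _ fun {N} ψ hψ => H N ψ hψ
  intro N ψ hψ
  have hi : ∀ i, σ i ≫ ψ = 0 := by
    intro i
    have : Sigma.ι (fun _ : ι => Coh.structureModule X) i ≫ Sigma.desc σ = σ i :=
      Sigma.ι_desc _ _
    have h2 : (Sigma.ι (fun _ : ι => Coh.structureModule X) i ≫ Sigma.desc σ) ≫ ψ = 0 := by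
      rw [Category.assoc]
      exact (congrArg (fun t => Sigma.ι (fun _ : ι => Coh.structureModule X) i ≫ t) hψ).trans
        comp_zero
    rwa [this] at h2
  have hz : ∀ (i : ι) (W : X.Opens), (ψ.app W).hom (Groth.Agent.Lib.Helper11.GenLocus.sec (σ i) W) = 0 := by
    intro i W
    have := congrArg (fun φ : Coh.structureModule X ⟶ N => (φ.app W).hom (toO W 1)) (hi i)
    exact this
  apply Scheme.Modules.hom_ext
  intro V
  ext a
  choose W hWV hxW hmem using h V a
  refine TopCat.Sheaf.eq_of_locally_eq' ⟨N.presheaf, N.isSheaf⟩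
    (fun (p : V) => W p.1 p.2) V (fun p => homOfLE (hWV p.1 p.2)) ?_ _ _ (fun p => ?_)
  · intro x hx
    exact Opens.mem_iSup.mpr ⟨⟨x, hx⟩, hxW x hx⟩
  · change N.presheaf.map (homOfLE (hWV p.1 p.2)).op (ψ.app V a) =
      N.presheaf.map (homOfLE (hWV p.1 p.2)).op 0
    rw [map_zero]
    have e1 := app_res ψ (hWV p.1 p.2) a
    refine e1.trans ?_
    have hm := hmem p.1 p.2
    have key : ∀ b ∈ Submodule.span Γ(X, W p.1 p.2) (Set.range fun i => Groth.Agent.Lib.Helper11.GenLocus.sec (σ i) (W p.1 p.2)),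
        (ψ.app (W p.1 p.2)).hom b = 0 := by
      intro b hb
      induction hb using Submodule.span_induction with
      | mem b hb =>
        obtain ⟨i, rfl⟩ := hb
        exact hz i _
      | zero => exact map_zero _
      | add b c _ _ hb hc => rw [map_add, hb, hc, add_zero]
      | smul r b _ hb =>
        refine (Scheme.Modules.Hom.app_smul ψ r b).trans ?_
        rw [hb, smul_zero]
    exact key _ hm

theorem shortExact_kernel {C : Type*} [Category C] [Abelian C] {A B : C} (φ : A ⟶ B) [Epi φ] :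
    (ShortComplex.mk (kernel.ι φ) φ (kernel.condition φ)).ShortExact :=
  { exact := ShortComplex.exact_of_f_is_kernel _ (kernelIsKernel φ)
    mono_f := inferInstanceAs (Mono (kernel.ι φ))
    epi_g := inferInstanceAs (Epi φ) }

/-- the map `O^b → G` given by `b` global sections. -/
noncomputable def descSec (G : X.Modules) {b : ℕ} (g : Fin b → Γ(G, ⊤)) :
    (∐ fun _ : Fin b => Coh.structureModule X) ⟶ G :=
  Sigma.desc (fun j => homOfSection G (g j))

theorem epi_descSec (G : X.Modules) (hgen : GenOn G ⊤) {b : ℕ} (g : Fin b → Γ(G, ⊤))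
    (hg : ∀ t : Γ(G, ⊤), t ∈ Submodule.span Γ(X, ⊤) (Set.range g)) : Epi (descSec G g) := by
  apply epi_sigma_desc'
  intro V a x hxV
  obtain ⟨W, hWV, hxW, hmem⟩ := hgen V le_top a x hxV
  refine ⟨W, hWV, hxW, ?_⟩
  refine (Submodule.span_le.2 ?_) hmem
  rintro _ ⟨t, rfl⟩
  have key : ∀ t ∈ Submodule.span Γ(X, ⊤) (Set.range g),
      mres G (le_top : W ≤ ⊤) t ∈ Submodule.span Γ(X, W)
        (Set.range fun i => Groth.Agent.Lib.Helper11.GenLocus.sec (homOfSection G (g i)) W) := by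
    intro t ht
    induction ht using Submodule.span_induction with
    | mem t ht =>
      obtain ⟨j, rfl⟩ := ht
      exact Submodule.subset_span ⟨j, sec_homOfSection G (g j) W⟩
    | zero =>
      rw [map_zero]
      exact Submodule.zero_mem _
    | add y z _ _ hy hz =>
      rw [map_add]
      exact Submodule.add_mem _ hy hz
    | smul c y _ hy =>
      rw [mres_smul]
      exact Submodule.smul_mem _ _ hy
  exact key t (hg t)

theorem surjective_descSec (G : X.Modules) {b : ℕ} (g : Fin b → Γ(G, ⊤))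
    (hg : ∀ t : Γ(G, ⊤), t ∈ Submodule.span Γ(X, ⊤) (Set.range g)) (t : Γ(G, ⊤)) :
    ∃ s : Γ(∐ fun _ : Fin b => Coh.structureModule X, ⊤), (descSec G g).app ⊤ s = t := by
  have key : ∀ t ∈ Submodule.span Γ(X, ⊤) (Set.range g),
      ∃ s : Γ(∐ fun _ : Fin b => Coh.structureModule X, ⊤), (descSec G g).app ⊤ s = t := by
    intro t ht
    induction ht using Submodule.span_induction with
    | mem t ht =>
      obtain ⟨j, rfl⟩ := ht
      refine ⟨(Sigma.ι (fun _ : Fin b => Coh.structureModule X) j).app ⊤ (toO ⊤ 1), ?_⟩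
      have h1 : Sigma.ι (fun _ : Fin b => Coh.structureModule X) j ≫ descSec G g =
          homOfSection G (g j) := Sigma.ι_desc _ _
      have h2 := sec_homOfSection G (g j) ⊤
      rw [mres_self] at h2
      rw [← h2, ← h1]
      rfl
    | zero => exact ⟨0, map_zero _⟩
    | add y z _ _ hy hz =>
      obtain ⟨s, rfl⟩ := hy
      obtain ⟨s', rfl⟩ := hz
      exact ⟨s + s', map_add _ _ _⟩
    | smul c y _ hy =>
      obtain ⟨s, rfl⟩ := hy
      exact ⟨c • s, Scheme.Modules.Hom.app_smul _ c s⟩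
  exact key t (hg t)

end general

section Pn

variable {n : ℕ} {k : Type u} [Field k]

theorem V_sigma (b : ℕ) (A : (CohB1.ProjSpace n k).Modules) (d : ℤ) (q : ℕ) (h : V n k A d q) :
    V n k (∐ fun _ : Fin b => A) d q := by
  haveI := isEquivalence_tw n k d
  let f : Fin b → (CohB1.ProjSpace n k).Modules := fun _ => A
  let e1 : (tw n k d).obj (∐ f) ≅ ∐ fun j => (tw n k d).obj (f j) :=
    PreservesCoproduct.iso (tw n k d) f
  refine subsingleton_HH_of_iso k e1 q ?_
  exact subsingleton_HH_sigma k _ _ q (fun _ => h)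

theorem V_twist (a d : ℤ) (q : ℕ) (h₀ : ¬ (q = 0 ∧ 0 ≤ a + d))
    (hn : ¬ (q = n ∧ a + d ≤ -((n : ℤ) + 1))) :
    V n k (Twist.twistProjSpace n k a) d q :=
  subsingleton_HH_of_iso k (twistTensorIso n k a d) q
    (Groth.Agent.Lib.Helper17.PnVanish.subsingleton_HH n k (a + d) q h₀ hn)

theorem V_unit (d : ℤ) (q : ℕ) (h₀ : ¬ (q = 0 ∧ 0 ≤ d))
    (hn : ¬ (q = n ∧ d ≤ -((n : ℤ) + 1))) :
    V n k (Coh.structureModule (CohB1.ProjSpace n k)) d q :=
  V_of_iso (twistZeroIso n k).symm d q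
    (V_twist 0 d q (by rwa [zero_add]) (by rwa [zero_add]))

/-- `F(0) ≅ F`. -/
noncomputable def twZeroIso (A : (CohB1.ProjSpace n k).Modules) : (tw n k 0).obj A ≅ A :=
  (congrNat (twistZeroIso n k)).app A ≪≫ (unitNat (CohB1.ProjSpace n k)).app A

theorem V_zero_iff (A : (CohB1.ProjSpace n k).Modules) (q : ℕ) : V n k A 0 q ↔ v n k q A :=
  ⟨fun h => subsingleton_HH_of_iso k (twZeroIso A).symm q h,
    fun h => subsingleton_HH_of_iso k (twZeroIso A) q h⟩

theorem reg_of_iso {F F' : (CohB1.ProjSpace n k).Modules} (e : F ≅ F') (m : ℤ) (h : Reg F' m) :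
    Reg F m := fun i hi => V_of_iso e _ i (h i hi)

/-- **(⇐)**: if `O(-m)^b → F` is an epimorphism with `(m+1)`-regular kernel, `F` is `m`-regular. -/
theorem reg_of_resolution (F : (CohB1.ProjSpace n k).Modules) (m : ℤ) (b : ℕ)
    (φ : (∐ fun _ : Fin b => Twist.twistProjSpace n k (-m)) ⟶ F) [Epi φ]
    (hK : Reg (kernel φ) (m + 1)) : Reg F m := by
  intro i hi
  refine V_right (shortExact_kernel φ) (m - i) i ?_ ?_
  · refine V_sigma b _ _ i (V_twist (-m) (m - i) i (by omega) ?_)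
    rintro ⟨rfl, h⟩
    omega
  · have := hK (i + 1) (by omega)
    have e : m + 1 - ((i + 1 : ℕ) : ℤ) = m - i := by push_cast; ring
    rwa [e] at this

/-- finitely many global sections spanning `Γ(G, ⊤)` over `Γ(X, ⊤)`. -/
theorem exists_fin_span (G : (CohB1.ProjSpace n k).Modules) (hG : Coh.IsCoh G) :
    ∃ (b : ℕ) (g : Fin b → Γ(G, ⊤)), ∀ t : Γ(G, ⊤),
      t ∈ Submodule.span Γ(CohB1.ProjSpace n k, ⊤) (Set.range g) := by
  have hfin : Module.Finite k (Coh.HH (CohB1.ProjSpace n k) G 0) :=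
    Groth.Agent.Lib.Helper17.FinCoh.finite_HH n k G hG 0
  obtain ⟨b, x, hx⟩ := Module.Finite.exists_fin (R := k)
    (M := Coh.HH (CohB1.ProjSpace n k) G 0)
  refine ⟨b, fun j => Groth.Agent.Lib.Helper17.HZero.hh0Equiv G (x j), fun t => ?_⟩
  have key : ∀ y ∈ Submodule.span k (Set.range x),
      Groth.Agent.Lib.Helper17.HZero.hh0Equiv G y ∈
        Submodule.span Γ(CohB1.ProjSpace n k, ⊤)
          (Set.range fun j => Groth.Agent.Lib.Helper17.HZero.hh0Equiv G (x j)) := by
    intro y hy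
    induction hy using Submodule.span_induction with
    | mem y hy =>
      obtain ⟨j, rfl⟩ := hy
      exact Submodule.subset_span ⟨j, rfl⟩
    | zero =>
      rw [map_zero]
      exact Submodule.zero_mem _
    | add y z _ _ hy hz =>
      rw [map_add]
      exact Submodule.add_mem _ hy hz
    | smul c y _ hy =>
      have h1 : c • y = (Coh.toGlobal (CohB1.ProjSpace n k ↘ Spec (CommRingCat.of k)) c) • y := rfl
      rw [h1, Groth.Agent.Lib.Helper17.HZero.hh0Equiv_smul]
      exact Submodule.smul_mem _ _ hy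
  have h2 := key ((Groth.Agent.Lib.Helper17.HZero.hh0Equiv G).symm t) (by rw [hx]; trivial)
  rwa [AddEquiv.apply_symm_apply] at h2

/-- the kernel of an epimorphism `O^b → G` which is surjective on global sections, for `G`
`0`-regular, is `1`-regular. -/
theorem reg_kernel (G : (CohB1.ProjSpace n k).Modules) (hreg : Reg G 0) (b : ℕ)
    (φ : (∐ fun _ : Fin b => Coh.structureModule (CohB1.ProjSpace n k)) ⟶ G) [Epi φ]
    (hsurj : ∀ t : Γ(G, ⊤), ∃ s : Γ(∐ fun _ : Fin b =>
      Coh.structureModule (CohB1.ProjSpace n k), ⊤), φ.app ⊤ s = t) :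
    Reg (kernel φ) 1 := by
  intro i hi
  have hS := shortExact_kernel φ
  obtain ⟨j, rfl⟩ : ∃ j, i = j + 1 := ⟨i - 1, by omega⟩
  rcases Nat.eq_zero_or_pos j with rfl | hj
  · -- `H¹(ker φ) = 0`
    have e : (1 : ℤ) - ((0 + 1 : ℕ) : ℤ) = 0 := by norm_num
    rw [e, V_zero_iff]
    refine subsingleton_HH_one_of_surjective hS hsurj ?_
    refine (V_zero_iff _ 1).1 (V_sigma b _ 0 1 (V_unit 0 1 (by omega) ?_))
    rintro ⟨h1, h2⟩
    omega
  · have e : (1 : ℤ) - ((j + 1 : ℕ) : ℤ) = 0 - (j : ℤ) := by push_cast; ring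
    rw [e]
    refine V_left hS (0 - (j : ℤ)) j (hreg j hj) ?_
    refine V_sigma b _ _ (j + 1) (V_unit _ (j + 1) (by omega) ?_)
    rintro ⟨h1, h2⟩
    omega

/-- **(⇒)**: an `m`-regular coherent module is a quotient of some `O(-m)^b` with
`(m+1)`-regular kernel. -/
theorem exists_resolution (F : (CohB1.ProjSpace n k).Modules) (hF : Coh.IsCoh F) (m : ℤ)
    (hreg : Reg F m) :
    ∃ (b : ℕ) (φ : (∐ fun _ : Fin b => Twist.twistProjSpace n k (-m)) ⟶ F),
      Epi φ ∧ Reg (kernel φ) (m + 1) := by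
  have hG : Coh.IsCoh ((tw n k m).obj F) :=
    ⟨isQuasicoherent_tw m F hF.1,
      Groth.Agent.Lib.Helper11.GenLocus.isFiniteType_tensorMod_of_isInvertible F _ hF.2
        (isInvertible_twist m)⟩
  have hregG : Reg ((tw n k m).obj F) 0 := reg_tw F m 0 (by rwa [add_zero])
  have hgen := genOn_of_reg _ hG hregG
  obtain ⟨b, g, hg⟩ := exists_fin_span _ hG
  haveI := epi_descSec _ hgen g hg
  have hK := reg_kernel _ hregG b (descSec _ g) (surjective_descSec _ g hg)
  haveI := isEquivalence_tw n k (-m)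
  let e₂ : (tw n k (-m)).obj ((tw n k m).obj F) ≅ F :=
    (twAddIso m (-m)).app F ≪≫ eqToIso (by rw [add_neg_cancel]) ≪≫ twZeroIso F
  let e₁ : (tw n k (-m)).obj (∐ fun _ : Fin b => Coh.structureModule (CohB1.ProjSpace n k)) ≅
      ∐ fun _ : Fin b => Twist.twistProjSpace n k (-m) :=
    PreservesCoproduct.iso (tw n k (-m)) _ ≪≫
      Sigma.mapIso (fun _ => (tw n k (-m)).mapIso (twistZeroIso n k).symm ≪≫
        twistTensorIso n k 0 (-m) ≪≫ eqToIso (by rw [zero_add]))
  refine ⟨b, e₁.inv ≫ (tw n k (-m)).map (descSec _ g) ≫ e₂.hom, ?_, ?_⟩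
  · infer_instance
  · refine reg_of_iso (kernel.mapIso _ ((tw n k (-m)).map (descSec _ g)) e₁.symm e₂.symm
      (by simp) ≪≫ (PreservesKernel.iso (tw n k (-m)) _).symm) (m + 1) ?_
    exact reg_tw _ (-m) (m + 1) (by rwa [show -m + (m + 1) = 1 by ring])

end Pn

end Groth.Agent.Lib.Helper83.KoszulRes
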