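import Mathlib.CategoryTheory.Sites.Pullback
import Mathlib.CategoryTheory.ConnectedComponents
import Mathlib.CategoryTheory.Functor.KanExtension.Adjunction
import Mathlib.CategoryTheory.Abelian.GrothendieckAxioms.Basic
import Mathlib.Algebra.Category.Grp.AB
import Mathlib.Algebra.Category.Grp.FilteredColimits
import Mathlib.CategoryTheory.Limits.Preserves.Shapes.Pullbacks
import Mathlib.CategoryTheory.Limits.Preserves.Shapes.Equalizers
import Mathlib.CategoryTheory.Sites.Abelian

/-!
# Exactness of left Kan extensions of abelian presheaves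

A small category in which spans can be completed and parallel pairs coequalized (`IsPrefiltered`)
has filtered connected components, hence colimits of abelian groups indexed by it are exact.
Application: for `F : C ⥤ D` preserving pullbacks and equalizers (`C` having them), `F.op.lan` on
abelian presheaves is exact, and so is `F.sheafPullback AddCommGrpCat J K` (`g_!`).
-/

universe u
open CategoryTheory CategoryTheory.Limits Opposite

namespace Groth.Agent.Lib.Helper83.LanExact

section Prefiltered

variable (𝒥 : Type u) [SmallCategory 𝒥]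

/-- A category in which spans can be completed to commutative-or-not squares and parallel pairs can
be coequalized: its connected components are filtered. -/
structure IsPrefiltered : Prop where
  span : ∀ {a b c : 𝒥} (_ : a ⟶ b) (_ : a ⟶ c), ∃ (d : 𝒥), Nonempty (b ⟶ d) ∧ Nonempty (c ⟶ d)
  coeq : ∀ {a b : 𝒥} (f g : a ⟶ b), ∃ (c : 𝒥) (h : b ⟶ c), f ≫ h = g ≫ h

variable {𝒥}

lemma IsPrefiltered.of_zigzag (h : IsPrefiltered 𝒥) {a b : 𝒥} (hab : Zigzag a b) :
    ∃ d : 𝒥, Nonempty (a ⟶ d) ∧ Nonempty (b ⟶ d) := by
  induction hab with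
  | refl => exact ⟨a, ⟨𝟙 a⟩, ⟨𝟙 a⟩⟩
  | tail _ hbc ih =>
    obtain ⟨d, ⟨f⟩, ⟨g⟩⟩ := ih
    rcases hbc with ⟨⟨k⟩⟩ | ⟨⟨k⟩⟩
    · obtain ⟨e, ⟨f'⟩, ⟨g'⟩⟩ := h.span g k
      exact ⟨e, ⟨f ≫ f'⟩, ⟨g'⟩⟩
    · exact ⟨d, ⟨f⟩, ⟨k ≫ g⟩⟩

/-- The projection to the discrete category of connected components. -/
abbrev proj (𝒥 : Type u) [SmallCategory 𝒥] : 𝒥 ⥤ Discrete (CategoryTheory.ConnectedComponents 𝒥) :=
  CategoryTheory.ConnectedComponents.functorToDiscrete _ id

/-- An object of the costructured arrow category over a component, from an object in it. -/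
def mkObj {c : Discrete (CategoryTheory.ConnectedComponents 𝒥)} (d : 𝒥)
    (hd : CategoryTheory.ConnectedComponents.mk d = c.as) : CostructuredArrow (proj 𝒥) c :=
  CostructuredArrow.mk (Y := d) (Discrete.eqToHom hd)

lemma isFiltered_costructuredArrow (h : IsPrefiltered 𝒥)
    (c : Discrete (CategoryTheory.ConnectedComponents 𝒥)) :
    IsFiltered (CostructuredArrow (proj 𝒥) c) := by
  have hleft : ∀ (X : CostructuredArrow (proj 𝒥) c),
      CategoryTheory.ConnectedComponents.mk X.left = c.as := fun X => Discrete.eq_of_hom X.hom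
  have hmap : ∀ {a b : 𝒥} (_ : a ⟶ b), CategoryTheory.ConnectedComponents.mk a =
      CategoryTheory.ConnectedComponents.mk b := fun f => Quotient.sound (Zigzag.of_hom f)
  refine { cocone_objs := ?_, cocone_maps := ?_, nonempty := ?_ }
  · intro X Y
    obtain ⟨d, ⟨f⟩, ⟨g⟩⟩ := h.of_zigzag (Quotient.exact ((hleft X).trans (hleft Y).symm))
    exact ⟨mkObj d ((hmap f).symm.trans (hleft X)),
      CostructuredArrow.homMk f (Subsingleton.elim _ _),
      CostructuredArrow.homMk g (Subsingleton.elim _ _), trivial⟩
  · intro X Y f g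
    obtain ⟨e, k, hk⟩ := h.coeq f.left g.left
    refine ⟨mkObj e ((hmap k).symm.trans (hleft Y)),
      CostructuredArrow.homMk k (Subsingleton.elim _ _), ?_⟩
    ext
    exact hk
  · obtain ⟨j, hj⟩ := Quotient.exists_rep c.as
    exact ⟨mkObj j hj⟩

/-- Colimits of abelian groups over a prefiltered small category are exact. -/
theorem hasExactColimitsOfShape (h : IsPrefiltered 𝒥) :
    HasExactColimitsOfShape 𝒥 AddCommGrpCat.{u} := by
  have hlan : PreservesFiniteLimits ((proj 𝒥).lan :
      (𝒥 ⥤ AddCommGrpCat.{u}) ⥤ (Discrete (CategoryTheory.ConnectedComponents 𝒥) ⥤ AddCommGrpCat.{u})) := by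
    apply preservesFiniteLimits_of_preservesFiniteLimitsOfSize.{0}
    intro J _ _
    apply preservesLimitsOfShape_of_evaluation _ J
    intro c
    have := isFiltered_costructuredArrow h c
    have : PreservesLimitsOfShape J
        ((Functor.whiskeringLeft _ _ AddCommGrpCat.{u}).obj (CostructuredArrow.proj (proj 𝒥) c) ⋙
          colim) := inferInstance
    exact preservesLimitsOfShape_of_natIso (lanEvaluationIsoColim _ _ _).symm
  constructor
  have : PreservesFiniteLimits ((proj 𝒥).lan ⋙ (colim :
      (Discrete (CategoryTheory.ConnectedComponents 𝒥) ⥤ AddCommGrpCat.{u}) ⥤ AddCommGrpCat.{u})) :=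
    comp_preservesFiniteLimits _ _
  exact preservesFiniteLimits_of_natIso (Functor.lanCompColimIso (proj 𝒥))

end Prefiltered

section Costructured

variable {C D : Type u} [SmallCategory C] [SmallCategory D] (F : C ⥤ D)
  [HasPullbacks C] [HasEqualizers C]
  [PreservesLimitsOfShape WalkingCospan F] [PreservesLimitsOfShape WalkingParallelPair F]

lemma isPrefiltered_costructuredArrow_op (V : Dᵒᵖ) :
    IsPrefiltered (CostructuredArrow F.op V) where
  span {a b c} f g := by
    let f' : b.left.unop ⟶ a.left.unop := f.left.unop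
    let g' : c.left.unop ⟶ a.left.unop := g.left.unop
    have hf : b.hom.unop ≫ F.map f' = a.hom.unop := by
      have := congrArg Quiver.Hom.unop (CostructuredArrow.w f)
      exact this
    have hg : c.hom.unop ≫ F.map g' = a.hom.unop := by
      have := congrArg Quiver.Hom.unop (CostructuredArrow.w g)
      exact this
    let hl := isLimitOfHasPullbackOfPreservesLimit F f' g'
    let δ : V.unop ⟶ F.obj (pullback f' g') :=
      PullbackCone.IsLimit.lift hl b.hom.unop c.hom.unop (hf.trans hg.symm)
    let d : CostructuredArrow F.op V := CostructuredArrow.mk (Y := op (pullback f' g')) δ.op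
    refine ⟨d, ⟨CostructuredArrow.homMk (pullback.fst f' g').op ?_⟩,
      ⟨CostructuredArrow.homMk (pullback.snd f' g').op ?_⟩⟩
    · apply Quiver.Hom.unop_inj
      change δ ≫ F.map (pullback.fst f' g') = b.hom.unop
      exact PullbackCone.IsLimit.lift_fst hl _ _ _
    · apply Quiver.Hom.unop_inj
      change δ ≫ F.map (pullback.snd f' g') = c.hom.unop
      exact PullbackCone.IsLimit.lift_snd hl _ _ _
  coeq {a b} f g := by
    let f' : b.left.unop ⟶ a.left.unop := f.left.unop
    let g' : b.left.unop ⟶ a.left.unop := g.left.unop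
    have hf : b.hom.unop ≫ F.map f' = a.hom.unop := by
      have := congrArg Quiver.Hom.unop (CostructuredArrow.w f)
      exact this
    have hg : b.hom.unop ≫ F.map g' = a.hom.unop := by
      have := congrArg Quiver.Hom.unop (CostructuredArrow.w g)
      exact this
    let hl := isLimitOfHasEqualizerOfPreservesLimit F f' g'
    let ε' := Fork.IsLimit.lift' hl b.hom.unop (hf.trans hg.symm)
    let ε : V.unop ⟶ F.obj (equalizer f' g') := ε'.1
    let c : CostructuredArrow F.op V := CostructuredArrow.mk (Y := op (equalizer f' g')) ε.op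
    refine ⟨c, CostructuredArrow.homMk (equalizer.ι f' g').op ?_, ?_⟩
    · apply Quiver.Hom.unop_inj
      change ε ≫ F.map (equalizer.ι f' g') = b.hom.unop
      exact ε'.2
    · ext
      apply Quiver.Hom.unop_inj
      change equalizer.ι f' g' ≫ f' = equalizer.ι f' g' ≫ g'
      exact equalizer.condition f' g'

/-- Left Kan extension of abelian presheaves along `F.op` is exact when `F` preserves pullbacks and
equalizers (which exist in `C`). -/
theorem lan_preservesFiniteLimits :
    PreservesFiniteLimits (F.op.lan : (Cᵒᵖ ⥤ AddCommGrpCat.{u}) ⥤ (Dᵒᵖ ⥤ AddCommGrpCat.{u})) := by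
  apply preservesFiniteLimits_of_preservesFiniteLimitsOfSize.{0}
  intro J _ _
  apply preservesLimitsOfShape_of_evaluation _ J
  intro V
  have := hasExactColimitsOfShape (isPrefiltered_costructuredArrow_op F V)
  have : PreservesLimitsOfShape J
      ((Functor.whiskeringLeft _ _ AddCommGrpCat.{u}).obj (CostructuredArrow.proj F.op V) ⋙
        colim) := inferInstance
  exact preservesLimitsOfShape_of_natIso (lanEvaluationIsoColim _ _ _).symm

/-- `g_!` on abelian sheaves is exact for a continuous functor `F` preserving pullbacks and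
equalizers. -/
theorem sheafPullback_preservesFiniteLimits (J : GrothendieckTopology C)
    (K : GrothendieckTopology D) [F.IsContinuous J K] :
    PreservesFiniteLimits (F.sheafPullback AddCommGrpCat.{u} J K) := by
  have := lan_preservesFiniteLimits F
  have : PreservesFiniteLimits (F.op.lan ⋙ presheafToSheaf K AddCommGrpCat.{u}) :=
    comp_preservesFiniteLimits _ _
  have : PreservesFiniteLimits
      (Functor.sheafPullbackConstruction.sheafPullback F AddCommGrpCat.{u} J K) :=
    comp_preservesFiniteLimits _ _
  exact preservesFiniteLimits_of_natIso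
    (Functor.sheafPullbackConstruction.sheafPullbackIso F AddCommGrpCat.{u} J K).symm

end Costructured

end Groth.Agent.Lib.Helper83.LanExact
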