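import Groth.Agent.Lib.Helper83.CechPush
import Groth.Agent.Lib.Helper17.CechHHLin

/-!
# A natural Leray isomorphism from an acyclic cover (helper83)

For `f : Y ⟶ X` continuous, a cover `V` of `X`, and an abelian sheaf `A` on `Y` such that `A` is
acyclic on the finite intersections of `f⁻¹ V` and `f_* A` is acyclic on the finite intersections
of `V`, we construct `pushEquiv : H^p(Y, A) ≃+ H^p(X, f_* A)`, natural in `A`
(`pushEquiv_naturality`).
-/

universe u

open CategoryTheory CategoryTheory.Limits TopologicalSpace Opposite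

namespace Groth.Agent.Lib.Helper83.LerayLin

open Groth.Agent.Lib.Lead Groth.Agent.S0463 Groth.Agent.S0464 Groth.Agent.Lib.Helper17.LerayNat
  Groth.Agent.Lib.Helper17.CechHHLin Groth.Agent.Lib.Helper83.CechPush

variable {X Y : TopCat.{u}} (f : Y ⟶ X) {ι : Type u} (V : ι → Opens X)

lemma iSup_W (hV : iSup V = ⊤) : iSup (W f V) = ⊤ := by
  rw [eq_top_iff]
  intro y _
  have h : f y ∈ iSup V := by rw [hV]; trivial
  obtain ⟨i, hi⟩ := Opens.mem_iSup.mp h
  exact Opens.mem_iSup.mpr ⟨i, hi⟩

variable (A : CohTop.Ab Y)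

/-- the isomorphism on Čech cohomology. -/
noncomputable def cechHPush (p : ℕ) :
    CohTop.cechH A.obj (W f V) p ≃+ CohTop.cechH ((CohTop.push f).obj A).obj V p :=
  ((HomologicalComplex.homologyFunctor _ _ p).mapIso
    (cechPushIso f V A.obj)).addCommGroupIsoToAddEquiv

lemma cechHPush_naturality {A A' : CohTop.Ab Y} (ψ : A ⟶ A') (p : ℕ)
    (x : CohTop.cechH A.obj (W f V) p) :
    cechHPush f V A' p (cechHMap (W f V) ψ p x) =
      cechHMap V ((CohTop.push f).map ψ) p (cechHPush f V A p x) := by
  have h := congrArg (fun φ => HomologicalComplex.homologyMap φ p)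
    (cechPushIso_naturality f V ψ.hom)
  simp only [HomologicalComplex.homologyMap_comp] at h
  have h2 := ConcreteCategory.congr_hom h x
  rw [ConcreteCategory.comp_apply, ConcreteCategory.comp_apply] at h2
  exact h2

variable (hV : iSup V = ⊤)

/-- **Natural Leray isomorphism from an acyclic cover.** -/
noncomputable def pushEquiv (hA : Acyc (W f V) A) (hB : Acyc V ((CohTop.push f).obj A)) (p : ℕ) :
    CohTop.H A p ≃+ CohTop.H ((CohTop.push f).obj A) p :=
  ((cechToH (W f V) (iSup_W f V hV) p A hA).symm.trans (cechHPush f V A p)).trans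
    (cechToH V hV p _ hB)

theorem pushEquiv_naturality {A A' : CohTop.Ab Y} (ψ : A ⟶ A')
    (hA : Acyc (W f V) A) (hB : Acyc V ((CohTop.push f).obj A))
    (hA' : Acyc (W f V) A') (hB' : Acyc V ((CohTop.push f).obj A')) (p : ℕ) (x : CohTop.H A p) :
    pushEquiv f V A' hV hA' hB' p (Sheaf.H.map ψ p x) =
      Sheaf.H.map ((CohTop.push f).map ψ) p (pushEquiv f V A hV hA hB p x) := by
  obtain ⟨c, rfl⟩ := (cechToH (W f V) (iSup_W f V hV) p A hA).surjective x
  rw [← cechToH_naturality (W f V) (iSup_W f V hV) p ψ hA hA']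
  unfold pushEquiv
  simp only [AddEquiv.trans_apply, AddEquiv.symm_apply_apply]
  rw [cechHPush_naturality, cechToH_naturality V hV p ((CohTop.push f).map ψ) hB hB']

end Groth.Agent.Lib.Helper83.LerayLin
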