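import Groth.Agent.Lib.Helper83.MVSq
import Groth.Agent.Lib.Helper83.Compact

/-!
# Compactness along a Mayer–Vietoris square (helper83)
-/

set_option autoImplicit false
set_option linter.unusedSectionVars false
universe v u
open CategoryTheory CategoryTheory.Limits CategoryTheory.Pretriangulated
open W4c3perfectstacks W4c3perfectstacks.MVSq

namespace Groth.Agent.Lib.Helper83.MV

open Groth.Agent.Lib.Helper83.Cpt

variable {S S' R R' : Type u} [Category.{v} S] [Category.{v} S'] [Category.{v} R] [Category.{v} R']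
    [Preadditive S] [Preadditive S'] [Preadditive R] [Preadditive R']
    [HasZeroObject S] [HasZeroObject S'] [HasZeroObject R] [HasZeroObject R']
    [HasShift S ℤ] [HasShift S' ℤ] [HasShift R ℤ] [HasShift R' ℤ]
    [∀ n : ℤ, (shiftFunctor S n).Additive] [∀ n : ℤ, (shiftFunctor S' n).Additive]
    [∀ n : ℤ, (shiftFunctor R n).Additive] [∀ n : ℤ, (shiftFunctor R' n).Additive]
    [Pretriangulated S] [Pretriangulated S'] [Pretriangulated R] [Pretriangulated R']
    {q : W4c3perfectstacks.MVSq S S' R R'}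
    [q.jst.CommShift ℤ] [q.fst.CommShift ℤ] [q.jpst.CommShift ℤ] [q.gst.CommShift ℤ]
    [q.jst.IsTriangulated] [q.fst.IsTriangulated] [q.jpst.IsTriangulated] [q.gst.IsTriangulated]
    [HasCoproducts.{v} S] [HasCoproducts.{v} S'] [HasCoproducts.{v} R] [HasCoproducts.{v} R']

/-- The exchange isomorphism as a natural isomorphism. -/
noncomputable def bc2Iso (hq : q.IsMV) : q.jls ⋙ q.fst ≅ q.gst ⋙ q.jpls :=
  NatIso.ofComponents (fun P => @asIso _ _ _ _ (q.bc2App P) (hq.isIso_bc2App P))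
    (fun p => bc2App_naturality q p)

/-- Decomposition property for `j_* j^*`. -/
lemma DP_J (N : S) (hU : CohDer.IsCompactObject (q.jst.obj N)) : DP N (q.jst ⋙ q.jls) := by
  have : PreservesColimitsOfSize.{v, v} q.jst := q.adjJ.leftAdjoint_preservesColimits
  exact DP_adj q.adjJ q.jst N (DP_of_compact q.jst _ hU)

/-- Decomposition property for `f_* f^*`. -/
lemma DP_F (N : S) (hX' : CohDer.IsCompactObject (q.fst.obj N)) : DP N (q.fst ⋙ q.fls) := by
  have : PreservesColimitsOfSize.{v, v} q.fst := q.adjF.leftAdjoint_preservesColimits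
  exact DP_adj q.adjF q.fst N (DP_of_compact q.fst _ hX')

/-- Decomposition property for `f_* f^* j_* j^*`, for the shifted object. -/
lemma DP_T (hq : q.IsMV) (N : S) (hU' : CohDer.IsCompactObject (q.gst.obj (q.jst.obj N))) :
    DP (N⟦(1 : ℤ)⟧) (((q.jst ⋙ q.jls) ⋙ q.fst) ⋙ q.fls) := by
  have : PreservesColimitsOfSize.{v, v} q.jst := q.adjJ.leftAdjoint_preservesColimits
  have : PreservesColimitsOfSize.{v, v} q.gst := q.adjG.leftAdjoint_preservesColimits
  have c0 := compact_shift _ hU'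
  have d0 : DP ((q.gst.obj (q.jst.obj N))⟦(1 : ℤ)⟧) (q.jst ⋙ q.gst) :=
    DP_of_compact (q.jst ⋙ q.gst) _ c0
  have d1 : DP (q.gst.obj (q.jst.obj (N⟦(1 : ℤ)⟧))) (q.jst ⋙ q.gst) :=
    DP_iso ((q.gst.mapIso ((q.jst.commShiftIso (1 : ℤ)).app N) ≪≫
      (q.gst.commShiftIso (1 : ℤ)).app _).symm) _ d0
  have d2 : DP (q.jpst.obj (q.fst.obj (N⟦(1 : ℤ)⟧))) (q.jst ⋙ q.gst) :=
    DP_iso (q.e.app (N⟦(1 : ℤ)⟧)) _ d1
  have d3 : DP (q.fst.obj (N⟦(1 : ℤ)⟧)) ((q.jst ⋙ q.gst) ⋙ q.jpls) :=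
    DP_adj q.adjJp (q.jst ⋙ q.gst) _ d2
  have d4 : DP (q.fst.obj (N⟦(1 : ℤ)⟧)) ((q.jst ⋙ q.jls) ⋙ q.fst) :=
    DP_natIso (Functor.isoWhiskerLeft q.jst (bc2Iso hq).symm) _ d3
  exact DP_adj q.adjF _ _ d4

omit [HasCoproducts.{v} S] in
/-- A finite sum of `lift ≫ map` in terms of components. -/
lemma sum_lift_comp_map {ι : Type v} (F : Finset ι) {N : S} {A B : ι → S} {A' B' : S}
    (u : ∀ i, N ⟶ A i) (v : ∀ i, N ⟶ B i) (f : ∀ i, A i ⟶ A') (g : ∀ i, B i ⟶ B') :
    ∑ i ∈ F, biprod.lift (u i) (v i) ≫ biprod.map (f i) (g i) =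
      biprod.lift (∑ i ∈ F, u i ≫ f i) (∑ i ∈ F, v i ≫ g i) := by
  apply biprod.hom_ext
  · rw [Preadditive.sum_comp, biprod.lift_fst]
    refine Finset.sum_congr rfl (fun i _ => ?_)
    rw [Category.assoc, biprod.map_fst, biprod.lift_fst_assoc]
  · rw [Preadditive.sum_comp, biprod.lift_snd]
    refine Finset.sum_congr rfl (fun i _ => ?_)
    rw [Category.assoc, biprod.map_snd, biprod.lift_snd_assoc]

omit [HasCoproducts.{v} S] in
lemma comp_lift' {N N' A B : S} (x : N' ⟶ N) (f : N ⟶ A) (g : N ⟶ B) :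
    x ≫ biprod.lift f g = biprod.lift (x ≫ f) (x ≫ g) := by
  apply biprod.hom_ext <;> simp

/-- An object over `X` whose restrictions to `U`, `X'` and `U'` are compact is compact. -/
theorem compact_of_MV (hq : q.IsMV) (N : S) (hU : CohDer.IsCompactObject (q.jst.obj N))
    (hX' : CohDer.IsCompactObject (q.fst.obj N))
    (hU' : CohDer.IsCompactObject (q.gst.obj (q.jst.obj N))) :
    CohDer.IsCompactObject N := by
  classical
  intro ι X
  refine ⟨homSum_injective N X, fun x => ?_⟩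
  have hJ := DP_J N hU
  have hΦ := DP_F N hX'
  have hT := DP_T hq N hU'
  have : q.jls.Additive := q.adjJ.right_adjoint_additive
  have : q.fls.Additive := q.adjF.right_adjoint_additive
  choose dd hdd using (fun M : S => mv_exists hq M)
  -- step 1: decompose the two components of `x ≫ a`
  obtain ⟨F₁, u, hu0, hu⟩ := hJ ι X (x ≫ q.adjJ.unit.app (∐ X))
  obtain ⟨F₂, v, hv0, hv⟩ := hΦ ι X (x ≫ q.adjF.unit.app (∐ X))
  change ∀ i, N ⟶ q.jls.obj (q.jst.obj (X i)) at u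
  change ∀ i, N ⟶ q.fls.obj (q.fst.obj (X i)) at v
  have hu' : x ≫ q.adjJ.unit.app (∐ X) =
      ∑ i ∈ F₁ ∪ F₂, u i ≫ q.jls.map (q.jst.map (Sigma.ι X i)) := by
    rw [hu]
    exact Finset.sum_subset Finset.subset_union_left
      (fun i _ hi => by rw [hu0 i hi, zero_comp])
  have hv' : x ≫ q.adjF.unit.app (∐ X) =
      ∑ i ∈ F₁ ∪ F₂, v i ≫ q.fls.map (q.fst.map (Sigma.ι X i)) := by
    rw [hv]
    exact Finset.sum_subset Finset.subset_union_right
      (fun i _ hi => by rw [hv0 i hi, zero_comp])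
  generalize F₁ ∪ F₂ = F at hu' hv'
  have hy : x ≫ biprod.lift (q.adjJ.unit.app (∐ X)) (q.adjF.unit.app (∐ X)) =
      ∑ i ∈ F, biprod.lift (u i) (v i) ≫
        biprod.map (q.jls.map (q.jst.map (Sigma.ι X i))) (q.fls.map (q.fst.map (Sigma.ι X i))) := by
    rw [sum_lift_comp_map, ← hu', ← hv']
    exact comp_lift' _ _ _
  -- step 2: each piece lifts to `X i`
  have ht : ∀ i ∈ F, biprod.lift (u i) (v i) ≫
      biprod.desc (q.adjF.unit.app (q.jls.obj (q.jst.obj (X i))))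
        (-(q.fls.map (q.fst.map (q.adjJ.unit.app (X i))))) = 0 := by
    refine sum_comp_map_ι_eq_zero (((q.jst ⋙ q.jls) ⋙ q.fst) ⋙ q.fls) X F
      (fun i => biprod.lift (u i) (v i) ≫
        biprod.desc (q.adjF.unit.app (q.jls.obj (q.jst.obj (X i))))
          (-(q.fls.map (q.fst.map (q.adjJ.unit.app (X i)))))) ?_
    have h0 := congrArg (fun t => t ≫ biprod.desc (q.adjF.unit.app (q.jls.obj (q.jst.obj (∐ X))))
        (-(q.fls.map (q.fst.map (q.adjJ.unit.app (∐ X)))))) hy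
    rw [Category.assoc, mvA_comp_mvB, comp_zero, Preadditive.sum_comp] at h0
    rw [h0]
    refine Finset.sum_congr rfl (fun i _ => ?_)
    rw [Category.assoc, Category.assoc]
    congr 1
    exact mvB_natural (Sigma.ι X i)
  have hx : ∀ i, ∃ xi : N ⟶ X i, i ∈ F → biprod.lift (u i) (v i) =
      xi ≫ biprod.lift (q.adjJ.unit.app (X i)) (q.adjF.unit.app (X i)) := by
    intro i
    by_cases hi : i ∈ F
    · obtain ⟨xi, hxi⟩ := Triangle.coyoneda_exact₂ _ (hdd (X i)) (biprod.lift (u i) (v i))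
        (ht i hi)
      exact ⟨xi, fun _ => hxi⟩
    · exact ⟨0, fun h => absurd h hi⟩
  choose xx hxx using hx
  -- step 3: the difference is killed by `a`
  have hx'a : (x - ∑ i ∈ F, xx i ≫ Sigma.ι X i) ≫
      biprod.lift (q.adjJ.unit.app (∐ X)) (q.adjF.unit.app (∐ X)) = 0 := by
    rw [Preadditive.sub_comp, hy, Preadditive.sum_comp, sub_eq_zero]
    refine Finset.sum_congr rfl (fun i hi => ?_)
    rw [hxx i hi, Category.assoc, Category.assoc]
    congr 1
    exact mvA_natural (Sigma.ι X i)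
  -- step 4: the difference comes from the shifted third vertex
  obtain ⟨g, hg⟩ := Triangle.coyoneda_exact₁ _ (hdd (∐ X))
    ((x - ∑ i ∈ F, xx i ≫ Sigma.ι X i)⟦(1 : ℤ)⟧')
    (by
      change (x - ∑ i ∈ F, xx i ≫ Sigma.ι X i)⟦(1 : ℤ)⟧' ≫
        (biprod.lift (q.adjJ.unit.app (∐ X)) (q.adjF.unit.app (∐ X)))⟦(1 : ℤ)⟧' = 0
      rw [← Functor.map_comp, hx'a, Functor.map_zero])
  change (shiftFunctor S (1 : ℤ)).obj N ⟶ (((q.jst ⋙ q.jls) ⋙ q.fst) ⋙ q.fls).obj (∐ X) at g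
  change (x - ∑ i ∈ F, xx i ≫ Sigma.ι X i)⟦(1 : ℤ)⟧' = g ≫ dd (∐ X) at hg
  obtain ⟨F', z, hz0, hz⟩ := hT ι X g
  have hw : ∀ i, ∃ w : N ⟶ X i, w⟦(1 : ℤ)⟧' = z i ≫ dd (X i) := fun i =>
    ⟨(shiftFunctor S (1 : ℤ)).preimage (z i ≫ dd (X i)), Functor.map_preimage _ _⟩
  choose w hw using hw
  have hx' : x - ∑ i ∈ F, xx i ≫ Sigma.ι X i = ∑ i ∈ F', w i ≫ Sigma.ι X i := by
    apply (shiftFunctor S (1 : ℤ)).map_injective
    rw [hg, hz, Functor.map_sum, Preadditive.sum_comp]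
    refine Finset.sum_congr rfl (fun i _ => ?_)
    rw [Functor.map_comp, hw, Category.assoc, Category.assoc]
    congr 1
    exact (mvD_natural hq (Sigma.ι X i) (dd (X i)) (dd (∐ X)) (hdd _) (hdd _)).symm
  -- step 5: conclude
  refine ⟨∑ i ∈ F', DirectSum.of _ i (w i) + ∑ i ∈ F, DirectSum.of _ i (xx i), ?_⟩
  rw [map_add, homSum_sum_of, homSum_sum_of, ← hx', sub_add_cancel]

end Groth.Agent.Lib.Helper83.MV
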