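import Groth.Agent.Lib.Helper83.PnOverOpen
import Groth.Agent.Lib.Helper83.AmpleSerre
import Groth.Agent.Lib.Helper61.PnIso
import Groth.Agent.Lib.Helper17.VeryAmpleCrit
import Groth.Agent.Lib.Helper17.UPChart
import Groth.Agent.Lib.Helper17.PnH0

/-!
# `Proj R[T₀..T_r] ≅ P^r_ℤ × Spec R`, compatibly with the twisting sheaves (helper83)

The isomorphism is helper61's `PnIso.iso`. We show that the pullback of `O(d)` along
`P^r_R ≅ P^r_ℤ × Spec R ⟶ P^r_ℤ` is `O(d)` on `P^r_R`, for all `d : ℤ`.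
-/

set_option autoImplicit false
set_option linter.unusedSectionVars false
universe u
open AlgebraicGeometry CategoryTheory Limits TopologicalSpace Opposite HomogeneousLocalization

namespace Groth.Agent.Lib.Helper83.PnBridge
open Groth.Agent.Lib.Helper11 Groth.Agent.Lib.Helper11.GenLocus Groth.Agent.Lib.Helper45
  Groth.Agent.Lib.Helper49 Groth.Agent.Lib.Helper17.OFrac Groth.Agent.Lib.Helper17.TwistGen
  Groth.Agent.Lib.Helper17.TwistAmple Groth.Agent.Lib.Helper17.UPPull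
  Groth.Agent.Lib.Helper17.UPGen Groth.Agent.Lib.Helper17.UPProj
  Groth.Agent.Lib.Helper17.UPCoef Groth.Agent.Lib.Helper17.UPSecKernel
  Groth.Agent.Lib.Helper17.PnSections Groth.Agent.Lib.Helper17.UPUniq
  Groth.Agent.Lib.Helper17.VeryAmpleCrit
  Groth.Agent.Lib.Helper17.UPChart Groth.Agent.Lib.Helper61.PnIso

section General
variable {R₁ A₁ R₂ A₂ : Type u} [CommRing R₁] [CommRing A₁] [Algebra R₁ A₁]
  [CommRing R₂] [CommRing A₂] [Algebra R₂ A₂]
  (𝒜 : ℕ → Submodule R₁ A₁) [GradedAlgebra 𝒜] (ℬ : ℕ → Submodule R₂ A₂) [GradedAlgebra ℬ]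
  (f : 𝒜 →+*ᵍ ℬ) (hf : (HomogeneousIdeal.irrelevant ℬ) ≤ (HomogeneousIdeal.irrelevant 𝒜).map f)

/-- the ring map of `Proj.map f` on a chart `D₊(s)`, `s` of degree one, on degree one fractions. -/
theorem map_appLE_oFrac {s a : A₁} (hs : s ∈ 𝒜 1) (ha : a ∈ 𝒜 1) (W : (Proj ℬ).Opens)
    (hW : W ≤ Proj.map f hf ⁻¹ᵁ Proj.basicOpen 𝒜 s) :
    ((Proj.map f hf).appLE (Proj.basicOpen 𝒜 s) W hW).hom
      (oFrac 𝒜 (Proj.basicOpen 𝒜 s) 1 a s) = oFrac ℬ W 1 (f a) (f s) := by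
  have ha' : a ∈ 𝒜 (1 • 1) := by simpa using ha
  have hfs : f s ∈ ℬ 1 := f.map_mem hs
  have hfa' : f a ∈ ℬ (1 • 1) := by simpa using f.map_mem ha
  have h0 := Proj.awayToSection_comp_appLE f hf hs
  have h1 := congrArg (fun φ => (CommRingCat.Hom.hom φ) (Away.mk 𝒜 hs 1 a ha')) h0
  simp only [CommRingCat.hom_comp, RingHom.coe_comp, Function.comp_apply,
    CommRingCat.hom_ofHom] at h1
  rw [awayToSection_mk 𝒜 hs 1 a ha', pow_one] at h1
  have h2 : (Away.map f s : Away 𝒜 s →+* Away ℬ (f s)) (Away.mk 𝒜 hs 1 a ha') =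
      Away.mk ℬ hfs 1 (f a) hfa' := Away.map_mk _ _ _ _ _ _
  rw [h2, awayToSection_mk ℬ hfs 1 (f a) hfa', pow_one] at h1
  have hW' : W ≤ Proj.basicOpen ℬ (f s) := hW
  have h3 := Scheme.Hom.appLE_map (Proj.map f hf) (U := Proj.basicOpen 𝒜 s)
    (V := Proj.basicOpen ℬ (f s)) (V' := W) (by rfl) (homOfLE hW').op
  have h4 := congrArg (fun φ => (CommRingCat.Hom.hom φ)
    (oFrac 𝒜 (Proj.basicOpen 𝒜 s) 1 a s)) h3
  simp only [CommRingCat.hom_comp, RingHom.coe_comp, Function.comp_apply] at h4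
  rw [← h4, h1]
  exact res_oFrac ℬ (homOfLE hW') (good_of (f.map_mem ha) hfs (nv_basicOpen _))

end General

section Geom
variable (n : ℕ) (B : Type u) [CommRing B]

/-- `P^n_B` as a `Proj`. -/
noncomputable abbrev P : Scheme.{u} := Proj (CohB1.polyGrading n B)

/-- `O(1)` on `P^n_B`. -/
noncomputable abbrev O1 : (P n B).Modules := Twist.twist (CohB1.polyGrading n B) ((1 : ℕ) : ℤ)

/-- the projection `P^n_B ⟶ P^n_ℤ`. -/
noncomputable def pr : P n B ⟶ CohB1.ProjSpace n (ULift.{u} ℤ) :=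
  Proj.map (phi n B) (irrelevant_le_map n B)

theorem phi_T (c : Fin (n + 1)) : phi n B (T n (ULift.{u} ℤ) c) = T n B c :=
  MvPolynomial.map_X _ c

theorem pr_preimage_D (c : Fin (n + 1)) : pr n B ⁻¹ᵁ D (ULift.{u} ℤ) n c = D B n c := by
  have h : pr n B ⁻¹ᵁ D (ULift.{u} ℤ) n c =
      Proj.basicOpen (CohB1.polyGrading n B) (phi n B (T n (ULift.{u} ℤ) c)) := rfl
  rw [h, phi_T]

theorem pr_appLE_oFrac (c c' : Fin (n + 1)) (W : (P n B).Opens)
    (hW : W ≤ pr n B ⁻¹ᵁ D (ULift.{u} ℤ) n c) :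
    ((pr n B).appLE (D (ULift.{u} ℤ) n c) W hW).hom
      (oFrac (CohB1.polyGrading n (ULift.{u} ℤ)) (D (ULift.{u} ℤ) n c) 1
        (T n (ULift.{u} ℤ) c') (T n (ULift.{u} ℤ) c)) =
      oFrac (CohB1.polyGrading n B) W 1 (T n B c') (T n B c) := by
  have h := map_appLE_oFrac (CohB1.polyGrading n (ULift.{u} ℤ)) (CohB1.polyGrading n B)
    (phi n B) (irrelevant_le_map n B) (T_mem n (ULift.{u} ℤ) c)
    (T_mem n (ULift.{u} ℤ) c') W hW
  rw [phi_T, phi_T] at h
  exact h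

/-- the sections `T_c` of `O(1)` on `P^n_B`. -/
noncomputable def wv (c : Fin (n + 1)) : Γ(O1 n B, ⊤) :=
  GenLocus.sec (secHom (CohB1.polyGrading n B) (T_mem n B c)) ⊤

theorem loc_wv (c : Fin (n + 1)) : loc (wv n B c) = D B n c := by
  unfold Groth.Agent.Lib.Helper17.UPCoef.loc wv
  rw [homOfSection_sec_top]
  exact Groth.Agent.Lib.Helper17.TwistAmple.genLocus_secHom (CohB1.polyGrading n B) (iSup_basicOpen_deg_one n)
    (T_mem n B c)

theorem coef_wv (c c' : Fin (n + 1)) :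
    coef (wv n B c) (wv n B c') =
      oFrac (CohB1.polyGrading n B) (loc (wv n B c)) 1 (T n B c') (T n B c) := by
  symm
  apply coef_unique
  have hNV : NV (CohB1.polyGrading n B) (loc (wv n B c)) (T n B c) := by
    rw [loc_wv]
    exact nv_basicOpen _
  have h := sec_secHom_eq_smul (CohB1.polyGrading n B) (T_mem n B c') (T_mem n B c)
    (loc (wv n B c)) hNV
  change oFrac (CohB1.polyGrading n B) (loc (wv n B c)) 1 (T n B c') (T n B c) •
    mres (O1 n B) le_top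
      (GenLocus.sec (secHom (CohB1.polyGrading n B) (T_mem n B c)) ⊤) =
    mres (O1 n B) le_top
      (GenLocus.sec (secHom (CohB1.polyGrading n B) (T_mem n B c')) ⊤)
  rw [sec_mres, sec_mres]
  exact h.symm

theorem cover_wv (x : P n B) : ∃ c, x ∈ loc (wv n B c) := by
  obtain ⟨i', hi'⟩ := exists_T_not_mem n B (x : ProjectiveSpectrum (CohB1.polyGrading n B))
  refine ⟨i', ?_⟩
  rw [loc_wv]
  exact (Proj.mem_basicOpen _ _ _).mpr hi'

theorem exists_r : ∃ (r : P n B ⟶ CohB1.ProjSpace n (ULift.{u} ℤ))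
    (_ : r ≫ CohB1.ProjSpace.toSpec n (ULift.{u} ℤ) = specULiftZIsTerminal.from (P n B))
    (τ : (Scheme.Modules.pullback r).obj (Twist.twistProjSpace n (ULift.{u} ℤ) 1) ≅ O1 n B),
    ∀ i, τ.hom.app ⊤ (ProjUP.pullSec r (Twist.twistProjSpace n (ULift.{u} ℤ) 1)
      (ProjUP.coord n (ULift.{u} ℤ) i)) = wv n B i :=
  Groth.Agent.Lib.Helper17.UPExist.exists_to_projSpace_of_cover n
    (specULiftZIsTerminal.from (P n B)) _ (wv n B) (cover_wv n B)

/-- two ring homomorphisms out of `ℤ[T]` agreeing on the variables are equal. -/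
theorem ringHom_ext_Zu {σ : Type*} {S : Type*} [Semiring S]
    (f g : MvPolynomial σ (ULift.{u} ℤ) →+* S)
    (h : ∀ i, f (MvPolynomial.X i) = g (MvPolynomial.X i)) : f = g := by
  apply MvPolynomial.ringHom_ext _ h
  intro x
  have h1 : (f.comp MvPolynomial.C).comp (ULift.ringEquiv.{0, u} (R := ℤ)).symm.toRingHom =
      (g.comp MvPolynomial.C).comp (ULift.ringEquiv.{0, u} (R := ℤ)).symm.toRingHom :=
    RingHom.ext_int _ _
  have h2 := congrArg (fun ψ : ℤ →+* S => ψ (ULift.ringEquiv x)) h1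
  change f (MvPolynomial.C (ULift.ringEquiv.symm (ULift.ringEquiv x))) =
    g (MvPolynomial.C (ULift.ringEquiv.symm (ULift.ringEquiv x))) at h2
  rwa [RingEquiv.symm_apply_apply] at h2

section R
variable (r : P n B ⟶ CohB1.ProjSpace n (ULift.{u} ℤ))
  (τ : (Scheme.Modules.pullback r).obj (Twist.twistProjSpace n (ULift.{u} ℤ) 1) ≅ O1 n B)
  (hτ : ∀ i, τ.hom.app ⊤ (ProjUP.pullSec r (Twist.twistProjSpace n (ULift.{u} ℤ) 1)
    (ProjUP.coord n (ULift.{u} ℤ) i)) = wv n B i)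

include hτ in
theorem r_eq_pr : r = pr n B := by
  have hV' : ∀ c, loc (wv n B c) ≤ pr n B ⁻¹ᵁ D (ULift.{u} ℤ) n c := fun c => by
    rw [loc_wv, pr_preimage_D]
  apply hom_ext_of_appLE r (pr n B) (V := fun c => loc (wv n B c)) (cover_wv n B)
    (U := fun c => D (ULift.{u} ℤ) n c) (fun c => Proj.isAffineOpen_basicOpen (CohB1.polyGrading n (ULift.{u} ℤ)) _ (T_mem n (ULift.{u} ℤ) c) one_pos)
    (fun c => (loc_eq n r τ (wv n B) hτ c).le) hV'
  intro c
  apply CommRingCat.hom_ext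
  apply RingHom.ext
  intro z
  obtain ⟨F, rfl⟩ := dehom_surjective (CohB1.polyGrading n (ULift.{u} ℤ))
    (T_mem n (ULift.{u} ℤ) c) z
  have key : ((r.appLE (D (ULift.{u} ℤ) n c) (loc (wv n B c))
        (loc_eq n r τ (wv n B) hτ c).le).hom.comp
        (dehom (CohB1.polyGrading n (ULift.{u} ℤ)) (T_mem n (ULift.{u} ℤ) c))) =
      (((pr n B).appLE (D (ULift.{u} ℤ) n c) (loc (wv n B c)) (hV' c)).hom.comp
        (dehom (CohB1.polyGrading n (ULift.{u} ℤ)) (T_mem n (ULift.{u} ℤ) c))) := by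
    apply ringHom_ext_Zu
    intro i
    simp only [RingHom.comp_apply]
    have h1 := dehom_of_mem (CohB1.polyGrading n (ULift.{u} ℤ)) (T_mem n (ULift.{u} ℤ) c)
      (T_mem n (ULift.{u} ℤ) i)
    rw [pow_one] at h1
    have h2 := appLE_oFrac n r τ (wv n B) hτ c i
    rw [coef_wv] at h2
    have h3 := pr_appLE_oFrac n B c i (loc (wv n B c)) (hV' c)
    exact (congrArg _ h1).trans (h2.trans (h3.symm.trans (congrArg _ h1.symm)))
  exact congrArg (fun ψ => ψ F) key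

end R

/-- `pr^* O(1) ≅ O(1)`. -/
theorem nonempty_pullback_pr_one :
    Nonempty ((Scheme.Modules.pullback (pr n B)).obj (Twist.twistProjSpace n (ULift.{u} ℤ) 1) ≅
      O1 n B) := by
  obtain ⟨r, -, τ, hτ⟩ := exists_r n B
  have h := r_eq_pr n B r τ hτ
  subst h
  exact ⟨τ⟩

theorem hcov : (⨆ f : (CohB1.polyGrading n B) 1,
    Proj.basicOpen (CohB1.polyGrading n B) (f : MvPolynomial (Fin (n + 1)) B)) = ⊤ :=
  Groth.Agent.Lib.Helper17.FinCoh.iSup_basicOpen_deg_one n B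

/-- `pr^* O(k) ≅ O(k)` for `k ≥ 0`. -/
theorem nonempty_pullback_pr_nat (k : ℕ) :
    Nonempty ((Scheme.Modules.pullback (pr n B)).obj
        (Twist.twistProjSpace n (ULift.{u} ℤ) (k : ℤ)) ≅
      Twist.twist (CohB1.polyGrading n B) (k : ℤ)) := by
  obtain ⟨τ⟩ := nonempty_pullback_pr_one n B
  obtain ⟨e1⟩ := Groth.Agent.Lib.Helper83.AmpleSerre.nonempty_pullback_twist_iso n (pr n B) k
  obtain ⟨e2⟩ := Groth.Agent.Lib.Helper17.TwistTensor.nonempty_twist_iso_tensorPow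
    (CohB1.polyGrading n B) (hcov n B) k
  exact ⟨e1 ≪≫ tensorPowCongr τ k ≪≫ e2.symm⟩

/-- a module inverse to `O(a)` is `O(-a)`. -/
theorem iso_twist_neg_of_inverse (a : ℤ) (M : (P n B).Modules)
    (ε : CohB1.tensorMod M (Twist.twist (CohB1.polyGrading n B) a) ≅
      Coh.structureModule (P n B)) :
    Nonempty (M ≅ Twist.twist (CohB1.polyGrading n B) (-a)) := by
  have hloc := Groth.Agent.Lib.Helper17.TwistLoc.locGen_of_cover_one (CohB1.polyGrading n B)
    (hcov n B) a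
  obtain ⟨e1⟩ := Groth.Agent.Lib.Helper17.TwistLoc.nonempty_tensor_iso_right
    (CohB1.polyGrading n B) (-a) a hloc
  rw [neg_add_cancel] at e1
  obtain ⟨z⟩ := Groth.Agent.Lib.Helper17.TwistTensor.nonempty_twist_zero_iso
    (CohB1.polyGrading n B)
  exact ⟨(unitTensorIso M).symm ≪≫
    Groth.Agent.Lib.Helper17.TwistTensor.tensorModCongr (e1 ≪≫ z).symm (Iso.refl M) ≪≫
    tensorModAssoc _ _ _ ≪≫
    Groth.Agent.Lib.Helper17.TwistTensor.tensorModCongr (Iso.refl _)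
      (Groth.Agent.Lib.Helper17.TwistLoc.tensorModComm _ _ ≪≫ ε) ≪≫
    Groth.Agent.Lib.Helper17.TwistLoc.tensorModComm _ _ ≪≫ unitTensorIso _⟩

/-- `pr^* O(-k) ≅ O(-k)` for `k ≥ 0`. -/
theorem nonempty_pullback_pr_neg (k : ℕ) :
    Nonempty ((Scheme.Modules.pullback (pr n B)).obj
        (Twist.twistProjSpace n (ULift.{u} ℤ) (-(k : ℤ))) ≅
      Twist.twist (CohB1.polyGrading n B) (-(k : ℤ))) := by
  obtain ⟨ek⟩ := nonempty_pullback_pr_nat n B k
  obtain ⟨e1⟩ := Groth.Agent.Lib.Helper17.TwistTensor.nonempty_tensor_iso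
    (CohB1.polyGrading n (ULift.{u} ℤ)) (-(k : ℤ)) (k : ℤ) (hcov n (ULift.{u} ℤ))
  rw [neg_add_cancel] at e1
  obtain ⟨z⟩ := Groth.Agent.Lib.Helper17.TwistTensor.nonempty_twist_zero_iso
    (CohB1.polyGrading n (ULift.{u} ℤ))
  have hinv : ∀ m : ℤ, PicF.IsInvertible (Twist.twist (CohB1.polyGrading n (ULift.{u} ℤ)) m) :=
    Groth.Agent.Lib.Helper17.TwistTensor.isInvertible_twist (CohB1.polyGrading n (ULift.{u} ℤ))
      (hcov n (ULift.{u} ℤ))
  apply iso_twist_neg_of_inverse n B (k : ℤ)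
  exact Groth.Agent.Lib.Helper17.TwistTensor.tensorModCongr (Iso.refl _) ek.symm ≪≫
    (PullbackTensor.pullbackTensorIso (pr n B) _ _ (hinv _) (hinv _)).symm ≪≫
    (Scheme.Modules.pullback (pr n B)).mapIso (e1 ≪≫ z) ≪≫ CounitEpi.pullbackUnitIso (pr n B)

/-- `pr^* O(d) ≅ O(d)` for all `d`. -/
theorem nonempty_pullback_pr (d : ℤ) :
    Nonempty ((Scheme.Modules.pullback (pr n B)).obj (Twist.twistProjSpace n (ULift.{u} ℤ) d) ≅
      Twist.twist (CohB1.polyGrading n B) d) := by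
  obtain ⟨k, rfl | rfl⟩ := Int.eq_nat_or_neg d
  · exact nonempty_pullback_pr_nat n B k
  · exact nonempty_pullback_pr_neg n B k

/-- **the bridge**: `Proj B[T₀..T_n] ≅ P^n_ℤ × Spec B`, compatibly with all the twisting sheaves. -/
theorem bridge : Groth.Agent.Lib.Helper83.PnOverOpen.Bridge n B := by
  refine ⟨iso n B, fun d => ?_⟩
  obtain ⟨e⟩ := nonempty_pullback_pr n B d
  have hfst : (iso n B).hom ≫ pullback.fst (CohB1.ProjSpace.toSpec n (ULift.{u} ℤ))
      (specULiftZIsTerminal.from (Spec (CommRingCat.of B))) = pr n B :=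
    (isPullback' n B).isoPullback_hom_fst
  unfold Twist.twistOver
  exact ⟨(Scheme.Modules.pullbackComp (iso n B).hom _).app _ ≪≫
    (Scheme.Modules.pullbackCongr hfst).app _ ≪≫ e⟩

end Geom

end Groth.Agent.Lib.Helper83.PnBridge
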