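import Groth.Agent.Lib.Helper83.HHIsoScheme
import Groth.Agent.Lib.Helper17.FinCoh
import Groth.Agent.S0844

/-!
# Projective space over a scheme, over an affine open of the base (helper83)

For an affine open `V` of `Y` with `R = Γ(Y, V)`, the preimage of `V` in `P^r_Y = P^r_ℤ × Y` is
isomorphic to `P^r_{Spec R} = P^r_ℤ × Spec R`, compatibly with the twisting sheaves `twistOver`.
Given a bridge `θ : P^r_R ≅ P^r_{Spec R}` compatible with twists, the cohomology of `O(d)` on the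
preimage of `V` vanishes in the expected range.
-/

set_option autoImplicit false
universe u
open CategoryTheory CategoryTheory.Limits AlgebraicGeometry TopologicalSpace

namespace Groth.Agent.Lib.Helper83.PnOverOpen

variable (r : ℕ) (Y : Scheme.{u}) {V : Y.Opens} (hV : IsAffineOpen V)

/-- `P^r_{Spec Γ(Y,V)} ≅ P^r_Y ×_Y Spec Γ(Y,V)`. -/
noncomputable def kappa :
    CohB1.ProjSpaceOver r (Spec Γ(Y, V)) ≅
      pullback (CohB1.ProjSpaceOver.toBase r Y) hV.fromSpec :=
  pullback.congrHom rfl (specULiftZIsTerminal.hom_ext _ _) ≪≫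
    (pullbackLeftPullbackSndIso (CohB1.ProjSpace.toSpec r (ULift.{u} ℤ))
      (specULiftZIsTerminal.from Y) hV.fromSpec).symm

/-- the open immersion `P^r_{Spec Γ(Y,V)} ⟶ P^r_Y`. -/
noncomputable def m : CohB1.ProjSpaceOver r (Spec Γ(Y, V)) ⟶ CohB1.ProjSpaceOver r Y :=
  (kappa r Y hV).hom ≫ pullback.fst (CohB1.ProjSpaceOver.toBase r Y) hV.fromSpec

instance : IsOpenImmersion (m r Y hV) := by
  unfold m
  infer_instance

theorem range_m :
    Set.range (m r Y hV) = (CohB1.ProjSpaceOver.toBase r Y) ⁻¹' (V : Set Y) := by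
  unfold m
  rw [Scheme.Hom.comp_base, TopCat.coe_comp, Set.range_comp,
    Set.range_eq_univ.mpr (kappa r Y hV).hom.surjective, Set.image_univ,
    Scheme.Pullback.range_fst, hV.range_fromSpec]

theorem m_fst :
    m r Y hV ≫ pullback.fst (CohB1.ProjSpace.toSpec r (ULift.{u} ℤ))
        (specULiftZIsTerminal.from Y) =
      pullback.fst (CohB1.ProjSpace.toSpec r (ULift.{u} ℤ))
        (specULiftZIsTerminal.from (Spec Γ(Y, V))) := by
  unfold m kappa
  simp only [Iso.trans_hom, Iso.symm_hom, Category.assoc]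
  change _ ≫ _ ≫ pullback.fst (pullback.snd _ _) _ ≫ pullback.fst _ _ = _
  rw [pullbackLeftPullbackSndIso_inv_fst]
  simp only [pullback.congrHom_hom, pullback.map]
  exact pullback.lift_fst _ _ _

/-- `P^r_{Spec Γ(Y,V)}` is the preimage of `V` in `P^r_Y`. -/
noncomputable def psi0 :
    CohB1.ProjSpaceOver r (Spec Γ(Y, V)) ≅
      (((CohB1.ProjSpaceOver.toBase r Y) ⁻¹ᵁ V : (CohB1.ProjSpaceOver r Y).Opens) : Scheme.{u}) :=
  IsOpenImmersion.isoOfRangeEq (m r Y hV) ((CohB1.ProjSpaceOver.toBase r Y) ⁻¹ᵁ V).ι (by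
    rw [range_m, Scheme.Opens.range_ι]
    rfl)

theorem psi0_hom_ι :
    (psi0 r Y hV).hom ≫ ((CohB1.ProjSpaceOver.toBase r Y) ⁻¹ᵁ V).ι = m r Y hV :=
  IsOpenImmersion.isoOfRangeEq_hom_fac _ _ _

/-- the twisting sheaf of `P^r_Y`, restricted to the preimage of `V` and transported to
`P^r_{Spec Γ(Y,V)}`, is the twisting sheaf there. -/
theorem nonempty_pullback_restrict_iso (d : ℤ) :
    Nonempty ((Scheme.Modules.pullback (psi0 r Y hV).hom).obj
        ((Twist.twistOver r Y d).restrict ((CohB1.ProjSpaceOver.toBase r Y) ⁻¹ᵁ V).ι) ≅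
      Twist.twistOver r (Spec Γ(Y, V)) d) := by
  refine ⟨(Scheme.Modules.pullback (psi0 r Y hV).hom).mapIso
      ((Scheme.Modules.restrictFunctorIsoPullback _).app _) ≪≫
    (Scheme.Modules.pullbackComp (psi0 r Y hV).hom _).app _ ≪≫
    (Scheme.Modules.pullbackCongr (psi0_hom_ι r Y hV)).app _ ≪≫ ?_⟩
  unfold Twist.twistOver
  exact (Scheme.Modules.pullbackComp (m r Y hV) _).app _ ≪≫
    (Scheme.Modules.pullbackCongr (m_fst r Y hV)).app _

theorem isQuasicoherent_twistOver (S : Scheme.{u}) (d : ℤ) :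
    (Twist.twistOver r S d).IsQuasicoherent := by
  have : (Twist.twistProjSpace r (ULift.{u} ℤ) d).IsQuasicoherent :=
    (Groth.Agent.Lib.Helper17.FinCoh.isCoh_twist r (ULift.{u} ℤ) d).1
  unfold Twist.twistOver
  exact Groth.Agent.Lib.Helper16.FlatPull.isQuasicoherent_pullback _ _

/-- the form of the bridge between `Proj R[T]` and `P^r_ℤ × Spec R` that we use. -/
def Bridge (R : Type u) [CommRing R] : Prop :=
  ∃ θ : CohB1.ProjSpace r R ≅ CohB1.ProjSpaceOver r (Spec (CommRingCat.of R)),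
    ∀ d : ℤ, Nonempty ((Scheme.Modules.pullback θ.hom).obj
      (Twist.twistOver r (Spec (CommRingCat.of R)) d) ≅ Twist.twistProjSpace r R d)

include hV in
/-- vanishing of the cohomology of `O(d)` over the preimage of an affine open of the base. -/
theorem subsingleton_HH_restrict_twistOver (hB : Bridge r Γ(Y, V)) (d : ℤ) (q : ℕ)
    (h₀ : ¬ (q = 0 ∧ 0 ≤ d)) (hn : ¬ (q = r ∧ d ≤ -((r : ℤ) + 1))) :
    Subsingleton (Coh.HH
      (((CohB1.ProjSpaceOver.toBase r Y) ⁻¹ᵁ V : (CohB1.ProjSpaceOver r Y).Opens) : Scheme.{u})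
      ((Twist.twistOver r Y d).restrict ((CohB1.ProjSpaceOver.toBase r Y) ⁻¹ᵁ V).ι) q) := by
  obtain ⟨θ, hθ⟩ := hB
  obtain ⟨e₁⟩ := hθ d
  obtain ⟨e₂⟩ := nonempty_pullback_restrict_iso r Y hV d
  have hq : (Twist.twistOver r Y d).IsQuasicoherent := isQuasicoherent_twistOver r Y d
  have hq' : ((Twist.twistOver r Y d).restrict
      ((CohB1.ProjSpaceOver.toBase r Y) ⁻¹ᵁ V).ι).IsQuasicoherent := inferInstance
  rw [← HHIsoScheme.subsingleton_HH_iff_of_iso (θ.hom ≫ (psi0 r Y hV).hom)]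
  have e : (Scheme.Modules.pullback (θ.hom ≫ (psi0 r Y hV).hom)).obj
      ((Twist.twistOver r Y d).restrict ((CohB1.ProjSpaceOver.toBase r Y) ⁻¹ᵁ V).ι) ≅
      Twist.twistProjSpace r Γ(Y, V) d :=
    ((Scheme.Modules.pullbackComp θ.hom (psi0 r Y hV).hom).app _).symm ≪≫
      (Scheme.Modules.pullback θ.hom).mapIso e₂ ≪≫ e₁
  have h844 := Groth.Agent.S0844.result Γ(Y, V) r d q h₀ hn
  exact Groth.Agent.Lib.Helper17.HHIso.subsingleton_of_iso e.symm q

end Groth.Agent.Lib.Helper83.PnOverOpen
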