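import Groth.Agent.Lib.Helper83.PnOverOpen
import Groth.Agent.Lib.Helper1.SheafifyZero
import Groth.Agent.S0461
import Groth.Agent.S0463

/-!
# Higher direct images of `O(d)` along `P^r_Y ⟶ Y` (helper83)

`isZero_RpushAb_twistOver`: given the bridge `Proj R[T] ≅ P^r_ℤ × Spec R` compatible with twists,
`R^i f_* O(d) = 0` outside the two expected ranges.
-/

set_option autoImplicit false
universe u
open CategoryTheory CategoryTheory.Limits AlgebraicGeometry TopologicalSpace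

namespace Groth.Agent.Lib.Helper83.PnOverOpen

theorem isZero_RpushAb_twistOver (r : ℕ) (hB : ∀ (R : Type u) [CommRing R], Bridge r R)
    (Y : Scheme.{u}) (i : ℕ) (d : ℤ)
    (h : ¬ ((i = 0 ∧ 0 ≤ d) ∨ (i = r ∧ d ≤ -((r : ℤ) + 1)))) :
    Limits.IsZero ((Coh.RpushAb (CohB1.ProjSpaceOver.toBase r Y) i).obj
      (Coh.toAb (Twist.twistOver r Y d))) := by
  obtain ⟨e⟩ := Groth.Agent.S0461.result (CohB1.ProjSpaceOver.toBase r Y).base
    (Coh.toAb (Twist.twistOver r Y d)) i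
  refine Limits.IsZero.of_iso ?_ e
  refine Groth.Agent.Lib.Helper1.isZero_presheafToSheaf_of_basis _ Y.affineOpens
    Y.isBasis_affineOpens ?_
  intro V hV
  change Subsingleton (CohTop.HU (X := (CohB1.ProjSpaceOver r Y).toTopCat)
    (Coh.toAb (Twist.twistOver r Y d)) i ((CohB1.ProjSpaceOver.toBase r Y) ⁻¹ᵁ V))
  obtain ⟨e'⟩ := Groth.Agent.S0463.result (X := (CohB1.ProjSpaceOver r Y).toTopCat)
    (Coh.toAb (Twist.twistOver r Y d)) ((CohB1.ProjSpaceOver.toBase r Y) ⁻¹ᵁ V) i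
  exact @Equiv.subsingleton _ _ e'.toEquiv
    (subsingleton_HH_restrict_twistOver r Y hV (hB Γ(Y, V)) d i
      (fun h' => h (Or.inl h')) (fun h' => h (Or.inr h')))

end Groth.Agent.Lib.Helper83.PnOverOpen
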