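import Mathlib
import Groth.Agent.Lib.Helper5.SiteCoh

/-!
# The pullback of a free abelian sheaf on a representable is free on the image (helper83)

For a continuous functor `G : C ⥤ D` between small sites and a left adjoint `F₀` of the pushforward
`G.sheafPushforwardContinuous`, `F₀ (ℤ[h_V]) ≅ ℤ[h_{G V}]`, naturally in `V`.
-/

set_option autoImplicit false
universe u

namespace Groth.Agent.Lib.Helper83.PullFree

open CategoryTheory CategoryTheory.Limits Opposite
open Groth.Agent.Lib.Helper5.SiteCoh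

variable {C D : Type u} [SmallCategory C] [SmallCategory D]
  {J : GrothendieckTopology C} {K : GrothendieckTopology D} (G : C ⥤ D) [G.IsContinuous J K]
  {F₀ : Sheaf J AddCommGrpCat.{u} ⥤ Sheaf K AddCommGrpCat.{u}}
  (adj : F₀ ⊣ G.sheafPushforwardContinuous AddCommGrpCat.{u} J K)

/-- the universal section of the free sheaf -/
noncomputable def uX (W : D) : (freeSheaf K W).obj.obj (op W) := β W _ (𝟙 _)

lemma β_eq (W : D) (T : Sheaf K AddCommGrpCat.{u}) (g : freeSheaf K W ⟶ T) :
    β W T g = g.hom.app (op W) (uX W) := by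
  rw [uX, ← β_naturality, Category.id_comp]

/-- the unit-like map `ℤ[h_V] ⟶ G_* ℤ[h_{G V}]` -/
noncomputable def ιV (V : C) :
    freeSheaf J V ⟶ (G.sheafPushforwardContinuous AddCommGrpCat.{u} J K).obj (freeSheaf K (G.obj V)) :=
  (β V ((G.sheafPushforwardContinuous AddCommGrpCat.{u} J K).obj (freeSheaf K (G.obj V)))).symm
    (uX (G.obj V))

/-- the comparison map `F₀ ℤ[h_V] ⟶ ℤ[h_{G V}]` -/
noncomputable def cV (V : C) : F₀.obj (freeSheaf J V) ⟶ freeSheaf K (G.obj V) :=
  (adj.homEquiv _ _).symm (ιV G V)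

lemma β_ιV (V : C) :
    (β V ((G.sheafPushforwardContinuous AddCommGrpCat.{u} J K).obj (freeSheaf K (G.obj V)))
      (ιV G V) : (freeSheaf K (G.obj V)).obj.obj (op (G.obj V))) = uX (G.obj V) :=
  Equiv.apply_symm_apply _ _

lemma key (V : C) (T : Sheaf K AddCommGrpCat.{u}) (g : freeSheaf K (G.obj V) ⟶ T) :
    β V ((G.sheafPushforwardContinuous AddCommGrpCat.{u} J K).obj T)
      (adj.homEquiv _ _ (cV G adj V ≫ g)) = β (G.obj V) T g := by
  have h1 : adj.homEquiv _ _ (cV G adj V ≫ g) =
      ιV G V ≫ (G.sheafPushforwardContinuous AddCommGrpCat.{u} J K).map g := by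
    rw [Adjunction.homEquiv_naturality_right, cV, Equiv.apply_symm_apply]
  rw [h1, β_naturality, β_eq]
  exact congrArg (fun t => g.hom.app (op (G.obj V)) t) (β_ιV G V)

instance isIso_cV (V : C) : IsIso (cV G adj V) := by
  rw [isIso_iff_coyoneda_map_bijective]
  intro T
  have h1 : Function.Bijective (fun g : freeSheaf K (G.obj V) ⟶ T => β (G.obj V) T g) :=
    (β (G.obj V) T).bijective
  have h2 : (fun g : freeSheaf K (G.obj V) ⟶ T => β (G.obj V) T g) =
      (fun k => β V ((G.sheafPushforwardContinuous AddCommGrpCat.{u} J K).obj T)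
        (adj.homEquiv _ _ k)) ∘ (fun g => cV G adj V ≫ g) := by
    funext g
    exact (key G adj V T g).symm
  rw [h2] at h1
  exact (Function.Bijective.of_comp_iff'
    (((adj.homEquiv _ _).trans (β V _)).bijective) _).1 h1

lemma cV_naturality {V' V : C} (h : V' ⟶ V) :
    F₀.map (freeMap J h) ≫ cV G adj V = cV G adj V' ≫ freeMap K (G.map h) := by
  apply (adj.homEquiv _ _).injective
  apply (β V' _).injective
  rw [key]
  have h1 : adj.homEquiv _ _ (F₀.map (freeMap J h) ≫ cV G adj V) = freeMap J h ≫ ιV G V := by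
    rw [Adjunction.homEquiv_naturality_left, cV, Equiv.apply_symm_apply]
  rw [h1, β_freeMap]
  have h3 := β_freeMap (J := K) (G.map h) _ (𝟙 (freeSheaf K (G.obj V)))
  rw [Category.comp_id] at h3
  rw [h3]
  exact congrArg (fun t => (freeSheaf K (G.obj V)).obj.map (G.map h).op t) (β_ιV G V)

/-- `F₀ ℤ[h_V] ≅ ℤ[h_{G V}]` -/
noncomputable def isoV (V : C) : F₀.obj (freeSheaf J V) ≅ freeSheaf K (G.obj V) :=
  asIso (cV G adj V)

end Groth.Agent.Lib.Helper83.PullFree
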