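import Mathlib
import Groth.Prelude.Def_Coh
import Groth.Agent.Lib.Helper83.ExtLimitCone
import Groth.Agent.Lib.Helper83.SmallDerived
import Groth.Agent.Lib.Helper83.TopPush
import Groth.Agent.Lib.Helper1.AffineVanishing
import Groth.Agent.Lib.Helper42.QCohAffineSections

/-!
# Towers of quasi-coherent modules with surjective transition maps

For a tower `G : ℕᵒᵖ ⥤ X.Modules` of quasi-coherent modules on a scheme with epimorphic transition
maps: `lim G_n` is acyclic on affine opens, and `Ext^i(S, lim G_n)` (abelian sheaves) sits in the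
Milnor sequence.
-/

set_option autoImplicit false
universe u

namespace Groth.Agent.Lib.Helper83.QCohTower

open CategoryTheory Limits Opposite AlgebraicGeometry TopologicalSpace

variable {X : Scheme.{u}} (G : ℕᵒᵖ ⥤ X.Modules)

lemma preservesLimitsOfShape_toSheaf :
    PreservesLimitsOfShape ℕᵒᵖ (SheafOfModules.toSheaf.{u} X.ringCatSheaf) := by
  have hpres0 : PreservesLimitsOfShape ℕᵒᵖ
      (SheafOfModules.toSheaf.{u} X.ringCatSheaf ⋙ sheafToPresheaf _ _) :=
    comp_preservesLimitsOfShape (SheafOfModules.forget.{u} X.ringCatSheaf)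
      (PresheafOfModules.toPresheaf X.ringCatSheaf.obj)
  exact preservesLimitsOfShape_of_reflects_of_preserves _ (sheafToPresheaf _ _)

/-- the image cone of abelian sheaves of the limit cone of a tower of modules -/
noncomputable abbrev abCone : Cone (G ⋙ SheafOfModules.toSheaf.{u} X.ringCatSheaf) :=
  (SheafOfModules.toSheaf.{u} X.ringCatSheaf).mapCone (limit.cone G)

noncomputable def abConeIsLimit : IsLimit (abCone G) := by
  have := preservesLimitsOfShape_toSheaf (X := X)
  exact isLimitOfPreserves _ (limit.isLimit G)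

variable (hq : ∀ n : ℕ, (G.obj (op n)).IsQuasicoherent)
  (hepi : ∀ n : ℕ, Epi (G.map (homOfLE (Nat.le_succ n)).op))

include hq in
lemma h1 : ∀ V ∈ X.affineOpens, ∀ (p n : ℕ), Subsingleton (CohSite.HU
    ((G ⋙ SheafOfModules.toSheaf.{u} X.ringCatSheaf).obj (op n)) (p + 1) V) := by
  intro V hV p n
  have : (G.obj (Opposite.op n)).IsQuasicoherent := hq n
  exact Groth.Agent.Lib.Helper1.subsingleton_HU_of_isAffineOpen (G.obj (Opposite.op n)) V hV p

include hq hepi in
lemma h2 : ∀ V ∈ X.affineOpens, ∀ n : ℕ, Function.Surjective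
    (((G ⋙ SheafOfModules.toSheaf.{u} X.ringCatSheaf).map
      (homOfLE (Nat.le_succ n)).op).hom.app (op V)).hom := by
  intro V hV n
  have : (G.obj (Opposite.op n)).IsQuasicoherent := hq n
  have : (G.obj (Opposite.op (n + 1))).IsQuasicoherent := hq (n + 1)
  have := hepi n
  exact Groth.Agent.Lib.Helper42.app_surjective_of_epi (G.map (homOfLE (Nat.le_succ n)).op) hV

include hq hepi in
theorem subsingleton_HU_limit (U : X.Opens) (hU : IsAffineOpen U) (q : ℕ) :
    Subsingleton (CohTop.HU (X := X.toTopCat) (Coh.toAb (limit G)) (q + 1) U) := by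
  letI := Groth.Agent.Lib.Helper83.SmallDerived.hasDerivedCategory
    (Sheaf (Opens.grothendieckTopology X) AddCommGrpCat.{u})
  exact Groth.Agent.Lib.Helper83.ExtLimit.subsingleton_HU_cone
    (G ⋙ SheafOfModules.toSheaf.{u} X.ringCatSheaf) (abCone G) (abConeIsLimit G) X.affineOpens
    (Groth.Agent.Lib.Helper83.TopPush.cover_of_isBasis (Y := X.toTopCat) X.isBasis_affineOpens)
    (h1 G hq) (h2 G hq hepi) U hU q

include hq hepi in
theorem ext_limit_qcoh (S : Sheaf (Opens.grothendieckTopology X) AddCommGrpCat.{u}) (i j : ℕ)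
    (hij : j + 1 = i) :
    (∀ ξ : ∀ n : ℕ, Abelian.Ext.{u} S (Coh.toAb (G.obj (op n))) i,
      (∀ n, (Abelian.Ext.mk₀ ((SheafOfModules.toSheaf.{u} X.ringCatSheaf).map
        (G.map (homOfLE (Nat.le_succ n)).op))).postcomp S (add_zero i) (ξ (n + 1)) = ξ n) →
        ∃ η : Abelian.Ext.{u} S (Coh.toAb (limit G)) i,
          ∀ n, (Abelian.Ext.mk₀ ((SheafOfModules.toSheaf.{u} X.ringCatSheaf).map
            (limit.π G (op n)))).postcomp S (add_zero i) η = ξ n) ∧
    Nonempty ((AddMonoidHom.pi fun n : ℕ =>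
        (Abelian.Ext.mk₀ ((SheafOfModules.toSheaf.{u} X.ringCatSheaf).map
          (limit.π G (op n)))).postcomp S (add_zero i)).ker ≃+
      Formal2.limOne (fun n : ℕ => Abelian.Ext.{u} S (Coh.toAb (G.obj (op n))) j)
        (fun n : ℕ => (Abelian.Ext.mk₀ ((SheafOfModules.toSheaf.{u} X.ringCatSheaf).map
          (G.map (homOfLE (Nat.le_succ n)).op))).postcomp S (add_zero j))) := by
  letI := Groth.Agent.Lib.Helper83.SmallDerived.hasDerivedCategory
    (Sheaf (Opens.grothendieckTopology X) AddCommGrpCat.{u})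
  exact Groth.Agent.Lib.Helper83.ExtLimit.ext_limit_cone
    (G ⋙ SheafOfModules.toSheaf.{u} X.ringCatSheaf) (abCone G) (abConeIsLimit G) X.affineOpens
    (Groth.Agent.Lib.Helper83.TopPush.cover_of_isBasis (Y := X.toTopCat) X.isBasis_affineOpens)
    (h1 G hq) (h2 G hq hepi) S i j hij

end Groth.Agent.Lib.Helper83.QCohTower
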