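import Groth.Prelude.Def_RDerDelta
import Mathlib.Algebra.Homology.HomologySequenceLemmas

/-!
# Helper library: morphisms of injective resolutions of short exact sequences

Naturality / independence of `RDer.SESRes.delta`.
-/

universe v u v' u'

open CategoryTheory CategoryTheory.Limits

noncomputable section

namespace Groth.Agent.Lib.Helper83

open RDer

variable {C : Type u} [Category.{v} C] [Abelian C] {D : Type u'} [Category.{v'} D] [Abelian D]

/-- A morphism of resolutions of short complexes lying over `φ` (only the outer components are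
required to lie over `φ`). -/
structure SESResHom {S S' : ShortComplex C} (φ : S ⟶ S') (T : SESRes S) (T' : SESRes S') where
  Φ : T.cx ⟶ T'.cx
  ι₁ : T.I₁.ι ≫ Φ.τ₁ = (CochainComplex.single₀ C).map φ.τ₁ ≫ T'.I₁.ι
  ι₃ : T.I₃.ι ≫ Φ.τ₃ = (CochainComplex.single₀ C).map φ.τ₃ ≫ T'.I₃.ι

section

variable {S S' : ShortComplex C} (φ : S ⟶ S') (T : SESRes S) (T' : SESRes S')

/-- the degreewise section of `T'.g` -/
def sec (n : ℕ) : T'.I₃.cocomplex.X n ⟶ T'.I₂.cocomplex.X n := (T'.splitting n).s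

lemma sec_g (n : ℕ) : sec T' n ≫ T'.g.f n = 𝟙 _ := (T'.splitting n).s_g

def psi₂ : T.I₂.cocomplex ⟶ T'.I₂.cocomplex := InjectiveResolution.desc φ.τ₂ T'.I₂ T.I₂

def phi₃ : T.I₃.cocomplex ⟶ T'.I₃.cocomplex := InjectiveResolution.desc φ.τ₃ T'.I₃ T.I₃

lemma ι_psi₂ : T.I₂.ι ≫ psi₂ φ T T' = (CochainComplex.single₀ C).map φ.τ₂ ≫ T'.I₂.ι :=
  InjectiveResolution.desc_commutes _ _ _

lemma ι_phi₃ : T.I₃.ι ≫ phi₃ φ T T' = (CochainComplex.single₀ C).map φ.τ₃ ≫ T'.I₃.ι :=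
  InjectiveResolution.desc_commutes _ _ _

def htpy : Homotopy (psi₂ φ T T' ≫ T'.g) (T.g ≫ phi₃ φ T T') :=
  InjectiveResolution.descHomotopy (S.g ≫ φ.τ₃) _ _
    (by
      rw [← Category.assoc, ι_psi₂, Category.assoc, T'.ι_g, ← Category.assoc, ← Functor.map_comp,
        φ.comm₂₃])
    (by
      rw [← Category.assoc, T.ι_g, Category.assoc, ι_phi₃, ← Category.assoc, ← Functor.map_comp])

def homLift (i j : ℕ) : T.I₂.cocomplex.X i ⟶ T'.I₂.cocomplex.X j :=
  (htpy φ T T').hom i j ≫ sec T' j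

def phi₂ : T.I₂.cocomplex ⟶ T'.I₂.cocomplex :=
  psi₂ φ T T' - Homotopy.nullHomotopicMap (homLift φ T T')

lemma phi₂_g : phi₂ φ T T' ≫ T'.g = T.g ≫ phi₃ φ T T' := by
  have h1 : psi₂ φ T T' ≫ T'.g - T.g ≫ phi₃ φ T T' =
      Homotopy.nullHomotopicMap (htpy φ T T').hom := by
    ext i
    have := (htpy φ T T').comm i
    simp only [HomologicalComplex.sub_f_apply, Homotopy.nullHomotopicMap]
    rw [this]
    abel
  have h2 : Homotopy.nullHomotopicMap (homLift φ T T') ≫ T'.g =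
      Homotopy.nullHomotopicMap (htpy φ T T').hom := by
    rw [Homotopy.nullHomotopicMap_comp]
    congr 1
    ext i j
    simp only [homLift, Category.assoc, sec_g, Category.comp_id]
  rw [phi₂, Preadditive.sub_comp, h2, ← h1]
  abel

lemma ι_nullHomotopicMap :
    T.I₂.ι ≫ Homotopy.nullHomotopicMap (homLift φ T T') = 0 := by
  apply HomologicalComplex.from_single_hom_ext
  simp only [HomologicalComplex.comp_f, HomologicalComplex.zero_f]
  rw [Homotopy.nullHomotopicMap]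
  simp only [Preadditive.comp_add]
  have h1 : T.I₂.ι.f 0 ≫ dNext 0 (homLift φ T T') = 0 := by
    rw [dNext_eq (homLift φ T T') (show (ComplexShape.up ℕ).Rel 0 1 by simp)]
    rw [← Category.assoc, T.I₂.ι_f_zero_comp_complex_d, zero_comp]
  have h2 : prevD 0 (homLift φ T T') = 0 := by
    simp [prevD]
  rw [h1, h2, comp_zero, add_zero]

lemma ι_phi₂ : T.I₂.ι ≫ phi₂ φ T T' = (CochainComplex.single₀ C).map φ.τ₂ ≫ T'.I₂.ι := by
  rw [phi₂, Preadditive.comp_sub, ι_nullHomotopicMap, sub_zero, ι_psi₂]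

lemma f_phi₂_g : (T.f ≫ phi₂ φ T T') ≫ T'.g = 0 := by
  rw [Category.assoc, phi₂_g, ← Category.assoc, T.zero, zero_comp]

instance : Mono T'.cx.f := T'.shortExact.mono_f

def phi₁ : T.I₁.cocomplex ⟶ T'.I₁.cocomplex :=
  T'.shortExact.exact.lift (T.f ≫ phi₂ φ T T') (f_phi₂_g φ T T')

lemma phi₁_f : phi₁ φ T T' ≫ T'.f = T.f ≫ phi₂ φ T T' :=
  T'.shortExact.exact.lift_f _ _

lemma ι_phi₁ : T.I₁.ι ≫ phi₁ φ T T' = (CochainComplex.single₀ C).map φ.τ₁ ≫ T'.I₁.ι := by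
  have : Mono T'.f := T'.shortExact.mono_f
  rw [← cancel_mono T'.f, Category.assoc, phi₁_f, ← Category.assoc, T.ι_f, Category.assoc, ι_phi₂,
    Category.assoc, T'.ι_f, ← Category.assoc, ← Category.assoc, ← Functor.map_comp,
    ← Functor.map_comp, φ.comm₁₂]

/-- The morphism of resolutions lying over `φ`. -/
def sesResHom : SESResHom φ T T' where
  Φ :=
    { τ₁ := phi₁ φ T T'
      τ₂ := phi₂ φ T T'
      τ₃ := phi₃ φ T T'
      comm₁₂ := phi₁_f φ T T'
      comm₂₃ := phi₂_g φ T T' }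
  ι₁ := ι_phi₁ φ T T'
  ι₃ := ι_phi₃ φ T T'

end

section

variable [HasInjectiveResolutions C] (F : C ⥤ D) [F.Additive]

theorem delta_natural {S S' : ShortComplex C} (φ : S ⟶ S') (T : SESRes S) (T' : SESRes S')
    (n₀ n₁ : ℕ) (h : n₀ + 1 = n₁) :
    (F.rightDerived n₀).map φ.τ₃ ≫ T'.delta F n₀ n₁ h =
      T.delta F n₀ n₁ h ≫ (F.rightDerived n₁).map φ.τ₁ := by
  let Ψ := sesResHom φ T T'
  have c3 : T.I₃.ι.f 0 ≫ Ψ.Φ.τ₃.f 0 = φ.τ₃ ≫ T'.I₃.ι.f 0 := by
    have := HomologicalComplex.congr_hom Ψ.ι₃ 0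
    simpa using this
  have c1 : T.I₁.ι.f 0 ≫ Ψ.Φ.τ₁.f 0 = φ.τ₁ ≫ T'.I₁.ι.f 0 := by
    have := HomologicalComplex.congr_hom Ψ.ι₁ 0
    simpa using this
  have h3 := InjectiveResolution.isoRightDerivedObj_hom_naturality φ.τ₃ T.I₃ T'.I₃ Ψ.Φ.τ₃ c3 F n₀
  have h1 := InjectiveResolution.isoRightDerivedObj_hom_naturality φ.τ₁ T.I₁ T'.I₁ Ψ.Φ.τ₁ c1 F n₁
  have hδ := HomologicalComplex.HomologySequence.δ_naturality
    ((F.mapHomologicalComplex (ComplexShape.up ℕ)).mapShortComplex.map Ψ.Φ)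
    (T.map_shortExact F) (T'.map_shortExact F) n₀ n₁ h
  have e1 := SESRes.delta_comp_isoRightDerivedObj_hom T' F n₀ n₁ h
  have e2 := SESRes.delta_comp_isoRightDerivedObj_hom T F n₀ n₁ h
  rw [← cancel_mono (T'.I₁.isoRightDerivedObj F n₁).hom]
  refine ((Category.assoc _ _ _).trans ((whisker_eq _ e1).trans ((Category.assoc _ _ _).symm.trans
    ((eq_whisker h3 _).trans ((Category.assoc _ _ _).trans (whisker_eq _ hδ.symm)))))).trans ?_
  refine Eq.symm ?_
  exact (Category.assoc _ _ _).trans ((whisker_eq _ h1).trans ((Category.assoc _ _ _).symm.trans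
    ((eq_whisker e2 _).trans (Category.assoc _ _ _))))

theorem delta_indep {S : ShortComplex C} (T T' : SESRes S) (n₀ n₁ : ℕ) (h : n₀ + 1 = n₁) :
    T.delta F n₀ n₁ h = T'.delta F n₀ n₁ h := by
  have := delta_natural F (𝟙 S) T T' n₀ n₁ h
  simpa using this.symm

end

end Groth.Agent.Lib.Helper83
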