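import Mathlib
import Groth.Agent.Lib.Helper32.TriRF

/-!
# Total right derived functors of additive functors are additive (helper83)
-/

set_option autoImplicit false
universe w w' v v' u u'
open CategoryTheory CategoryTheory.Limits DerivedCategory

namespace Groth.Agent.Lib.Helper83.RFAdd

open Groth.Agent.Lib.Helper32.KInjDerived Groth.Agent.Lib.Helper32.TriRF

variable {A : Type u} [Category.{v} A] [Abelian A] [HasDerivedCategory.{w} A]
  {B : Type u'} [Category.{v'} B] [Abelian B] [HasDerivedCategory.{w'} B]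
  (F : A ⥤ B) [F.Additive]
  (RF : DerivedCategory A ⥤ DerivedCategory B)
  (α : F.mapHomotopyCategory (ComplexShape.up ℤ) ⋙ DerivedCategory.Qh ⟶ DerivedCategory.Qh ⋙ RF)
  [RF.IsRightDerivedFunctor α (HomotopyCategory.quasiIso A (ComplexShape.up ℤ))]

include α in
lemma map_Q_add (hA : HasKInjRes A) {I J : CochainComplex A ℤ} [I.IsKInjective] [J.IsKInjective]
    (φ ψ : I ⟶ J) : RF.map (Q.map (φ + ψ)) = RF.map (Q.map φ) + RF.map (Q.map ψ) := by
  have := isIso_β F RF α hA I
  have h : ∀ χ : I ⟶ J, RF.map (Q.map χ) =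
      inv (β F RF α I) ≫ Q.map ((F.mapHomologicalComplex (ComplexShape.up ℤ)).map χ) ≫
        β F RF α J := by
    intro χ
    rw [β_naturality, IsIso.inv_hom_id_assoc]
  rw [h, h φ, h ψ, Functor.map_add, Functor.map_add, Preadditive.add_comp, Preadditive.comp_add]

include α in
theorem additive (hA : HasKInjRes A) : RF.Additive := by
  constructor
  intro X Y f g
  obtain ⟨I, hI, ⟨eX⟩⟩ := exists_kInj_rep hA X
  obtain ⟨J, hJ, ⟨eY⟩⟩ := exists_kInj_rep hA Y
  have := hI
  have := hJ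
  obtain ⟨φ, hφ⟩ := exists_Q_map_eq (eX.hom ≫ f ≫ eY.inv)
  obtain ⟨ψ, hψ⟩ := exists_Q_map_eq (eX.hom ≫ g ≫ eY.inv)
  have hf : f = eX.inv ≫ Q.map φ ≫ eY.hom := by
    rw [hφ]; simp
  have hg : g = eX.inv ≫ Q.map ψ ≫ eY.hom := by
    rw [hψ]; simp
  have hfg : f + g = eX.inv ≫ Q.map (φ + ψ) ≫ eY.hom := by
    rw [Functor.map_add, Preadditive.add_comp, Preadditive.comp_add, ← hf, ← hg]
  rw [hfg, RF.map_comp, RF.map_comp, map_Q_add F RF α hA, Preadditive.add_comp,
    Preadditive.comp_add, ← RF.map_comp, ← RF.map_comp, ← RF.map_comp, ← RF.map_comp, ← hf, ← hg]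

end Groth.Agent.Lib.Helper83.RFAdd
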