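import Mathlib
import Groth.Agent.Lib.Helper32.TriRF
import Groth.Agent.Lib.Helper32.FAcyclic

/-!
# The total right derived functor on bounded below complexes of acyclic objects (helper83)
-/

set_option autoImplicit false
universe w w' v v' u u'
open CategoryTheory CategoryTheory.Limits DerivedCategory

namespace Groth.Agent.Lib.Helper83.RFBdd

open Groth.Agent.Lib.Helper32 Groth.Agent.Lib.Helper32.KInjDerived Groth.Agent.Lib.Helper32.TriRF

variable {A : Type u} [Category.{v} A] [Abelian A] [EnoughInjectives A]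
  {B : Type u'} [Category.{v'} B] [Abelian B]
  (F : A ⥤ B) [F.Additive] [PreservesFiniteLimits F]

lemma h2 (S : ShortComplex A) (hS : S.ShortExact) (h₁ : FAcyclic.acyc F S.X₁)
    (h₂ : FAcyclic.acyc F S.X₂) : FAcyclic.acyc F S.X₃ ∧ (S.map F).ShortExact := by
  refine ⟨(FAcyclic.two_of_three F S hS h₁).1 h₂, ?_⟩
  have hl := (Functor.preservesFiniteLimits_iff_forall_exact_map_and_mono F).1 inferInstance S hS
  exact { exact := hl.1, mono_f := hl.2, epi_g := FAcyclic.epi_map_of_acyc F S hS h₁ }

omit [PreservesFiniteLimits F] in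
lemma acyc_of_isZero (Z : A) (hZ : IsZero Z) : FAcyclic.acyc F Z := fun _ _ =>
  Functor.map_isZero _ hZ

/-- `F` preserves quasi-isomorphisms between bounded below complexes of `F`-acyclic objects -/
lemma quasiIso_map {K L : CochainComplex A ℤ} (f : K ⟶ L) [QuasiIso f] (a : ℤ)
    [K.IsStrictlyGE a] [L.IsStrictlyGE a]
    (hK : ∀ k, FAcyclic.acyc F (K.X k)) (hL : ∀ k, FAcyclic.acyc F (L.X k)) :
    QuasiIso ((F.mapHomologicalComplex (ComplexShape.up ℤ)).map f) := by
  rw [ConeAcyclic.quasiIso_map_iff_acyclic_map_mappingCone]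
  have : (CochainComplex.mappingCone f).IsStrictlyGE (a - 1) :=
    CochainComplex.isStrictlyGE_mappingCone f a a (a - 1)
  refine Adapted.acyclic_map F (FAcyclic.acyc F) (h2 F) _ (a - 1)
    ((ConeAcyclic.quasiIso_iff_acyclic_mappingCone f).1 inferInstance) (fun k => ?_)
    (acyc_of_isZero F)
  have e : (CochainComplex.mappingCone f).X k ≅ K.X (k + 1) ⊞ L.X k :=
    HomologicalComplex.homotopyCofiber.XIsoBiprod f k (k + 1) rfl
  exact (FAcyclic.acyc F).prop_of_iso e.symm
    (FinPRes.prop_biprod (FAcyclic.acyc F) (FAcyclic.two_of_three F) (hK _) (hL _))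

variable [HasDerivedCategory.{w} A] [HasDerivedCategory.{w'} B]
  (RF : DerivedCategory A ⥤ DerivedCategory B)
  (α : F.mapHomotopyCategory (ComplexShape.up ℤ) ⋙ DerivedCategory.Qh ⟶ DerivedCategory.Qh ⋙ RF)
  [RF.IsRightDerivedFunctor α (HomotopyCategory.quasiIso A (ComplexShape.up ℤ))]

/-- the comparison map is an isomorphism on bounded below complexes of `F`-acyclic objects -/
lemma isIso_β (hA : HasKInjRes A) (L : CochainComplex A ℤ) (a : ℤ) [L.IsStrictlyGE a]
    (hL : ∀ k, FAcyclic.acyc F (L.X k)) : IsIso (β F RF α L) := by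
  obtain ⟨I, j, hj, hI, hIa⟩ :=
    CochainComplex.Plus.modelCategoryQuillen.exists_quasiIso_injective L a
  have : I.IsKInjective := CochainComplex.isKInjective_of_injective I a
  have h1 : IsIso (β F RF α I) := TriRF.isIso_β F RF α hA I
  have h2 : QuasiIso ((F.mapHomologicalComplex (ComplexShape.up ℤ)).map j) :=
    quasiIso_map F j a hL (fun k => FAcyclic.acyc_of_injective F _)
  have h3 : IsIso (Q.map ((F.mapHomologicalComplex (ComplexShape.up ℤ)).map j)) :=
    (isIso_Q_map_iff_quasiIso B _).2 h2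
  have h4 : IsIso (Q.map j) := (isIso_Q_map_iff_quasiIso A _).2 hj
  have h5 : IsIso (RF.map (Q.map j)) := inferInstance
  have hn := β_naturality F RF α j
  have h6 : β F RF α L = (Q.map ((F.mapHomologicalComplex (ComplexShape.up ℤ)).map j) ≫
      β F RF α I) ≫ inv (RF.map (Q.map j)) := by
    rw [hn, Category.assoc, IsIso.hom_inv_id, Category.comp_id]
  rw [h6]
  infer_instance

end Groth.Agent.Lib.Helper83.RFBdd
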