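import Mathlib
import Groth.Agent.Lib.Helper30.SigmaGE

/-!
# The exhaustive sequence of stupid truncations `σ_{≥ -n} K` (helper83)
-/

set_option autoImplicit false
universe v u

namespace Groth.Agent.Lib.Helper83.SigmaSeq

open CategoryTheory CategoryTheory.Limits Groth.Agent.Lib.Helper30.SigmaGE

variable {A : Type u} [Category.{v} A] [Abelian A] (K : CochainComplex A ℤ)

lemma ιGE_πLT_eq_zero (m m' : ℤ) (h : m' ≤ m) : ιGE K m ≫ πLT K m' = 0 := by
  ext j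
  by_cases hj : j < m
  · exact (isZero_sigmaGE_X K m j hj).eq_of_src _ _
  · exact (isZero_sigmaLT_X K m' j (by omega)).eq_of_tgt _ _

/-- `σ_{≥ -n} K` -/
noncomputable def Ln (n : ℕ) : CochainComplex A ℤ := sigmaGE K (-(n : ℤ))

/-- the inclusion `σ_{≥ -n} K ⟶ K` -/
noncomputable def ιn (n : ℕ) : Ln K n ⟶ K := ιGE K (-(n : ℤ))

/-- the inclusion `σ_{≥ -n} K ⟶ σ_{≥ -(n+1)} K` -/
noncomputable def tn (n : ℕ) : Ln K n ⟶ Ln K (n + 1) :=
  kernel.lift (πLT K (-((n + 1 : ℕ) : ℤ))) (ιGE K (-(n : ℤ)))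
    (ιGE_πLT_eq_zero K _ _ (by push_cast; omega))

lemma tn_ιn (n : ℕ) : tn K n ≫ ιn K (n + 1) = ιn K n :=
  kernel.lift_ι _ _ _

lemma isIso_ιn_f (n : ℕ) (j : ℤ) (h : -(n : ℤ) ≤ j) : IsIso ((ιn K n).f j) :=
  isIso_ιGE_f K _ j h

lemma isZero_Ln_X (n : ℕ) (j : ℤ) (h : j < -(n : ℤ)) : IsZero ((Ln K n).X j) :=
  isZero_sigmaGE_X K _ j h

instance (n : ℕ) : (Ln K n).IsStrictlyGE (-(n : ℤ)) := by
  rw [CochainComplex.isStrictlyGE_iff]
  intro j hj
  exact isZero_Ln_X K n j hj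

lemma exists_isIso_ιn_f (j : ℤ) : ∃ N : ℕ, ∀ n, N ≤ n → IsIso ((ιn K n).f j) := by
  refine ⟨(-j).toNat, fun n hn => isIso_ιn_f K n j ?_⟩
  have := Int.self_le_toNat (-j)
  have : ((-j).toNat : ℤ) ≤ n := by exact_mod_cast hn
  omega

/-- a property of objects stable under isomorphisms and containing zero objects passes to the
terms of the truncations -/
lemma prop_Ln_X (P : ObjectProperty A) [P.IsClosedUnderIsomorphisms]
    (hZ : ∀ Z : A, IsZero Z → P Z) (hK : ∀ k, P (K.X k)) (n : ℕ) (j : ℤ) : P ((Ln K n).X j) := by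
  by_cases h : j < -(n : ℤ)
  · exact hZ _ (isZero_Ln_X K n j h)
  · have := isIso_ιn_f K n j (by omega)
    exact P.prop_of_iso (asIso ((ιn K n).f j)).symm (hK j)

end Groth.Agent.Lib.Helper83.SigmaSeq
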