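import Mathlib
import Groth.Agent.Lib.Helper83.ExhSeq
import Groth.Agent.Lib.Helper83.SigmaSeq
import Groth.Agent.Lib.Helper83.RFAdd
import Groth.Agent.Lib.Helper83.RFBdd

/-!
# `F(K) ⟶ RF(K)` is an isomorphism for complexes of `F`-acyclics when `RF` commutes with
countable coproducts (helper83)
-/

set_option autoImplicit false
universe w w' v v' u u'
open CategoryTheory CategoryTheory.Limits DerivedCategory CategoryTheory.Pretriangulated

namespace Groth.Agent.Lib.Helper83.RFColim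

open Groth.Agent.Lib.Helper32 Groth.Agent.Lib.Helper32.KInjDerived Groth.Agent.Lib.Helper32.TriRF
  Groth.Agent.Lib.Helper32.DCoprod

section Homology

variable {B : Type u'} [Category.{v'} B] [Abelian B]

/-- a chain map which is an isomorphism in degrees `m - 1`, `m`, `m + 1` induces an isomorphism on
`H^m` -/
lemma isIso_homologyMap_of_isIso_f {X Y : CochainComplex B ℤ} (φ : X ⟶ Y) (m : ℤ)
    (h₁ : IsIso (φ.f (m - 1))) (h₂ : IsIso (φ.f m)) (h₃ : IsIso (φ.f (m + 1))) :
    IsIso (HomologicalComplex.homologyMap φ m) := by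
  have e₁ : (ComplexShape.up ℤ).prev m = m - 1 := by simp
  have e₃ : (ComplexShape.up ℤ).next m = m + 1 := by simp
  have : Epi ((HomologicalComplex.shortComplexFunctor B (ComplexShape.up ℤ) m).map φ).τ₁ := by
    change Epi (φ.f ((ComplexShape.up ℤ).prev m))
    rw [e₁]; infer_instance
  have : IsIso ((HomologicalComplex.shortComplexFunctor B (ComplexShape.up ℤ) m).map φ).τ₂ := h₂
  have : Mono ((HomologicalComplex.shortComplexFunctor B (ComplexShape.up ℤ) m).map φ).τ₃ := by
    change Mono (φ.f ((ComplexShape.up ℤ).next m))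
    rw [e₃]; infer_instance
  exact ShortComplex.isIso_homologyMap_of_epi_of_isIso_of_mono
    ((HomologicalComplex.shortComplexFunctor B (ComplexShape.up ℤ) m).map φ)

end Homology

variable {A : Type u} [Category.{v} A] [Abelian A] [EnoughInjectives A]
  [HasDerivedCategory.{w} A]
  {B : Type u'} [Category.{v'} B] [Abelian B] [HasDerivedCategory.{w'} B]
  (F : A ⥤ B) [F.Additive] [PreservesFiniteLimits F]
  (RF : DerivedCategory A ⥤ DerivedCategory B)
  (α : F.mapHomotopyCategory (ComplexShape.up ℤ) ⋙ DerivedCategory.Qh ⟶ DerivedCategory.Qh ⋙ RF)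
  [RF.IsRightDerivedFunctor α (HomotopyCategory.quasiIso A (ComplexShape.up ℤ))]
  [HasColimitsOfShape (Discrete ℕ) A] [HasExactColimitsOfShape (Discrete ℕ) A]
  [HasColimitsOfShape ℕ A] [HasExactColimitsOfShape ℕ A]
  [HasColimitsOfShape (Discrete ℕ) B] [HasExactColimitsOfShape (Discrete ℕ) B]
  [HasColimitsOfShape ℕ B] [HasExactColimitsOfShape ℕ B]
  [PreservesColimitsOfShape (Discrete ℕ) RF]

set_option maxHeartbeats 1600000 in
include α in
theorem isIso_β_of_acyc (hA : HasKInjRes A) (K : CochainComplex A ℤ)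
    (hK : ∀ k, FAcyclic.acyc F (K.X k)) : IsIso (β F RF α K) := by
  have : RF.Additive := RFAdd.additive F RF α hA
  let Φ := F.mapHomologicalComplex (ComplexShape.up ℤ)
  let L := SigmaSeq.Ln K
  let t := SigmaSeq.tn K
  let ι := SigmaSeq.ιn K
  let FL : ℕ → CochainComplex B ℤ := fun n => Φ.obj (L n)
  let Ft : ∀ n, FL n ⟶ FL (n + 1) := fun n => Φ.map (t n)
  let Fι : ∀ n, FL n ⟶ Φ.obj K := fun n => Φ.map (ι n)
  have hι : ∀ n, t n ≫ ι (n + 1) = ι n := SigmaSeq.tn_ιn K
  have hFι : ∀ n, Ft n ≫ Fι (n + 1) = Fι n := fun n => by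
    dsimp only [Ft, Fι]
    rw [← Functor.map_comp, hι]
  have hiso : ∀ j : ℤ, ∃ N : ℕ, ∀ n, N ≤ n → IsIso ((ι n).f j) := SigmaSeq.exists_isIso_ιn_f K
  have hFiso' : ∀ (n : ℕ) (j : ℤ), -(n : ℤ) ≤ j → IsIso ((Fι n).f j) := fun n j hj => by
    have := SigmaSeq.isIso_ιn_f K n j hj
    change IsIso (F.map ((ι n).f j))
    infer_instance
  have hFiso : ∀ j : ℤ, ∃ N : ℕ, ∀ n, N ≤ n → IsIso ((Fι n).f j) := fun j => by
    obtain ⟨N, hN⟩ := hiso j
    refine ⟨N, fun n hn => ?_⟩
    have := hN n hn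
    change IsIso (F.map ((ι n).f j))
    infer_instance
  -- the two telescope sequences and triangles
  have sesA := ExhSeq.shortExact L t K ι hι hiso
  have sesB := ExhSeq.shortExact FL Ft (Φ.obj K) Fι hFι hFiso
  have hTA := triangleOfSES_distinguished sesA
  have hTB := triangleOfSES_distinguished sesB
  obtain ⟨h, hRF⟩ := exists_distinguished F RF α hA _ hTA
  -- the comparison on coproducts
  have hcA : IsColimit (cofanQ L) := isColimitCofanQ L
  have hcB : IsColimit (cofanQ FL) := isColimitCofanQ FL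
  have hRFc : IsColimit (Cofan.mk (RF.obj (Q.obj (sigmaCx L)))
      (fun n => RF.map (Q.map (sigmaι L n)))) :=
    isColimitMapCoconeCofanMkEquiv _ _ _ (isColimitOfPreserves RF hcA)
  have hβ : ∀ n, IsIso (β F RF α (L n)) := fun n =>
    RFBdd.isIso_β F RF α hA (L n) (-(n : ℤ))
      (fun k => SigmaSeq.prop_Ln_X K (FAcyclic.acyc F) (RFBdd.acyc_of_isZero F) hK n k)
  let θ : Q.obj (sigmaCx FL) ⟶ RF.obj (Q.obj (sigmaCx L)) :=
    Cofan.IsColimit.desc hcB (fun n => β F RF α (L n) ≫ RF.map (Q.map (sigmaι L n)))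
  have hθ : ∀ n, Q.map (sigmaι FL n) ≫ θ = β F RF α (L n) ≫ RF.map (Q.map (sigmaι L n)) :=
    fun n => Cofan.IsColimit.fac hcB _ n
  let θinv : RF.obj (Q.obj (sigmaCx L)) ⟶ Q.obj (sigmaCx FL) :=
    Cofan.IsColimit.desc hRFc (fun n => inv (β F RF α (L n)) ≫ Q.map (sigmaι FL n))
  have hθinv : ∀ n, RF.map (Q.map (sigmaι L n)) ≫ θinv =
      inv (β F RF α (L n)) ≫ Q.map (sigmaι FL n) :=
    fun n => Cofan.IsColimit.fac hRFc _ n
  have hθiso : IsIso θ := by
    refine ⟨θinv, ?_, ?_⟩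
    · apply Cofan.IsColimit.hom_ext hcB
      intro n
      change Q.map (sigmaι FL n) ≫ θ ≫ θinv = Q.map (sigmaι FL n) ≫ 𝟙 _
      rw [reassoc_of% (hθ n), hθinv, IsIso.hom_inv_id_assoc, Category.comp_id]
    · apply Cofan.IsColimit.hom_ext hRFc
      intro n
      change RF.map (Q.map (sigmaι L n)) ≫ θinv ≫ θ = RF.map (Q.map (sigmaι L n)) ≫ 𝟙 _
      rw [reassoc_of% (hθinv n), hθ, IsIso.inv_hom_id_assoc, Category.comp_id]
  -- the first square
  have sq1 : Q.map (𝟙 _ - ExhSeq.sh FL Ft) ≫ θ = θ ≫ RF.map (Q.map (𝟙 _ - ExhSeq.sh L t)) := by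
    apply Cofan.IsColimit.hom_ext hcB
    intro n
    change Q.map (sigmaι FL n) ≫ Q.map (𝟙 _ - ExhSeq.sh FL Ft) ≫ θ =
      Q.map (sigmaι FL n) ≫ θ ≫ RF.map (Q.map (𝟙 _ - ExhSeq.sh L t))
    rw [← Q.map_comp_assoc, Preadditive.comp_sub, Category.comp_id, ExhSeq.ι_sh, Functor.map_sub,
      Preadditive.sub_comp, Functor.map_comp, Category.assoc, hθ, hθ, reassoc_of% (hθ n),
      ← RF.map_comp, ← Q.map_comp, Preadditive.comp_sub, Category.comp_id, ExhSeq.ι_sh,
      Functor.map_sub, Functor.map_sub, Preadditive.comp_sub, Functor.map_comp, Functor.map_comp]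
    have hn : Q.map (Ft n) ≫ β F RF α (L (n + 1)) = β F RF α (L n) ≫ RF.map (Q.map (t n)) :=
      β_naturality F RF α (t n)
    rw [reassoc_of% hn]
  -- the second square, for `β K`
  have sq2 : Q.map (ExhSeq.π FL (Φ.obj K) Fι) ≫ β F RF α K =
      θ ≫ RF.map (Q.map (ExhSeq.π L K ι)) := by
    apply Cofan.IsColimit.hom_ext hcB
    intro n
    change Q.map (sigmaι FL n) ≫ Q.map (ExhSeq.π FL (Φ.obj K) Fι) ≫ β F RF α K =
      Q.map (sigmaι FL n) ≫ θ ≫ RF.map (Q.map (ExhSeq.π L K ι))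
    rw [← Q.map_comp_assoc, ExhSeq.ι_π, reassoc_of% (hθ n), ← RF.map_comp, ← Q.map_comp,
      ExhSeq.ι_π]
    exact β_naturality F RF α (ι n)
  -- fill in
  obtain ⟨c, hc₁, hc₂⟩ := complete_distinguished_triangle_morphism _ _ hTB hRF θ θ sq1
  let φ : triangleOfSES sesB ⟶ Triangle.mk (RF.map (triangleOfSES sesA).mor₁)
      (RF.map (triangleOfSES sesA).mor₂) h :=
    { hom₁ := θ
      hom₂ := θ
      hom₃ := c
      comm₁ := sq1
      comm₂ := hc₁
      comm₃ := hc₂ }
  have hciso : IsIso c := isIso₃_of_isIso₁₂ φ hTB hRF hθiso hθiso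
  have hcβ : Q.map (ExhSeq.π FL (Φ.obj K) Fι) ≫ c = Q.map (ExhSeq.π FL (Φ.obj K) Fι) ≫ β F RF α K :=
    hc₁.trans sq2.symm
  -- conclude on homology
  rw [DerivedCategory.isIso_iff]
  intro m
  have hepi : Epi ((homologyFunctor B m).map (Q.map (ExhSeq.π FL (Φ.obj K) Fι))) := by
    have h1 : Epi (HomologicalComplex.homologyMap (ExhSeq.π FL (Φ.obj K) Fι) m) := by
      obtain ⟨n, hn⟩ : ∃ n : ℕ, -(n : ℤ) ≤ m - 1 := ⟨(1 - m).toNat, by
        have := Int.self_le_toNat (1 - m); omega⟩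
      have h2 : IsIso (HomologicalComplex.homologyMap (Fι n) m) :=
        isIso_homologyMap_of_isIso_f (Fι n) m (hFiso' n _ hn) (hFiso' n _ (by omega))
          (hFiso' n _ (by omega))
      have h3 : HomologicalComplex.homologyMap (sigmaι FL n) m ≫
          HomologicalComplex.homologyMap (ExhSeq.π FL (Φ.obj K) Fι) m =
          HomologicalComplex.homologyMap (Fι n) m := by
        rw [← HomologicalComplex.homologyMap_comp, ExhSeq.ι_π]
      have h4 : Epi (HomologicalComplex.homologyMap (sigmaι FL n) m ≫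
          HomologicalComplex.homologyMap (ExhSeq.π FL (Φ.obj K) Fι) m) := by
        rw [h3]; infer_instance
      exact epi_of_epi (HomologicalComplex.homologyMap (sigmaι FL n) m) _
    have h7 := NatIso.naturality_2 (homologyFunctorFactors B m) (ExhSeq.π FL (Φ.obj K) Fι)
    have h8 : Epi ((Q ⋙ homologyFunctor B m).map (ExhSeq.π FL (Φ.obj K) Fι)) := by
      rw [← h7]
      have : Epi ((HomologicalComplex.homologyFunctor B (ComplexShape.up ℤ) m).map
        (ExhSeq.π FL (Φ.obj K) Fι)) := h1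
      infer_instance
    exact h8
  have heq : (homologyFunctor B m).map c = (homologyFunctor B m).map (β F RF α K) := by
    have h9 : (homologyFunctor B m).map (Q.map (ExhSeq.π FL (Φ.obj K) Fι)) ≫
        (homologyFunctor B m).map c =
        (homologyFunctor B m).map (Q.map (ExhSeq.π FL (Φ.obj K) Fι)) ≫
        (homologyFunctor B m).map (β F RF α K) := by
      rw [← Functor.map_comp, ← Functor.map_comp]
      exact congrArg (fun z => (homologyFunctor B m).map z) hcβ
    exact hepi.left_cancellation _ _ h9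
  rw [← heq]
  exact Functor.map_isIso _ c

end Groth.Agent.Lib.Helper83.RFColim
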