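import Mathlib
import Groth.Prelude.Def_SpSeq
import Groth.Agent.Lib.Lead.AbutmentTransport

/-!
# Replacing the zero object by `PUnit` in spectral sequence existence statements
-/

set_option autoImplicit false
universe u
open CategoryTheory

namespace Groth.Agent.Lib.Helper83.SSPUnit

open scoped ZeroObject in
/-- Replace the zero object by `PUnit` in the conclusion of the Grothendieck spectral sequence. -/
theorem punit_of_zero (H : ℕ → AddCommGrpCat.{u}) (E₂ : ℕ → ℕ → AddCommGrpCat.{u})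
    (hG : ∃ (E : E₂CohomologicalSpectralSequence AddCommGrpCat.{u})
      (a : SpSeq.Abutment E (fun n : ℤ => if 0 ≤ n then H n.toNat else 0)),
      (∀ n, a.IsFinite n) ∧ SpSeq.IsBounded E ∧
      ∀ p q : ℤ, Nonempty ((E.page 2 le_rfl).X (p, q) ≅
        (if 0 ≤ p ∧ 0 ≤ q then E₂ p.toNat q.toNat else 0))) :
    ∃ (E : E₂CohomologicalSpectralSequence AddCommGrpCat.{u})
      (a : SpSeq.Abutment E (fun n : ℤ =>
        if 0 ≤ n then H n.toNat else AddCommGrpCat.of PUnit.{u + 1})),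
      (∀ n, a.IsFinite n) ∧ SpSeq.IsBounded E ∧
      ∀ p q : ℤ, Nonempty ((E.page 2 le_rfl).X (p, q) ≅
        (if 0 ≤ p ∧ 0 ≤ q then E₂ p.toNat q.toNat else AddCommGrpCat.of PUnit.{u + 1})) := by
  obtain ⟨E, a, hfin, hbd, hE2⟩ := hG
  have hz : Limits.IsZero (AddCommGrpCat.of PUnit.{u + 1}) := by
    refine (Limits.IsZero.iff_id_eq_zero _).2 ?_
    ext x
  let z : (0 : AddCommGrpCat.{u}) ≅ AddCommGrpCat.of PUnit.{u + 1} := (Limits.isZero_zero _).iso hz
  let φ : ∀ n : ℤ, (if 0 ≤ n then H n.toNat else 0) ≅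
      (if 0 ≤ n then H n.toNat else AddCommGrpCat.of PUnit.{u + 1}) :=
    fun n => Groth.Agent.Lib.Lead.ifIso (0 ≤ n) (Iso.refl _) z
  refine ⟨E, Groth.Agent.Lib.Lead.abutmentTransport a φ,
    fun n => Groth.Agent.Lib.Lead.abutmentTransport_isFinite a φ n (hfin n), hbd, ?_⟩
  intro p q
  obtain ⟨e⟩ := hE2 p q
  exact ⟨e ≪≫ Groth.Agent.Lib.Lead.ifIso (0 ≤ p ∧ 0 ≤ q) (Iso.refl _) z⟩

end Groth.Agent.Lib.Helper83.SSPUnit
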