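import Mathlib.CategoryTheory.Sites.Pullback
import Mathlib.CategoryTheory.Sites.CartesianMonoidal
import Mathlib.CategoryTheory.Sites.Adjunction
import Mathlib.CategoryTheory.Sites.Abelian
import Mathlib.CategoryTheory.Monoidal.CommGrp_
import Mathlib.CategoryTheory.Monoidal.Types.Basic
import Mathlib.CategoryTheory.Monoidal.Cartesian.FunctorCategory
import Mathlib.Algebra.Category.Grp.Adjunctions
import Mathlib.Algebra.Category.Grp.Abelian
import Mathlib.Algebra.Category.Grp.FilteredColimits
import Mathlib.Algebra.Homology.ShortComplex.ExactFunctor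
import Mathlib.Algebra.Group.MinimalAxioms
import Mathlib.CategoryTheory.Adjunction.Additive

/-!
# Abelian sheaves as commutative group objects in sheaves of sets

For a small site `(C, J)`, the functor `Psi J : Sheaf J AddCommGrpCat ⥤ CommGrp (Sheaf J (Type u))`
is an equivalence of categories, compatible with pushforward along continuous functors.
Consequence: if the pullback `u.sheafPullback (Type u) K J` on sheaves of sets is left exact,
then so is the pullback on abelian sheaves (`preservesFiniteLimits_sheafPullback`).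
-/

universe u
open CategoryTheory CategoryTheory.Limits MonoidalCategory CartesianMonoidalCategory MonObj

noncomputable section

namespace Groth.Agent.Lib.Helper83.SheafCommGrp

variable {C : Type u} [SmallCategory C] (J : GrothendieckTopology C)

attribute [-instance] ObjectProperty.fullMonoidalSubcategory ObjectProperty.fullBraidedSubcategory

/-- The braiding on sheaves of sets coming from the cartesian structure. -/
scoped instance braidedSheafType : BraidedCategory (Sheaf J (Type u)) := .ofCartesianMonoidalCategory

/-- The forgetful functor from abelian sheaves to sheaves of sets. -/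
abbrev U : Sheaf J AddCommGrpCat.{u} ⥤ Sheaf J (Type u) := sheafCompose J (forget AddCommGrpCat)

variable {J}

section Psi

variable (H : Sheaf J AddCommGrpCat.{u})

lemma res_add {c d : Cᵒᵖ} (f : c ⟶ d) (x y : H.obj.obj c) :
    H.obj.map f (x + y) = H.obj.map f x + H.obj.map f y := map_add (H.obj.map f).hom x y

lemma res_neg {c d : Cᵒᵖ} (f : c ⟶ d) (x : H.obj.obj c) :
    H.obj.map f (-x) = - H.obj.map f x := map_neg (H.obj.map f).hom x

lemma res_zero {c d : Cᵒᵖ} (f : c ⟶ d) :
    H.obj.map f (0 : H.obj.obj c) = 0 := map_zero (H.obj.map f).hom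

/-- zero section -/
def oneHom : 𝟙_ (Sheaf J (Type u)) ⟶ (U J).obj H :=
  ObjectProperty.homMk
    { app := fun c => ↾fun _ => (0 : H.obj.obj c)
      naturality := by
        intro c d f
        ext x
        exact (res_zero H f).symm }

def mulHom : (U J).obj H ⊗ (U J).obj H ⟶ (U J).obj H :=
  ObjectProperty.homMk
    { app := fun c => ↾fun (p : (H.obj.obj c) × (H.obj.obj c)) => p.1 + p.2
      naturality := by
        intro c d f
        ext ⟨x, y⟩
        exact (res_add H f x y).symm }

def invHom : (U J).obj H ⟶ (U J).obj H :=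
  ObjectProperty.homMk
    { app := fun c => ↾fun (p : (H.obj.obj c)) => -p
      naturality := by
        intro c d f
        ext x
        exact (res_neg H f x).symm }

@[simp] lemma oneHom_app (c : Cᵒᵖ) (x : PUnit) : (oneHom H).hom.app c x = (0 : H.obj.obj c) := rfl
@[simp] lemma mulHom_app (c : Cᵒᵖ) (x y : H.obj.obj c) : (mulHom H).hom.app c (x, y) = x + y := rfl
@[simp] lemma invHom_app (c : Cᵒᵖ) (x : H.obj.obj c) : (invHom H).hom.app c x = - x := rfl

instance : GrpObj ((U J).obj H) where
  one := oneHom H
  mul := mulHom H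
  inv := invHom H
  one_mul := by
    ext c ⟨x, y⟩
    exact @zero_add (H.obj.obj c) _ y
  mul_one := by
    ext c ⟨x, y⟩
    exact @add_zero (H.obj.obj c) _ x
  mul_assoc := by
    ext c ⟨⟨x, y⟩, z⟩
    exact @add_assoc (H.obj.obj c) _ x y z
  left_inv := by
    ext c x
    exact @neg_add_cancel (H.obj.obj c) _ x
  right_inv := by
    ext c x
    exact @add_neg_cancel (H.obj.obj c) _ x

instance : IsCommMonObj ((U J).obj H) where
  mul_comm := by
    ext c ⟨x, y⟩
    exact @add_comm (H.obj.obj c) _ y x


lemma hom_add {H H' : Sheaf J AddCommGrpCat.{u}} (f : H ⟶ H') (c : Cᵒᵖ) (x y : H.obj.obj c) :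
    f.hom.app c (x + y) = f.hom.app c x + f.hom.app c y := map_add (f.hom.app c).hom x y

lemma hom_zero {H H' : Sheaf J AddCommGrpCat.{u}} (f : H ⟶ H') (c : Cᵒᵖ) :
    f.hom.app c (0 : H.obj.obj c) = 0 := map_zero (f.hom.app c).hom

variable (J) in
/-- The functor sending an abelian sheaf to its underlying sheaf of sets, as a commutative group object. -/
def Psi : Sheaf J AddCommGrpCat.{u} ⥤ CommGrp (Sheaf J (Type u)) where
  obj H := { X := (U J).obj H }
  map {H H'} f := InducedCategory.homMk (Grp.homMk' (Mon.Hom.mk' ((U J).map f)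
    (by
      ext c x
      exact hom_zero f c)
    (by
      ext c ⟨x, y⟩
      exact hom_add f c x y)))
  map_id H := by
    apply CommGrp.hom_ext
    rfl
  map_comp f g := by
    apply CommGrp.hom_ext
    rfl

instance : (Psi J).Faithful where
  map_injective {H H'} f g h := by
    have h1 : (U J).map f = (U J).map g := congrArg (fun k => k.hom.hom.hom) h
    exact (U J).map_injective h1

end Psi


section Full

variable {H H' : Sheaf J AddCommGrpCat.{u}} (φ : (U J).obj H ⟶ (U J).obj H') [IsMonHom φ]

/-- The components of a morphism between underlying sheaves of sets, as maps between the groups of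
sections. -/
def appFun (c : Cᵒᵖ) : H.obj.obj c → H'.obj.obj c := fun x => φ.hom.app c x

lemma isMonHom_add (c : Cᵒᵖ) (x y : H.obj.obj c) :
    appFun φ c (x + y) = appFun φ c x + appFun φ c y := by
  have h := IsMonHom.mul_hom (f := φ)
  have h2 := congrArg (fun k => k.hom.app c (x, y)) h
  exact h2

lemma isMonHom_zero (c : Cᵒᵖ) :
    appFun φ c 0 = 0 := by
  have h := IsMonHom.one_hom (f := φ)
  have h2 := congrArg (fun k => k.hom.app c PUnit.unit) h
  exact h2

/-- The morphism of abelian sheaves attached to a morphism of group objects. -/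
def liftHom : H ⟶ H' :=
  ObjectProperty.homMk
    { app := fun c => AddCommGrpCat.ofHom
        { toFun := appFun φ c
          map_zero' := isMonHom_zero φ c
          map_add' := isMonHom_add φ c }
      naturality := by
        intro c d f
        ext x
        have := congrArg (fun k => k x) (φ.hom.naturality f)
        exact this }

lemma U_map_liftHom : (U J).map (liftHom φ) = φ := by
  ext c x
  rfl

end Full

instance : (Psi J).Full where
  map_surjective {H H'} φ := by
    refine ⟨@liftHom _ _ _ H H' φ.hom.hom.hom φ.hom.hom.isMonHom_hom, ?_⟩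
    apply CommGrp.hom_ext
    exact @U_map_liftHom _ _ _ H H' φ.hom.hom.hom φ.hom.hom.isMonHom_hom


section EssSurj

variable (G : CommGrp (Sheaf J (Type u)))

/-- Sections of a commutative group object in sheaves of sets. -/
def Sec (c : Cᵒᵖ) : Type u := G.X.obj.obj c

instance (c : Cᵒᵖ) : Zero (Sec G c) := ⟨η[G.X].hom.app c PUnit.unit⟩
instance (c : Cᵒᵖ) : Add (Sec G c) := ⟨fun x y => μ[G.X].hom.app c (x, y)⟩
instance (c : Cᵒᵖ) : Neg (Sec G c) := ⟨fun x => ι[G.X].hom.app c x⟩

lemma sec_add_assoc (c : Cᵒᵖ) (x y z : Sec G c) : x + y + z = x + (y + z) :=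
  congrArg (fun k => k.hom.app c ((x, y), z)) (MonObj.mul_assoc G.X)

lemma sec_zero_add (c : Cᵒᵖ) (x : Sec G c) : 0 + x = x :=
  congrArg (fun k => k.hom.app c (PUnit.unit, x)) (MonObj.one_mul G.X)

lemma sec_neg_add_cancel (c : Cᵒᵖ) (x : Sec G c) : -x + x = 0 :=
  congrArg (fun k => k.hom.app c x) (GrpObj.left_inv G.X)

lemma sec_add_comm (c : Cᵒᵖ) (x y : Sec G c) : x + y = y + x :=
  congrArg (fun k => k.hom.app c (y, x)) (IsCommMonObj.mul_comm G.X)

instance (c : Cᵒᵖ) : AddCommGroup (Sec G c) :=
  { AddGroup.ofLeftAxioms (sec_add_assoc G c) (sec_zero_add G c) (sec_neg_add_cancel G c) with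
    add_comm := sec_add_comm G c }

/-- restriction maps on sections -/
def secMap {c d : Cᵒᵖ} (f : c ⟶ d) : Sec G c → Sec G d := fun x => G.X.obj.map f x

lemma secMap_add {c d : Cᵒᵖ} (f : c ⟶ d) (x y : Sec G c) :
    secMap G f (x + y) = secMap G f x + secMap G f y :=
  (congrArg (fun k => k (x, y)) (μ[G.X].hom.naturality f)).symm

lemma secMap_zero {c d : Cᵒᵖ} (f : c ⟶ d) :
    secMap G f 0 = 0 :=
  (congrArg (fun k => k PUnit.unit) (η[G.X].hom.naturality f)).symm

/-- The presheaf of abelian groups attached to a commutative group object in sheaves of sets. -/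
def PhiPresheaf : Cᵒᵖ ⥤ AddCommGrpCat.{u} where
  obj c := AddCommGrpCat.of (Sec G c)
  map f := AddCommGrpCat.ofHom
    { toFun := secMap G f
      map_zero' := secMap_zero G f
      map_add' := secMap_add G f }
  map_id c := by
    ext x
    exact congrArg (fun k => k x) (G.X.obj.map_id c)
  map_comp f g := by
    ext x
    exact congrArg (fun k => k x) (G.X.obj.map_comp f g)

/-- The underlying presheaf of sets of `PhiPresheaf G` is that of `G`. -/
def phiPresheafForgetIso : PhiPresheaf G ⋙ forget AddCommGrpCat ≅ G.X.obj :=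
  NatIso.ofComponents (fun c => Iso.refl _) (by
    intro c d f
    ext x
    rfl)

lemma phiPresheaf_isSheaf : Presheaf.IsSheaf J (PhiPresheaf G) := by
  rw [Presheaf.isSheaf_iff_isSheaf_forget J (PhiPresheaf G) (forget AddCommGrpCat),
    Presheaf.isSheaf_of_iso_iff (phiPresheafForgetIso G)]
  exact G.X.property

/-- The abelian sheaf attached to a commutative group object in sheaves of sets. -/
def Phi : Sheaf J AddCommGrpCat.{u} := ⟨PhiPresheaf G, phiPresheaf_isSheaf G⟩

/-- The underlying sheaf of sets of `Phi G` is that of `G`. -/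
def phiIso : (U J).obj (Phi G) ≅ G.X := ObjectProperty.isoMk _ (phiPresheafForgetIso G)

/-- `Psi (Phi G) ≅ G`. -/
def psiPhiIso : (Psi J).obj (Phi G) ≅ G :=
  CommGrp.mkIso (phiIso G)
    (by
      ext c x
      rfl)
    (by
      ext c ⟨x, y⟩
      rfl)

instance : (Psi J).EssSurj where
  mem_essImage G := ⟨Phi G, ⟨psiPhiIso G⟩⟩

instance : (Psi J).IsEquivalence where

end EssSurj


section Pushforward

variable {D : Type u} [SmallCategory D] (K : GrothendieckTopology D) (u : D ⥤ C)
  [u.IsContinuous K J]

variable (J) in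
/-- pushforward of sheaves of sets -/
abbrev R : Sheaf J (Type u) ⥤ Sheaf K (Type u) := u.sheafPushforwardContinuous (Type u) K J

variable (J) in
/-- pushforward of abelian sheaves -/
abbrev Rab : Sheaf J AddCommGrpCat.{u} ⥤ Sheaf K AddCommGrpCat.{u} :=
  u.sheafPushforwardContinuous AddCommGrpCat.{u} K J

instance : (Rab J K u).Additive where
  map_add := rfl

instance : PreservesLimits (R J K u) :=
  (u.sheafAdjunctionContinuous (Type u) K J).rightAdjoint_preservesLimits

/-- The braided structure on the pushforward. -/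
noncomputable scoped instance : (R J K u).Braided := .ofChosenFiniteProducts _

lemma μ_R_app (X Y : Sheaf J (Type u)) (d : Dᵒᵖ) (x : X.obj.obj (u.op.obj d))
    (y : Y.obj.obj (u.op.obj d)) :
    (Functor.LaxMonoidal.μ (R J K u) X Y).hom.app d (x, y) = (x, y) := by
  apply Prod.ext
  · exact congrArg (fun k => k.hom.app d (x, y)) (Functor.Monoidal.μ_fst (R J K u) X Y)
  · exact congrArg (fun k => k.hom.app d (x, y)) (Functor.Monoidal.μ_snd (R J K u) X Y)

lemma one_push (H : Sheaf J AddCommGrpCat.{u}) (d : Dᵒᵖ) (x : PUnit) :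
    (η[((R J K u).mapCommGrp.obj ((Psi J).obj H)).X]).hom.app d x =
      (0 : H.obj.obj (u.op.obj d)) := by
  change ((R J K u).map (oneHom H)).hom.app d ((Functor.LaxMonoidal.ε (R J K u)).hom.app d x) = _
  rfl

lemma mul_push (H : Sheaf J AddCommGrpCat.{u}) (d : Dᵒᵖ) (x y : H.obj.obj (u.op.obj d)) :
    (μ[((R J K u).mapCommGrp.obj ((Psi J).obj H)).X]).hom.app d (x, y) = x + y := by
  have h := μ_R_app K u ((U J).obj H) ((U J).obj H) d x y
  exact (congrArg (fun w => ((R J K u).map (mulHom H)).hom.app d w) h).trans rfl

/-- Compatibility of `Psi` with pushforward, on objects. -/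
def psiPushIsoApp (H : Sheaf J AddCommGrpCat.{u}) :
    (R J K u).mapCommGrp.obj ((Psi J).obj H) ≅ (Psi K).obj ((Rab J K u).obj H) :=
  CommGrp.mkIso (Iso.refl _)
    (by
      ext d x
      exact one_push K u H d x)
    (by
      ext d ⟨x, y⟩
      exact mul_push K u H d x y)

/-- Compatibility of `Psi` with pushforward. -/
def psiPushIso : Psi J ⋙ (R J K u).mapCommGrp ≅ Rab J K u ⋙ Psi K :=
  NatIso.ofComponents (psiPushIsoApp K u) (by
    intro H H' f
    apply CommGrp.hom_ext
    ext d x
    rfl)

section Pullback

variable [PreservesFiniteLimits (u.sheafPullback (Type u) K J)]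

variable (J) in
/-- pullback of sheaves of sets -/
abbrev L : Sheaf K (Type u) ⥤ Sheaf J (Type u) := u.sheafPullback (Type u) K J

/-- The braided structure on the (left exact) pullback. -/
noncomputable scoped instance : (L J K u).Braided := .ofChosenFiniteProducts _

variable (J) in
/-- The pullback of abelian sheaves constructed via group objects. -/
def P : Sheaf K AddCommGrpCat.{u} ⥤ Sheaf J AddCommGrpCat.{u} :=
  Psi K ⋙ (L J K u).mapCommGrp ⋙ (Psi J).inv

variable (J) in
/-- `P` is left adjoint to the pushforward of abelian sheaves. -/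
def adjP : P J K u ⊣ Rab J K u :=
  ((Psi K).asEquivalence.toAdjunction.comp
    ((u.sheafAdjunctionContinuous (Type u) K J).mapCommGrp.comp
      (Psi J).asEquivalence.symm.toAdjunction)).ofNatIsoRight
    (Functor.isoWhiskerRight (psiPushIso K u) _ ≪≫ Functor.associator _ _ _ ≪≫
      Functor.isoWhiskerLeft _ (Psi K).asEquivalence.unitIso.symm ≪≫ Functor.rightUnitor _)

variable (J) in
/-- `P` is isomorphic to the pullback of abelian sheaves. -/
def pIso : P J K u ≅ u.sheafPullback AddCommGrpCat.{u} K J :=
  (adjP J K u).leftAdjointUniq (u.sheafAdjunctionContinuous AddCommGrpCat.{u} K J)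

instance : (U K).PreservesMonomorphisms := inferInstance

lemma mono_P_map {A B : Sheaf K AddCommGrpCat.{u}} (f : A ⟶ B) [Mono f] :
    Mono ((P J K u).map f) := by
  have h1 : Mono ((U K).map f) := inferInstance
  have h2 : Mono ((L J K u).map ((U K).map f)) := inferInstance
  have h3 : Mono ((L J K u).mapCommGrp.map ((Psi K).map f)) :=
    (CommGrp.forget _).mono_of_mono_map h2
  exact inferInstanceAs (Mono ((Psi J).inv.map ((L J K u).mapCommGrp.map ((Psi K).map f))))

instance : (P J K u).PreservesMonomorphisms where
  preserves f _ := mono_P_map K u f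

theorem preservesMonomorphisms_sheafPullback :
    (u.sheafPullback AddCommGrpCat.{u} K J).PreservesMonomorphisms :=
  Functor.PreservesMonomorphisms.of_iso (pIso J K u)

theorem preservesFiniteLimits_sheafPullback :
    PreservesFiniteLimits (u.sheafPullback AddCommGrpCat.{u} K J) := by
  have h0 := preservesMonomorphisms_sheafPullback K u (J := J)
  have : (u.sheafPullback AddCommGrpCat.{u} K J).IsLeftAdjoint :=
    (u.sheafAdjunctionContinuous AddCommGrpCat.{u} K J).isLeftAdjoint
  have : (u.sheafPullback AddCommGrpCat.{u} K J).Additive :=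
    (u.sheafAdjunctionContinuous AddCommGrpCat.{u} K J).left_adjoint_additive
  rw [Functor.preservesFiniteLimits_iff_forall_exact_map_and_mono]
  intro S hS
  have := hS.mono_f
  exact ⟨((Functor.preservesFiniteColimits_iff_forall_exact_map_and_epi _).1
    inferInstance S hS).1, inferInstance⟩

end Pullback

end Pushforward

end Groth.Agent.Lib.Helper83.SheafCommGrp
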