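import Mathlib
import Groth.Agent.Lib.Helper83.SuppSS

/-!
# `Γ_Z(Hom_O(M, -)) ≅ Hom_O(M/M_U, -)` as functors
-/

set_option autoImplicit false
universe u
open CategoryTheory Limits Opposite

namespace Groth.Agent.Lib.Helper83.SuppSS

open Groth.Agent.Lib.Helper83.SuppNull Groth.Agent.Lib.Helper83.QuotOnExact
  Groth.Agent.Lib.Helper30.ExtZero Groth.Agent.Lib.Helper30.ModTensorAdj

variable {C : Type u} [SmallCategory C] {J : GrothendieckTopology C}
  (O : Sheaf J CommRingCat.{u}) (U : C)

/-- `G ⊗ (M/M_U) ≅ (G ⊗ M)/(G ⊗ M)_U`, compatibly with the projections from `G ⊗ M`. -/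
theorem exists_tensor_quotOn_iso (G M : ModSite.Mod O) :
    ∃ e : ((ModSite.tensorBi O).obj G).obj ((ModSite.quotOn O U).obj M) ≅
        (ModSite.quotOn O U).obj (((ModSite.tensorBi O).obj G).obj M),
      ((ModSite.tensorBi O).obj G).map ((ModSite.quotOnπ O U).app M) ≫ e.hom =
        (ModSite.quotOnπ O U).app (((ModSite.tensorBi O).obj G).obj M) := by
  let c : CokernelCofork ((ModSite.extZeroAdj O U).counit.app M) :=
    CokernelCofork.ofπ ((ModSite.quotOnπ O U).app M) (cokernel.condition _)
  have hc : IsColimit c := cokernelIsCokernel _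
  have hc' := CokernelCofork.mapIsColimit c hc ((ModSite.tensorBi O).obj G)
  have w : ((ModSite.tensorBi O).obj G).map ((ModSite.extZeroAdj O U).counit.app M) ≫
      ((ModSite.tensorBi O).obj G).map ((ModSite.quotOnπ O U).app M) = 0 := by
    rw [← Functor.map_comp]
    have h0 : (ModSite.extZeroAdj O U).counit.app M ≫ (ModSite.quotOnπ O U).app M = 0 :=
      cokernel.condition _
    rw [h0, Functor.map_zero]
  refine exists_iso_quotOn (((ModSite.tensorBi O).obj G).map
      ((ModSite.extZeroAdj O U).counit.app M))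
    (((ModSite.tensorBi O).obj G).map ((ModSite.quotOnπ O U).app M)) w hc' ?_ ?_
  · exact isGen_of_iso ((tensorBiSymm O G).app _).symm (isGen_tensor (isGen_extZero _) G)
  · exact isNullOn_of_iso ((tensorBiSymm O G).app _).symm (isNullOn_tensor (isNullOn_quotOn M) G)

/-- `G ⊗ (M/M_U) ≅ (G ⊗ M)/(G ⊗ M)_U`, naturally in `G`. -/
noncomputable def tensorQuotOnIso (M : ModSite.Mod O) :
    (ModSite.tensorBi O).flip.obj ((ModSite.quotOn O U).obj M) ≅
      (ModSite.tensorBi O).flip.obj M ⋙ ModSite.quotOn O U :=
  NatIso.ofComponents (fun G => (exists_tensor_quotOn_iso O U G M).choose) (by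
    intro G G' g
    have hepi : Epi (((ModSite.tensorBi O).obj G).map ((ModSite.quotOnπ O U).app M)) :=
      inferInstance
    rw [← cancel_epi (((ModSite.tensorBi O).obj G).map ((ModSite.quotOnπ O U).app M))]
    have h1 := (exists_tensor_quotOn_iso O U G M).choose_spec
    have h2 := (exists_tensor_quotOn_iso O U G' M).choose_spec
    have hn' : (ModSite.quotOnπ O U).app (((ModSite.tensorBi O).flip.obj M).obj G) ≫
        (ModSite.quotOn O U).map (((ModSite.tensorBi O).flip.obj M).map g) =
        ((ModSite.tensorBi O).flip.obj M).map g ≫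
          (ModSite.quotOnπ O U).app (((ModSite.tensorBi O).flip.obj M).obj G') :=
      ((ModSite.quotOnπ O U).naturality _).symm
    have hb : ((ModSite.tensorBi O).obj G).map ((ModSite.quotOnπ O U).app M) ≫
        ((ModSite.tensorBi O).flip.obj ((ModSite.quotOn O U).obj M)).map g =
        ((ModSite.tensorBi O).flip.obj M).map g ≫
          ((ModSite.tensorBi O).obj G').map ((ModSite.quotOnπ O U).app M) :=
      ((ModSite.tensorBi O).map g).naturality ((ModSite.quotOnπ O U).app M)
    dsimp only [Functor.comp_obj, Functor.comp_map]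
    rw [← Category.assoc, hb, Category.assoc, h2, ← Category.assoc]
    erw [h1]
    exact hn'.symm)

end Groth.Agent.Lib.Helper83.SuppSS
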