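import Mathlib
import Groth.Prelude.Def_CohCx
import Groth.Agent.Lib.Helper83.TopPush
import Groth.Agent.S0931

/-!
# Cohomology sheaves of the derived pushforward as sheafified hypercohomology (helper83)
-/

set_option autoImplicit false
universe u

namespace Groth.Agent.Lib.Helper83.TopPushPlus

open CategoryTheory CategoryTheory.Limits Opposite DerivedCategory TopologicalSpace
open Groth.Agent.Lib.Helper5.SiteCoh Groth.Agent.Lib.Helper83.SingleHom
  Groth.Agent.Lib.Helper83.DerivedPush Groth.Agent.Lib.Helper32.KInjDerived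
  Groth.Agent.Lib.Helper83.TopPush

variable {X Y : TopCat.{u}} (f : X ⟶ Y)
  [HasDerivedCategory.{u} (CohTop.Ab X)] [HasDerivedCategory.{u} (CohTop.Ab Y)]

instance : (Rf f).Additive :=
  (adjD (adj₀ f) (hasKInjRes X)).right_adjoint_additive

lemma δ_add (V : Opens Y) (K' : DerivedCategory (CohTop.Ab X))
    (φ ψ : (DerivedCategory.singleFunctor (CohTop.Ab X) 0).obj
      (freeSheaf (Opens.grothendieckTopology X) ((Opens.map f).obj V)) ⟶ K') :
    δ f V K' (φ + ψ) = δ f V K' φ + δ f V K' ψ := by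
  rw [δ_apply, δ_apply, δ_apply, γ_apply, γ_apply, γ_apply, Preadditive.comp_add,
    Preadditive.comp_add, Adjunction.homAddEquiv_add]

/-- `H^p(f⁻¹V, K) ≃+ H^p(V, Rf_* K)` -/
noncomputable def compEquiv (K : DerivedCategory (CohTop.Ab X)) (p : ℤ) (V : Opens Y) :
    CohCx.HDU K p ((Opens.map f).obj V) ≃+ CohCx.HDU ((Rf f).obj K) p V where
  toFun φ := δ f V _ φ ≫ (shiftIso (adj₀ f) (hasKInjRes X) K p).hom
  invFun ψ := (δ f V _).symm (ψ ≫ (shiftIso (adj₀ f) (hasKInjRes X) K p).inv)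
  left_inv φ := by simp
  right_inv ψ := by simp
  map_add' φ ψ := by
    change δ f V _ (φ + ψ) ≫ _ = δ f V _ φ ≫ _ + δ f V _ ψ ≫ _
    rw [δ_add, Preadditive.add_comp]

/-- the presheaf `V ↦ H^p(f⁻¹V, K)` is the hypercohomology presheaf of `Rf_* K` -/
noncomputable def presheafIso (K : DerivedCategory (CohTop.Ab X)) (p : ℤ) :
    (Opens.map f).op ⋙ CohCx.HDUPresheaf K p ≅ CohCx.HDUPresheaf ((Rf f).obj K) p :=
  NatIso.ofComponents (fun V => AddEquiv.toAddCommGrpIso (X := AddCommGrpCat.of _) (Y := AddCommGrpCat.of _) (compEquiv f K p V.unop)) (by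
    intro V V' k
    ext φ
    change δ f V'.unop _ ((DerivedCategory.singleFunctor (CohTop.Ab X) 0).map
      (freeMap (Opens.grothendieckTopology X) ((Opens.map f).map k.unop)) ≫ φ) ≫ _ =
      (DerivedCategory.singleFunctor (CohTop.Ab Y) 0).map
        (freeMap (Opens.grothendieckTopology Y) k.unop) ≫ δ f V.unop _ φ ≫ _
    rw [δ_naturality, Category.assoc])

theorem nonempty_sheafify_iso (K : DerivedCategory (CohTop.Ab X)) (p : ℤ) :
    Nonempty ((presheafToSheaf (Opens.grothendieckTopology Y) AddCommGrpCat.{u}).obj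
        ((Opens.map f).op ⋙ CohCx.HDUPresheaf K p) ≅ CohCx.HD ((Rf f).obj K) p) := by
  obtain ⟨e⟩ := Groth.Agent.S0931.result ((Rf f).obj K) p
  exact ⟨(presheafToSheaf (Opens.grothendieckTopology Y) AddCommGrpCat.{u}).mapIso
    (presheafIso f K p) ≪≫ e⟩

end Groth.Agent.Lib.Helper83.TopPushPlus
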