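import Mathlib
import Groth.Prelude.Def_CohCx
import Groth.Agent.Lib.Helper83.TopPushPlus
import Groth.Agent.Lib.Helper32.TriRF
import Groth.Agent.Lib.Helper32.RDPlus

/-!
# Comparison of `R⁺f_*` with the unbounded `Rf_*` on bounded below complexes (helper83)
-/

set_option autoImplicit false
universe u

namespace Groth.Agent.Lib.Helper83.TopPushPlus

open CategoryTheory CategoryTheory.Limits Opposite DerivedCategory TopologicalSpace
open Groth.Agent.Lib.Helper5.SiteCoh Groth.Agent.Lib.Helper83.SingleHom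
  Groth.Agent.Lib.Helper83.DerivedPush Groth.Agent.Lib.Helper32.KInjDerived
  Groth.Agent.Lib.Helper83.TopPush

variable {X Y : TopCat.{u}} (f : X ⟶ Y)
  [HasDerivedCategory.{u} (CohTop.Ab X)] [HasDerivedCategory.{u} (CohTop.Ab Y)]

theorem nonempty_iso_plus (K : CochainComplex.Plus (CohTop.Ab X)) :
    Nonempty (DerivedCategory.Plus.ι.obj ((CohTop.push f).rightDerivedFunctorPlus.obj
      (DerivedCategory.Plus.Qh.obj ((HomotopyCategory.Plus.quotient (CohTop.Ab X)).obj K))) ≅
      (Rf f).obj (DerivedCategory.Q.obj K.obj)) := by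
  obtain ⟨n, hn⟩ := K.property
  obtain ⟨L, _, i, hi⟩ := CochainComplex.Plus.exists_quasiIso_injective K n
  let I := (InjectiveObject.ι (CohTop.Ab X)).mapCochainComplexPlus.obj L
  have hqi : QuasiIso i.hom := hi
  haveI hKI : I.obj.IsKInjective :=
    inferInstanceAs (CochainComplex.IsKInjective
      (((InjectiveObject.ι (CohTop.Ab X)).mapHomologicalComplex (.up ℤ)).obj L.obj))
  let qi := (HomotopyCategory.Plus.quotient (CohTop.Ab X)).map i
  have h2 : IsIso (DerivedCategory.Plus.Qh.map qi) := by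
    rw [Groth.Agent.Lib.Helper32.RDPlus.isIso_plusQh_map_iff, HomotopyCategory.Plus.quasiIso_iff]
    change HomotopyCategory.quasiIso (CohTop.Ab X) _ ((HomotopyCategory.quotient _ _).map i.hom)
    rw [HomotopyCategory.quotient_map_mem_quasiIso_iff]
    exact hqi
  let η := (CohTop.push f).rightDerivedFunctorPlusUnit
  have h3 : IsIso (η.app ((HomotopyCategory.Plus.quotient (CohTop.Ab X)).obj I)) := inferInstance
  let E1 := DerivedCategory.Plus.ι.mapIso
    ((CohTop.push f).rightDerivedFunctorPlus.mapIso (asIso (DerivedCategory.Plus.Qh.map qi)))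
  let E2 := DerivedCategory.Plus.ι.mapIso
    (asIso (η.app ((HomotopyCategory.Plus.quotient (CohTop.Ab X)).obj I))).symm
  let E3 : DerivedCategory.Plus.ι.obj (DerivedCategory.Plus.Qh.obj
      ((CohTop.push f).mapHomotopyCategoryPlus.obj
        ((HomotopyCategory.Plus.quotient (CohTop.Ab X)).obj I))) ≅
      DerivedCategory.Q.obj (((CohTop.push f).mapHomologicalComplex (ComplexShape.up ℤ)).obj I.obj) :=
    DerivedCategory.Qh.mapIso (((CohTop.push f).mapHomotopyCategoryFactors (ComplexShape.up ℤ)).app I.obj) ≪≫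
      (DerivedCategory.quotientCompQhIso (CohTop.Ab Y)).app _
  haveI := Groth.Agent.Lib.Helper32.TriRF.isIso_β (CohTop.push f) (Rf f)
    (βG (CohTop.push f) (hasKInjRes X)) (hasKInjRes X) I.obj
  let E4 := asIso (Groth.Agent.Lib.Helper32.TriRF.β (CohTop.push f) (Rf f)
    (βG (CohTop.push f) (hasKInjRes X)) I.obj)
  haveI : IsIso (DerivedCategory.Q.map i.hom) := by
    rw [DerivedCategory.isIso_Q_map_iff_quasiIso]
    exact hqi
  let E5 := (Rf f).mapIso (asIso (DerivedCategory.Q.map i.hom)).symm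
  exact ⟨E1 ≪≫ E2 ≪≫ E3 ≪≫ E4 ≪≫ E5⟩

theorem main (K : CochainComplex.Plus (CohTop.Ab X)) (p : ℤ) :
    Nonempty ((DerivedCategory.Plus.homologyFunctor (CohTop.Ab Y) p).obj
        ((CohTop.push f).rightDerivedFunctorPlus.obj
          (DerivedCategory.Plus.Qh.obj ((HomotopyCategory.Plus.quotient (CohTop.Ab X)).obj K))) ≅
      (presheafToSheaf (Opens.grothendieckTopology Y) AddCommGrpCat.{u}).obj
        ((Opens.map f).op ⋙ CohCx.HDUPresheaf (DerivedCategory.Q.obj K.obj) p)) := by
  obtain ⟨e⟩ := nonempty_iso_plus f K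
  obtain ⟨e'⟩ := nonempty_sheafify_iso f (DerivedCategory.Q.obj K.obj) p
  exact ⟨(DerivedCategory.homologyFunctor (CohTop.Ab Y) p).mapIso e ≪≫ e'.symm⟩

end Groth.Agent.Lib.Helper83.TopPushPlus
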