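import Mathlib
import Groth.Prelude.Def_CohCx
import Groth.Agent.Lib.Helper83.SheafHDInj

/-!
# Injectivity on stalks of cohomology sheaves from local injectivity on hypercohomology (helper83)
-/

set_option autoImplicit false
universe w u

namespace Groth.Agent.Lib.Helper83.TopStalkInj

open CategoryTheory CategoryTheory.Limits Opposite DerivedCategory TopologicalSpace
open Groth.Agent.Lib.Helper5.SiteCoh Groth.Agent.Lib.Helper83.SingleHom Groth.Agent.Lib.Helper83.SheafHD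
  Groth.Agent.Lib.Helper83.SheafHDInj

variable {X : TopCat.{u}} [HasDerivedCategory.{w} (CohTop.Ab X)]

theorem stalk_injective_H0 {M N : DerivedCategory (CohTop.Ab X)} (b : M ⟶ N) (x : X)
    (h : ∀ V : Opens X, x ∈ V → ∃ U : Opens X, x ∈ U ∧ U ≤ V ∧
      ∀ y : (DerivedCategory.singleFunctor (CohTop.Ab X) 0).obj
        (freeSheaf (Opens.grothendieckTopology X) U) ⟶ M, y ≫ b = 0 → y = 0) :
    Function.Injective ((TopCat.Presheaf.stalkFunctor AddCommGrpCat.{u} x).map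
      ((DerivedCategory.homologyFunctor (CohTop.Ab X) 0).map b).hom) := by
  obtain ⟨LM, hLM, ⟨eM⟩⟩ := exists_kInjective M
  obtain ⟨LN, hLN, ⟨eN⟩⟩ := exists_kInjective N
  set FM := (DerivedCategory.homologyFunctor (CohTop.Ab X) 0).obj M with hFM
  set FN := (DerivedCategory.homologyFunctor (CohTop.Ab X) 0).obj N with hFN
  set Hb := (DerivedCategory.homologyFunctor (CohTop.Ab X) 0).map b with hHb
  rw [← AddMonoidHom.coe_coe, injective_iff_map_eq_zero]
  intro t ht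
  obtain ⟨V, hxV, s, rfl⟩ := TopCat.Presheaf.exists_germ_eq FM.obj t
  have ht' : TopCat.Presheaf.germ FN.obj V x hxV (Hb.hom.app (op V) s) = TopCat.Presheaf.germ FN.obj V x hxV 0 := by
    rw [map_zero]
    exact (TopCat.Presheaf.stalkFunctor_map_germ_apply V x hxV Hb.hom s).symm.trans ht
  obtain ⟨W, hxW, iU, iV, hW⟩ := TopCat.Presheaf.germ_eq FN.obj x hxV hxV _ _ ht'
  rw [map_zero] at hW
  -- restrict to `W`
  set sW := FM.obj.map iU.op s with hsW
  have hsW0 : Hb.hom.app (op W) sW = 0 := by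
    rw [hsW, ← hW]
    exact congrArg (fun φ => (ConcreteCategory.hom φ) s) (Hb.hom.naturality iU.op)
  set ψ : freeSheaf (Opens.grothendieckTopology X) W ⟶ FM := (βAdd W FM).symm sW with hψ
  have hψb : ψ ≫ Hb = 0 := by
    apply (βAdd W FN).injective
    rw [βAdd_naturality, hψ, AddEquiv.apply_symm_apply, map_zero]
    exact hsW0
  obtain ⟨R, hR, hR'⟩ := locally_surj eM ψ
  obtain ⟨W₁, g₁, hg₁, hxW₁⟩ := hR x hxW
  obtain ⟨y₁, hy₁⟩ := hR' g₁ hg₁
  have hz : h0 (y₁ ≫ b) = 0 := by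
    rw [h0_postcomp, hy₁, Category.assoc]
    erw [hψb]
    rw [comp_zero]
  obtain ⟨R₁, hR₁, hR₁'⟩ := locally_zero eN (y₁ ≫ b) hz
  obtain ⟨W₂, g₂, hg₂, hxW₂⟩ := hR₁ x hxW₁
  obtain ⟨U, hxU, hUW₂, hinj⟩ := h W₂ hxW₂
  let g₃ : U ⟶ W₂ := homOfLE hUW₂
  let y₃ := (DerivedCategory.singleFunctor (CohTop.Ab X) 0).map
    (freeMap (Opens.grothendieckTopology X) (g₃ ≫ g₂)) ≫ y₁
  have hy₃b : y₃ ≫ b = 0 := by
    dsimp only [y₃]
    rw [freeMap_comp, Functor.map_comp, Category.assoc, Category.assoc, hR₁' g₂ hg₂, comp_zero]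
  have hy₃ : h0 y₃ = freeMap (Opens.grothendieckTopology X) ((g₃ ≫ g₂) ≫ g₁) ≫ ψ := by
    dsimp only [y₃]
    rw [h0_precomp, hy₁, ← Category.assoc, ← freeMap_comp]
  rw [hinj y₃ hy₃b, h0_zero] at hy₃
  have hres : FM.obj.map ((g₃ ≫ g₂) ≫ g₁).op sW = 0 := by
    have h2 := βAdd_freeMap ((g₃ ≫ g₂) ≫ g₁) FM ψ
    rw [← hy₃, map_zero, hψ, AddEquiv.apply_symm_apply] at h2
    exact h2.symm
  have h3 : TopCat.Presheaf.germ FM.obj V x hxV s = TopCat.Presheaf.germ FM.obj U x hxU (FM.obj.map (((g₃ ≫ g₂) ≫ g₁) ≫ iU).op s) :=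
    (TopCat.Presheaf.germ_res_apply FM.obj (((g₃ ≫ g₂) ≫ g₁) ≫ iU) x hxU s).symm
  rw [h3, op_comp, Functor.map_comp, ConcreteCategory.comp_apply, ← hsW, hres, map_zero]
  rfl

end Groth.Agent.Lib.Helper83.TopStalkInj
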