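import Mathlib

/-!
# The cohomology of a limit of a tower of complexes of abelian groups, elementwise (helper83)

Four-term pieces `P n → Q n → R n → S n` of a tower of complexes, with termwise limit
`ΛQ → ΛR → ΛS` (only the universal property is used). If `lim¹ P = lim¹ Q = 0`,
`lim¹ H(Q) = 0` (elementwise form) and the transition maps are bijective on `H(R)`
(elementwise form), then `H(ΛR) → H(R 0)` is bijective (elementwise form).
-/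

set_option autoImplicit false
universe u

namespace Groth.Agent.Lib.Helper83.TowerCx

variable {P Q R S : ℕ → Type u} [∀ n, AddCommGroup (P n)] [∀ n, AddCommGroup (Q n)]
  [∀ n, AddCommGroup (R n)] [∀ n, AddCommGroup (S n)]
  (d1 : ∀ n, P n →+ Q n) (d2 : ∀ n, Q n →+ R n) (d3 : ∀ n, R n →+ S n)
  (tP : ∀ n, P (n + 1) →+ P n) (tQ : ∀ n, Q (n + 1) →+ Q n) (tR : ∀ n, R (n + 1) →+ R n)
  (tS : ∀ n, S (n + 1) →+ S n)
  (h21 : ∀ n x, d2 n (d1 n x) = 0) (h32 : ∀ n x, d3 n (d2 n x) = 0)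
  (c1 : ∀ n x, d1 n (tP n x) = tQ n (d1 (n + 1) x))
  (c2 : ∀ n x, d2 n (tQ n x) = tR n (d2 (n + 1) x))
  (c3 : ∀ n x, d3 n (tR n x) = tS n (d3 (n + 1) x))
  {ΛQ ΛR ΛS : Type u} [AddCommGroup ΛQ] [AddCommGroup ΛR] [AddCommGroup ΛS]
  (dQ : ΛQ →+ ΛR) (dR : ΛR →+ ΛS)
  (pQ : ∀ n, ΛQ →+ Q n) (pR : ∀ n, ΛR →+ R n) (pS : ∀ n, ΛS →+ S n)
  (hpR : ∀ n y, tR n (pR (n + 1) y) = pR n y)
  (cpQ : ∀ n y, d2 n (pQ n y) = pR n (dQ y)) (cpR : ∀ n y, d3 n (pR n y) = pS n (dR y))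
  (exQ : ∀ x : ∀ n, Q n, (∀ n, tQ n (x (n + 1)) = x n) → ∃ y : ΛQ, ∀ n, pQ n y = x n)
  (exR : ∀ x : ∀ n, R n, (∀ n, tR n (x (n + 1)) = x n) → ∃ y : ΛR, ∀ n, pR n y = x n)
  (unR : ∀ y : ΛR, (∀ n, pR n y = 0) → y = 0) (unS : ∀ y : ΛS, (∀ n, pS n y = 0) → y = 0)
  (ha2 : ∀ b : ∀ n, P n, ∃ a : ∀ n, P n, ∀ n, a n - tP n (a (n + 1)) = b n)
  (ha1 : ∀ b : ∀ n, Q n, ∃ a : ∀ n, Q n, ∀ n, a n - tQ n (a (n + 1)) = b n)
  (hb : ∀ e : ∀ n, Q n, (∀ n, d2 n (e n) = 0) → ∃ W : ∀ n, Q n, (∀ n, d2 n (W n) = 0) ∧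
    ∀ n, ∃ a : P n, e n - (W n - tQ n (W (n + 1))) = d1 n a)
  (hci : ∀ n (z : R (n + 1)), d3 (n + 1) z = 0 → (∃ y, d2 n y = tR n z) → ∃ y, d2 (n + 1) y = z)
  (hcs : ∀ n (z : R n), d3 n z = 0 → ∃ z' : R (n + 1), d3 (n + 1) z' = 0 ∧
    ∃ y, tR n z' - z = d2 n y)

include h32 c2 cpR exR unS ha1 hcs in
theorem surj (z₀ : R 0) (hz₀ : d3 0 z₀ = 0) :
    ∃ z : ΛR, dR z = 0 ∧ ∃ y₀ : Q 0, pR 0 z - z₀ = d2 0 y₀ := by
  classical
  -- a sequence of cycles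
  let zs : ∀ n, {z : R n // d3 n z = 0} := fun n =>
    Nat.rec (motive := fun n => {z : R n // d3 n z = 0}) ⟨z₀, hz₀⟩
      (fun n zn => ⟨(hcs n zn.1 zn.2).choose, (hcs n zn.1 zn.2).choose_spec.1⟩) n
  have hzs : ∀ n, ∃ y, tR n (zs (n + 1)).1 - (zs n).1 = d2 n y := fun n =>
    (hcs n (zs n).1 (zs n).2).choose_spec.2
  choose b hb' using hzs
  obtain ⟨c, hc⟩ := ha1 b
  let z : ∀ n, R n := fun n => (zs n).1 + d2 n (c n)
  have hz : ∀ n, tR n (z (n + 1)) = z n := by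
    intro n
    change tR n ((zs (n + 1)).1 + d2 (n + 1) (c (n + 1))) = (zs n).1 + d2 n (c n)
    rw [map_add, ← c2]
    have h1 := hb' n
    rw [sub_eq_iff_eq_add] at h1
    have h2 : d2 n (c n) = d2 n (b n) + d2 n (tQ n (c (n + 1))) := by
      rw [← map_add, ← hc n]
      congr 1
      abel
    rw [h1, h2]
    abel
  obtain ⟨y, hy⟩ := exR z hz
  refine ⟨y, ?_, c 0, ?_⟩
  · apply unS
    intro n
    rw [← cpR, hy n]
    change d3 n ((zs n).1 + d2 n (c n)) = 0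
    rw [map_add, (zs n).2, h32, add_zero]
  · rw [hy 0]
    change z₀ + d2 0 (c 0) - z₀ = _
    abel

include h21 c1 c2 hpR cpQ cpR exQ unR ha2 hb hci in
theorem inj (z : ΛR) (hz : dR z = 0) (hy₀ : ∃ y₀ : Q 0, d2 0 y₀ = pR 0 z) :
    ∃ y : ΛQ, dQ y = z := by
  have h1 : ∀ n, ∃ y, d2 n y = pR n z := by
    intro n
    induction n with
    | zero => exact hy₀
    | succ n ih =>
      apply hci n
      · rw [cpR, hz, map_zero]
      · rw [hpR]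
        exact ih
  choose y' hy' using h1
  let e : ∀ n, Q n := fun n => tQ n (y' (n + 1)) - y' n
  have he : ∀ n, d2 n (e n) = 0 := by
    intro n
    change d2 n (tQ n (y' (n + 1)) - y' n) = 0
    rw [map_sub, c2, hy', hy', hpR, sub_self]
  obtain ⟨W, hW, hWa⟩ := hb e he
  choose a ha using hWa
  obtain ⟨a', ha'⟩ := ha2 a
  let y : ∀ n, Q n := fun n => y' n + (W n + d1 n (a' n))
  have hyt : ∀ n, tQ n (y (n + 1)) = y n := by
    intro n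
    change tQ n (y' (n + 1) + (W (n + 1) + d1 (n + 1) (a' (n + 1)))) = y' n + (W n + d1 n (a' n))
    rw [map_add, map_add, ← c1]
    have e1 : d1 n (a' n) = d1 n (a n) + d1 n (tP n (a' (n + 1))) := by
      rw [← map_add, ← ha' n]
      congr 1
      abel
    have e2 := ha n
    change tQ n (y' (n + 1)) - y' n - (W n - tQ n (W (n + 1))) = d1 n (a n) at e2
    rw [e1, ← e2]
    abel
  obtain ⟨Y, hY⟩ := exQ y hyt
  refine ⟨Y, ?_⟩
  rw [← sub_eq_zero]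
  apply unR
  intro n
  rw [map_sub, ← cpQ, hY n]
  change d2 n (y' n + (W n + d1 n (a' n))) - pR n z = 0
  rw [map_add, map_add, hy', hW, h21]
  abel

end Groth.Agent.Lib.Helper83.TowerCx
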