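import Mathlib
import Groth.Prelude.Def_CohCx
import Groth.Agent.Lib.Helper83.AbCx
import Groth.Agent.Lib.Helper83.TowerCx

/-!
# `H^m` of the limit of a tower of complexes of abelian groups (helper83)
-/

set_option autoImplicit false
universe u

namespace Groth.Agent.Lib.Helper83.TowerCxAb

open CategoryTheory Limits
open Groth.Agent.Lib.Helper83.AbCx

theorem bijective_homologyMap_of_tower
    (A : ℕ → CochainComplex AddCommGrpCat.{u} ℤ) (τ : ∀ n, A (n + 1) ⟶ A n)
    (Λ : CochainComplex AddCommGrpCat.{u} ℤ) (p : ∀ n, Λ ⟶ A n)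
    (hp : ∀ n, p (n + 1) ≫ τ n = p n)
    (hex : ∀ (j : ℤ) (x : ∀ n, (A n).X j), (∀ n, (τ n).f j (x (n + 1)) = x n) →
      ∃ y : Λ.X j, ∀ n, (p n).f j y = x n)
    (hun : ∀ (j : ℤ) (y : Λ.X j), (∀ n, (p n).f j y = 0) → y = 0)
    (m m1 m2 : ℤ) (h1 : m1 + 1 = m) (h2 : m2 + 1 = m1)
    (ha1 : CohCx.LimOneIsZero (fun n => (A n).X m1) (fun n => ((τ n).f m1).hom))
    (ha2 : CohCx.LimOneIsZero (fun n => (A n).X m2) (fun n => ((τ n).f m2).hom))
    (hb : CohCx.LimOneIsZero (fun n => (A n).homology m1)
      (fun n => (HomologicalComplex.homologyMap (τ n) m1).hom))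
    (hc : ∀ n, Function.Bijective (HomologicalComplex.homologyMap (τ n) m)) :
    Function.Bijective (HomologicalComplex.homologyMap (p 0) m) := by
  have hpf : ∀ (j : ℤ) (n : ℕ) (y : Λ.X j), (τ n).f j ((p (n + 1)).f j y) = (p n).f j y := by
    intro j n y
    have := ConcreteCategory.congr_hom (congrArg (fun φ => φ.f j) (hp n)) y
    rw [HomologicalComplex.comp_f, ConcreteCategory.comp_apply] at this
    exact this
  have hbe : ∀ e : ∀ n, (A n).X m1, (∀ n, (A n).d m1 m (e n) = 0) →
      ∃ W : ∀ n, (A n).X m1, (∀ n, (A n).d m1 m (W n) = 0) ∧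
        ∀ n, ∃ a : (A n).X m2, e n - (W n - (τ n).f m1 (W (n + 1))) = (A n).d m2 m1 a := by
    intro e he
    have hcl : ∀ n, ∃ h : (A n).homology m1, IsClass (A n) (e n) h :=
      fun n => IsClass.exists_class h1 (e n) (he n)
    choose h hh using hcl
    obtain ⟨η, hη⟩ := hb h
    have hrep : ∀ n, ∃ w : (A n).X m1, IsClass (A n) w (η n) := fun n => IsClass.exists_rep (η n)
    choose W hW using hrep
    refine ⟨W, fun n => (hW n).d_eq_zero m, fun n => ?_⟩
    have key := (hh n).sub ((hW n).sub ((hW (n + 1)).map (τ n)))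
    have hz : h n - (η n - HomologicalComplex.homologyMap (τ n) m1 (η (n + 1))) = 0 := by
      rw [sub_eq_zero]
      exact (congrFun hη n).symm
    rw [hz] at key
    obtain ⟨a, ha⟩ := key.exists_of_zero h2
    exact ⟨a, ha.symm⟩
  constructor
  · rw [homologyMap_injective_iff (p 0) m1 m (m + 1) h1 rfl]
    intro z hz hy₀
    exact TowerCx.inj (P := fun n => (A n).X m2) (Q := fun n => (A n).X m1)
      (R := fun n => (A n).X m) (S := fun n => (A n).X (m + 1))
      (fun n => ((A n).d m2 m1).hom) (fun n => ((A n).d m1 m).hom)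
      (fun n => ((A n).d m (m + 1)).hom)
      (fun n => ((τ n).f m2).hom) (fun n => ((τ n).f m1).hom) (fun n => ((τ n).f m).hom)
      (fun n x => by
        have := ConcreteCategory.congr_hom ((A n).d_comp_d m2 m1 m) x
        rw [ConcreteCategory.comp_apply] at this
        exact this)
      (fun n x => (comm_apply (τ n) m2 m1 x).symm)
      (fun n x => (comm_apply (τ n) m1 m x).symm)
      ((Λ.d m1 m).hom) ((Λ.d m (m + 1)).hom)
      (fun n => ((p n).f m1).hom) (fun n => ((p n).f m).hom) (fun n => ((p n).f (m + 1)).hom)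
      (hpf m)
      (fun n y => (comm_apply (p n) m1 m y).symm)
      (fun n y => (comm_apply (p n) m (m + 1) y).symm)
      (hex m1) (hun m)
      (fun b => by
        obtain ⟨a, ha⟩ := ha2 b
        exact ⟨a, fun n => congrFun ha n⟩)
      hbe
      (fun n => (homologyMap_injective_iff (τ n) m1 m (m + 1) h1 rfl).1 (hc n).1)
      z hz hy₀
  · rw [homologyMap_surjective_iff (p 0) m1 m (m + 1) h1 rfl]
    intro w hw
    exact TowerCx.surj (Q := fun n => (A n).X m1)
      (R := fun n => (A n).X m) (S := fun n => (A n).X (m + 1))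
      (fun n => ((A n).d m1 m).hom)
      (fun n => ((A n).d m (m + 1)).hom)
      (fun n => ((τ n).f m1).hom) (fun n => ((τ n).f m).hom)
      (fun n x => by
        have := ConcreteCategory.congr_hom ((A n).d_comp_d m1 m (m + 1)) x
        rw [ConcreteCategory.comp_apply] at this
        exact this)
      (fun n x => (comm_apply (τ n) m1 m x).symm)
      ((Λ.d m (m + 1)).hom)
      (fun n => ((p n).f m).hom) (fun n => ((p n).f (m + 1)).hom)
      (fun n y => (comm_apply (p n) m (m + 1) y).symm)
      (hex m) (hun (m + 1))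
      (fun b => by
        obtain ⟨a, ha⟩ := ha1 b
        exact ⟨a, fun n => congrFun ha n⟩)
      (fun n => (homologyMap_surjective_iff (τ n) m1 m (m + 1) h1 rfl).1 (hc n).2)
      w hw

end Groth.Agent.Lib.Helper83.TowerCxAb
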