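import Mathlib
import Groth.Prelude.Def_CohCx

/-!
# Elements of limits of towers of types from shifted compatible families; shifting `lim¹ = 0` (helper83)
-/

set_option autoImplicit false
universe u

namespace Groth.Agent.Lib.Helper83.TowerSections

open CategoryTheory Limits Opposite

variable {Φ : ℕᵒᵖ ⥤ Type u} (n₀ : ℕ)

lemma compat_all (x : ∀ k, Φ.obj (op (n₀ + k)))
    (hx : ∀ k, Φ.map (homOfLE (Nat.le_succ (n₀ + k))).op (x (k + 1)) = x k)
    (a b : ℕ) (h : a ≤ b) :
    Φ.map (homOfLE (Nat.add_le_add_left h n₀)).op (x b) = x a := by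
  induction b, h using Nat.le_induction with
  | base =>
    have : (homOfLE (Nat.add_le_add_left (le_refl a) n₀)).op = 𝟙 (op (n₀ + a)) :=
      Subsingleton.elim _ _
    rw [this, Functor.map_id_apply]
  | succ b hab ih =>
    have : (homOfLE (Nat.add_le_add_left (Nat.le_succ_of_le hab) n₀)).op =
        (homOfLE (Nat.le_succ (n₀ + b))).op ≫ (homOfLE (Nat.add_le_add_left hab n₀)).op :=
      Subsingleton.elim _ _
    rw [this, Functor.map_comp_apply, hx b, ih]

theorem exists_of_shifted (c : Cone Φ) (hc : IsLimit c) (x : ∀ k, Φ.obj (op (n₀ + k)))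
    (hx : ∀ k, Φ.map (homOfLE (Nat.le_succ (n₀ + k))).op (x (k + 1)) = x k) :
    ∃ y : c.pt, ∀ k, c.π.app (op (n₀ + k)) y = x k := by
  let X : ∀ n : ℕᵒᵖ, Φ.obj n := fun n =>
    Φ.map (homOfLE (Nat.le_add_left n.unop n₀)).op (x n.unop)
  have hX : X ∈ Φ.sections := by
    intro n n' f
    have hle : n'.unop ≤ n.unop := leOfHom f.unop
    have h1 := compat_all n₀ x hx n'.unop n.unop hle
    change Φ.map f (Φ.map (homOfLE (Nat.le_add_left n.unop n₀)).op (x n.unop)) =
      Φ.map (homOfLE (Nat.le_add_left n'.unop n₀)).op (x n'.unop)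
    rw [← h1, ← Functor.map_comp_apply, ← Functor.map_comp_apply]
    congr 1
  obtain ⟨y, hy, -⟩ := (Types.isLimit_iff c).1 ⟨hc⟩ X hX
  refine ⟨y, fun k => ?_⟩
  rw [hy (op (n₀ + k))]
  exact compat_all n₀ x hx k (n₀ + k) (Nat.le_add_left k n₀)

theorem ext_of_shifted (c : Cone Φ) (hc : IsLimit c) (y y' : c.pt)
    (h : ∀ k, c.π.app (op (n₀ + k)) y = c.π.app (op (n₀ + k)) y') : y = y' := by
  apply (Types.isLimitEquivSections hc).injective
  ext n
  change c.π.app n y = c.π.app n y'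
  have e : ∀ z : c.pt, c.π.app n z =
      Φ.map (homOfLE (Nat.le_add_left n.unop n₀)).op (c.π.app (op (n₀ + n.unop)) z) := by
    intro z
    exact (ConcreteCategory.congr_hom (c.w (homOfLE (Nat.le_add_left n.unop n₀)).op) z).symm
  rw [e y, e y', h]

lemma cast_fam {A : ℕ → Type u} (b : ∀ k, A (n₀ + k)) (j k : ℕ) (e : j = k)
    (e' : A (n₀ + j) = A (n₀ + k)) : cast e' (b j) = b k := by
  subst e
  rfl

/-- extension by zero of a shifted family -/
noncomputable def extend {A : ℕ → Type u} [∀ n, AddCommGroup (A n)] (b : ∀ k, A (n₀ + k)) (n : ℕ) :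
    A n :=
  if hn : n₀ ≤ n then cast (congrArg A (show n₀ + (n - n₀) = n by omega)) (b (n - n₀)) else 0

lemma extend_add {A : ℕ → Type u} [∀ n, AddCommGroup (A n)] (b : ∀ k, A (n₀ + k)) (k : ℕ) :
    extend n₀ b (n₀ + k) = b k := by
  unfold extend
  rw [dif_pos (Nat.le_add_right n₀ k)]
  exact cast_fam n₀ b _ _ (by omega) _

theorem limOneIsZero_shift (A : ℕ → Type u) [∀ n, AddCommGroup (A n)] (t : ∀ n, A (n + 1) →+ A n)
    (h : CohCx.LimOneIsZero A t) :
    CohCx.LimOneIsZero (fun k => A (n₀ + k)) (fun k => t (n₀ + k)) := by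
  intro b
  obtain ⟨a', ha'⟩ := h (extend n₀ b)
  refine ⟨fun k => a' (n₀ + k), ?_⟩
  funext k
  exact (congrFun ha' (n₀ + k)).trans (extend_add n₀ b k)

end Groth.Agent.Lib.Helper83.TowerSections
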