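import Mathlib
import Groth.Prelude.Def_CohCx
import Groth.Agent.Lib.Helper83.SectQis
import Groth.Agent.Lib.Helper83.TowerCxAb
import Groth.Agent.Lib.Helper83.TowerSections

/-!
# `H^m` of a limit of a tower of complexes of abelian sheaves (helper83)
-/

set_option autoImplicit false
universe u

namespace Groth.Agent.Lib.Helper83.TowerSheafCx

open CategoryTheory Limits Opposite
open Groth.Agent.Lib.Helper83

variable {C : Type u} [SmallCategory C] (J : GrothendieckTopology C)

/-- sections over `U` in degree `j`, as a type -/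
noncomputable abbrev E (U : C) (j : ℤ) : CochainComplex (Sheaf J AddCommGrpCat.{u}) ℤ ⥤ Type u :=
  HomologicalComplex.eval _ _ j ⋙ sheafToPresheaf J AddCommGrpCat.{u} ⋙
    (evaluation Cᵒᵖ AddCommGrpCat.{u}).obj (op U) ⋙ forget AddCommGrpCat.{u}

theorem isIso_homologyMap_limit_π
    (F : ℕ → CochainComplex (Sheaf J AddCommGrpCat.{u}) ℤ) (t : ∀ n, F (n + 1) ⟶ F n) (m : ℤ)
    (B : Set C)
    (hB : ∀ U : C, ∃ (ι : Type u) (Y : ι → C) (f : ∀ i, Y i ⟶ U), Sieve.ofArrows Y f ∈ J U ∧ ∀ i, Y i ∈ B)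
    (n₀ : ℕ)
    (ha : ∀ U ∈ B, ∀ j : ℤ, (j = m - 2 ∨ j = m - 1) →
      CohCx.LimOneIsZero (fun n => ((F n).X j).obj.obj (op U)) (fun n => (((t n).f j).hom.app (op U)).hom))
    (hb : ∀ U ∈ B, CohCx.LimOneIsZero
      (fun n => ((CohCx.sectCx J U).obj (F n)).homology (m - 1))
      (fun n => (HomologicalComplex.homologyMap ((CohCx.sectCx J U).map (t n)) (m - 1)).hom))
    (hc : ∀ U ∈ B, ∀ k : ℕ, IsIso (HomologicalComplex.homologyMap
      ((CohCx.sectCx J U).map (CohCx.transition F t n₀ k)) m)) :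
    IsIso (HomologicalComplex.homologyMap (limit.π (CohCx.opSequence F t) (op n₀)) m) := by
  rw [← quasiIsoAt_iff_isIso_homologyMap]
  apply SectQis.quasiIsoAt_of_sections J _ m B hB
  intro U hU
  rw [quasiIsoAt_iff_isIso_homologyMap]
  rw [ConcreteCategory.isIso_iff_bijective]
  let G := CohCx.opSequence F t
  have hGsucc : ∀ n, G.map (homOfLE (Nat.le_succ n)).op = t n :=
    fun n => Functor.ofOpSequence_map_homOfLE_succ _ n
  have hl : ∀ j : ℤ, IsLimit ((E J U j).mapCone (limit.cone G)) :=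
    fun j => isLimitOfPreserves (E J U j) (limit.isLimit G)
  refine TowerCxAb.bijective_homologyMap_of_tower
    (fun k => (CohCx.sectCx J U).obj (F (n₀ + k)))
    (fun k => (CohCx.sectCx J U).map (t (n₀ + k)))
    ((CohCx.sectCx J U).obj (limit G))
    (fun k => (CohCx.sectCx J U).map (limit.π G (op (n₀ + k))))
    ?_ ?_ ?_ m (m - 1) (m - 2) (by ring) (by ring) ?_ ?_ ?_ ?_
  · intro k
    rw [← Functor.map_comp]
    congr 1
    rw [← hGsucc]
    exact limit.w G (homOfLE (Nat.le_succ (n₀ + k))).op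
  · intro j x hx
    obtain ⟨y, hy⟩ := TowerSections.exists_of_shifted n₀ _ (hl j) x (fun k => by
      refine Eq.trans ?_ (hx k)
      change (E J U j).map (G.map (homOfLE (Nat.le_succ (n₀ + k))).op) (x (k + 1)) = _
      rw [hGsucc]
      rfl)
    exact ⟨y, hy⟩
  · intro j y hy
    apply TowerSections.ext_of_shifted n₀ _ (hl j) y
      (0 : (((CohCx.sectCx J U).obj (limit G)).X j : Type u))
    intro k
    refine (hy k).trans ?_
    exact (map_zero (((CohCx.sectCx J U).map (limit.π G (op (n₀ + k)))).f j).hom).symm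
  · exact TowerSections.limOneIsZero_shift n₀ _ _ (ha U hU (m - 1) (Or.inr rfl))
  · exact TowerSections.limOneIsZero_shift n₀ _ _ (ha U hU (m - 2) (Or.inl rfl))
  · exact TowerSections.limOneIsZero_shift n₀ _ _ (hb U hU)
  · intro k
    have h1 := hc U hU (k + 1)
    have h2 := hc U hU k
    have e : (CohCx.sectCx J U).map (CohCx.transition F t n₀ (k + 1)) =
        (CohCx.sectCx J U).map (t (n₀ + k)) ≫ (CohCx.sectCx J U).map (CohCx.transition F t n₀ k) := by
      rw [← Functor.map_comp]
      rfl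
    rw [e, HomologicalComplex.homologyMap_comp] at h1
    have h3 : IsIso (HomologicalComplex.homologyMap ((CohCx.sectCx J U).map (t (n₀ + k))) m) :=
      IsIso.of_isIso_comp_right _
        (HomologicalComplex.homologyMap ((CohCx.sectCx J U).map (CohCx.transition F t n₀ k)) m)
    exact (ConcreteCategory.isIso_iff_bijective _).1 h3

end Groth.Agent.Lib.Helper83.TowerSheafCx
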