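import Mathlib
import Groth.Prelude.Def_CohCx
import Groth.Agent.Lib.Helper83.TruncTower
import Groth.Agent.Lib.Helper83.TruncTowerSite
import Groth.Agent.S0874

/-!
# `E` is the derived limit of its truncations under pointwise bounded vanishing (spaces; helper83)
-/

set_option autoImplicit false
universe u

namespace Groth.Agent.Lib.Helper83.TruncTowerTop

open CategoryTheory Limits Opposite DerivedCategory TopologicalSpace
open Groth.Agent.Lib.Helper83.TruncTower Groth.Agent.Lib.Helper83.TruncTowerSite

theorem isRlimVia_truncTower_top {X : TopCat.{u}} [HasDerivedCategory.{u} (CohTop.Ab X)]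
    (E : DerivedCategory (CohTop.Ab X)) [HasProduct (CohCx.truncTower E)]
    (h : ∀ x : X, ∀ m : ℤ, ∃ N : ℕ, -(N : ℤ) ≤ m ∧ ∀ V : Opens X, x ∈ V →
      ∃ U : Opens X, x ∈ U ∧ U ≤ V ∧ ∀ n : ℕ, N ≤ n → ∀ k : ℕ, (k : ℤ) = m + n + 1 →
        Subsingleton (CohTop.HU (CohCx.HD E (m - k)) k U)) :
    CohCx.IsRlimVia (CohCx.truncTower E) (CohCx.truncTowerMap E) E (CohCx.toTruncTower E) := by
  apply isRlimVia_truncTower E
  intro L a hL u hu m
  let φ : CohCx.HD E m ⟶ CohCx.HD L m := (DerivedCategory.homologyFunctor (CohTop.Ab X) m).map u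
  have key : ∀ x : X, IsIso ((TopCat.Presheaf.stalkFunctor AddCommGrpCat.{u} x).map φ.hom) := by
    intro x
    obtain ⟨N, hNm, hN⟩ := h x m
    have hinj : Function.Injective ((TopCat.Presheaf.stalkFunctor AddCommGrpCat.{u} x).map
        ((DerivedCategory.homologyFunctor (CohTop.Ab X) m).map (a N)).hom) := by
      apply Groth.Agent.S0874.result (CohCx.truncTower E) (CohCx.truncTowerMap E) L a hL x m N
      intro V hxV
      obtain ⟨U, hxU, hUV, hvan⟩ := hN V hxV
      exact ⟨U, hxU, hUV, tower_hyps (CohCx.freeSheaf (Opens.grothendieckTopology X) U) E m N hvan⟩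
    have hcomp : φ ≫ (DerivedCategory.homologyFunctor (CohTop.Ab X) m).map (a N) =
        (DerivedCategory.homologyFunctor (CohTop.Ab X) m).map (CohCx.toTruncTower E N) := by
      rw [← Functor.map_comp, hu]
    have hiso : IsIso ((DerivedCategory.homologyFunctor (CohTop.Ab X) m).map
        (CohCx.toTruncTower E N)) := isIso_homology_toTruncTower E N m hNm
    have hiso2 : IsIso ((TopCat.Presheaf.stalkFunctor AddCommGrpCat.{u} x).map
        ((DerivedCategory.homologyFunctor (CohTop.Ab X) m).map (CohCx.toTruncTower E N)).hom) := by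
      have : IsIso ((DerivedCategory.homologyFunctor (CohTop.Ab X) m).map
          (CohCx.toTruncTower E N)).hom :=
        (inferInstance : IsIso ((sheafToPresheaf _ _).map
          ((DerivedCategory.homologyFunctor (CohTop.Ab X) m).map (CohCx.toTruncTower E N))))
      infer_instance
    have hbij := (ConcreteCategory.isIso_iff_bijective _).1 hiso2
    rw [← hcomp] at hbij
    have hbij' : Function.Bijective
        (((TopCat.Presheaf.stalkFunctor AddCommGrpCat.{u} x).map
          ((DerivedCategory.homologyFunctor (CohTop.Ab X) m).map (a N)).hom) ∘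
         ((TopCat.Presheaf.stalkFunctor AddCommGrpCat.{u} x).map φ.hom)) := by
      have e : (TopCat.Presheaf.stalkFunctor AddCommGrpCat.{u} x).map
          (φ ≫ (DerivedCategory.homologyFunctor (CohTop.Ab X) m).map (a N)).hom =
          (TopCat.Presheaf.stalkFunctor AddCommGrpCat.{u} x).map φ.hom ≫
          (TopCat.Presheaf.stalkFunctor AddCommGrpCat.{u} x).map
            ((DerivedCategory.homologyFunctor (CohTop.Ab X) m).map (a N)).hom :=
        (TopCat.Presheaf.stalkFunctor AddCommGrpCat.{u} x).map_comp _ _
      rw [e] at hbij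
      exact hbij
    exact (ConcreteCategory.isIso_iff_bijective _).2 (bijective_of_comp _ _ hbij' hinj)
  exact TopCat.Presheaf.isIso_of_stalkFunctor_map_iso φ

end Groth.Agent.Lib.Helper83.TruncTowerTop
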