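import Mathlib

/-!
# Functors preserving pullbacks preserve finite wide pullbacks

`WidePB.preservesLimitsOfShape_widePullbackShape_fin`: if `C` has pullbacks and `G : C ⥤ D`
preserves pullbacks, then `G` preserves limits of shape `WidePullbackShape (Fin n)` (hence commutes
with Čech nerves).  Via products in `Over B` (`overPost_preservesFiniteProducts`).
-/
set_option autoImplicit false
universe w v₁ v₂ u₁ u₂
open CategoryTheory Limits Over.ConstructProducts

namespace Groth.Agent.Lib.Helper83.WidePB

variable {C : Type u₁} [Category.{v₁} C] {D : Type u₂} [Category.{v₂} D] (G : C ⥤ D)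

section
variable {J : Type w} {B : C} {A : J → C} (h : ∀ j, A j ⟶ B)

/-- the family `h` as a discrete diagram in `Over B` -/
abbrev FO : Discrete J ⥤ Over B := Discrete.functor (fun j => Over.mk (h j))

/-- the image family as a discrete diagram in `Over (G B)` -/
abbrev FO' : Discrete J ⥤ Over (G.obj B) := Discrete.functor (fun j => Over.mk (G.map (h j)))

/-- compatibility -/
def eFO : FO h ⋙ Over.post (X := B) G ≅ FO' G h := Discrete.natIso (fun _ => Iso.refl _)

lemma preservesLimit_wideCospan [PreservesLimit (FO h) (Over.post (X := B) G)] :
    PreservesLimit (WidePullbackShape.wideCospan B A h) G := by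
  refine ⟨fun {c} hc => ⟨?_⟩⟩
  have hc1 : IsLimit ((conesEquiv B (FO h)).functor.obj c) :=
    (IsLimit.ofConeEquiv (conesEquiv B (FO h))).symm hc
  have hc2 := isLimitOfPreserves (Over.post (X := B) G) hc1
  have hc3 := (IsLimit.postcomposeHomEquiv (eFO G h) _).symm hc2
  have hc4 := (IsLimit.ofConeEquiv (conesEquiv (G.obj B) (FO' G h)).symm).symm hc3
  let e' : WidePullbackShape.wideCospan B A h ⋙ G ≅
      WidePullbackShape.wideCospan (G.obj B) (fun j => G.obj (A j)) (fun j => G.map (h j)) :=
    WidePullbackShape.diagramIsoWideCospan _
  refine (IsLimit.postcomposeHomEquiv e' _) ?_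
  refine IsLimit.ofIsoLimit hc4 (Cone.ext (Iso.refl _) ?_)
  rintro (_ | j)
  · refine Eq.trans ?_ (Category.id_comp _).symm
    exact (Category.comp_id (G.map (c.π.app none))).symm
  · refine Eq.trans ?_ (Category.id_comp _).symm
    refine Eq.trans ?_ (Category.comp_id (G.map (c.π.app (some j)))).symm
    exact Category.comp_id (G.map (c.π.app (some j)))

end

section finite

variable [HasPullbacks C] [PreservesLimitsOfShape WalkingCospan G]

lemma hasFiniteProducts_over (U : C) : HasFiniteProducts (Over U) :=
  have : HasBinaryProducts (Over U) := Over.ConstructProducts.over_binaryProduct_of_pullback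
  have : HasTerminal (Over U) := Over.over_hasTerminal U
  hasFiniteProducts_of_has_binary_and_terminal

omit [HasPullbacks C] [PreservesLimitsOfShape WalkingCospan G] in
lemma overPost_preservesTerminal (U : C) :
    PreservesLimit (Functor.empty.{0} (Over U)) (Over.post (X := U) G) := by
  have : HasTerminal (Over U) := Over.over_hasTerminal U
  have : HasTerminal (Over (G.obj U)) := Over.over_hasTerminal _
  have hT : IsTerminal ((Over.post (X := U) G).obj (Over.mk (𝟙 U))) :=
    IsTerminal.ofIso Over.mkIdTerminal
      (Over.isoMk (f := Over.mk (𝟙 (G.obj U))) (g := (Over.post (X := U) G).obj (Over.mk (𝟙 U)))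
        (Iso.refl _) (by
          change 𝟙 (G.obj U) ≫ G.map (𝟙 U) = 𝟙 (G.obj U)
          rw [G.map_id, Category.comp_id]))
  apply preservesTerminal_of_iso
  exact (Functor.mapIso _ (terminalIsTerminal.uniqueUpToIso Over.mkIdTerminal)) ≪≫
    hT.uniqueUpToIso terminalIsTerminal

lemma overPost_preservesFiniteProducts (U : C) :
    PreservesFiniteProducts (Over.post (X := U) G) := by
  have := hasFiniteProducts_over U
  have := overPost_preservesTerminal G U
  have : PreservesLimitsOfShape (Discrete.{0} PEmpty) (Over.post (X := U) G) :=
    preservesLimitsOfShape_pempty_of_preservesTerminal _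
  have : PreservesLimitsOfShape (Discrete WalkingPair) (Over.post (X := U) G) := inferInstance
  exact Limits.PreservesFiniteProducts.of_preserves_binary_and_terminal _

/-- A functor preserving pullbacks preserves finite wide pullbacks. -/
lemma preservesLimitsOfShape_widePullbackShape_fin (n : ℕ) :
    PreservesLimitsOfShape (WidePullbackShape (Fin n)) G := by
  constructor
  intro K
  have := overPost_preservesFiniteProducts G (K.obj none)
  have : PreservesLimitsOfShape (Discrete (Fin n)) (Over.post (X := K.obj none) G) :=
    PreservesFiniteProducts.preserves _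
  have := preservesLimit_wideCospan G (B := K.obj none) (A := fun j => K.obj (some j))
    (fun j => K.map (WidePullbackShape.Hom.term j))
  exact preservesLimit_of_iso_diagram G (WidePullbackShape.diagramIsoWideCospan K).symm

end finite

end Groth.Agent.Lib.Helper83.WidePB
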